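import Mathlib
import Cfsg.Prelude.Def_SporadicB
import Cfsg.Prelude.Def_FischerSpaces

/-!
Sets of 3-transpositions: elementary identities, behaviour under restriction and quotients.
-/

set_option autoImplicit false

namespace CfsgLib.ThreeTransp

open Cfsg

variable {G : Type*} [Group G] {D : Set G}

/-- Closure of a set under conjugation. -/
def IsConjClosed (D : Set G) : Prop := ∀ g : G, ∀ d ∈ D, g * d * g⁻¹ ∈ D

theorem mul_self_eq_one (hS : IsThreeTranspositionSet D) {a : G} (ha : a ∈ D) : a * a = 1 := by
  have h := pow_orderOf_eq_one a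
  rw [hS.1 a ha, pow_two] at h
  exact h

theorem inv_eq_self (hS : IsThreeTranspositionSet D) {a : G} (ha : a ∈ D) : a⁻¹ = a :=
  inv_eq_of_mul_eq_one_right (mul_self_eq_one hS ha)

theorem ne_one_of_mem (hS : IsThreeTranspositionSet D) {a : G} (ha : a ∈ D) : a ≠ 1 := by
  intro h
  have := hS.1 a ha
  rw [h, orderOf_one] at this
  norm_num at this

theorem mul_self_cancel (hS : IsThreeTranspositionSet D) {a : G} (ha : a ∈ D) (x : G) :
    a * (a * x) = x := by
  rw [← mul_assoc, mul_self_eq_one hS ha, one_mul]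

theorem mul_self_cancel_right (hS : IsThreeTranspositionSet D) {a : G} (ha : a ∈ D) (x : G) :
    x * a * a = x := by
  rw [mul_assoc, mul_self_eq_one hS ha, mul_one]

theorem commute_iff_mul_pow_two (hS : IsThreeTranspositionSet D) {a b : G} (ha : a ∈ D)
    (hb : b ∈ D) : Commute a b ↔ (a * b) ^ 2 = 1 := by
  constructor
  · intro h
    rw [h.mul_pow, pow_two, pow_two, mul_self_eq_one hS ha, mul_self_eq_one hS hb, one_mul]
  · intro h
    have h1 : a * b = (a * b)⁻¹ := eq_inv_of_mul_eq_one_left (by rw [← pow_two]; exact h)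
    rw [mul_inv_rev, inv_eq_self hS ha, inv_eq_self hS hb] at h1
    exact h1

theorem mul_pow_three_of_not_commute (hS : IsThreeTranspositionSet D) {a b : G} (ha : a ∈ D)
    (hb : b ∈ D) (h : ¬ Commute a b) : (a * b) ^ 3 = 1 :=
  (hS.2 a ha b hb).resolve_left fun h2 => h ((commute_iff_mul_pow_two hS ha hb).mpr h2)

theorem orderOf_mul_of_not_commute (hS : IsThreeTranspositionSet D) {a b : G} (ha : a ∈ D)
    (hb : b ∈ D) (h : ¬ Commute a b) : orderOf (a * b) = 3 := by
  haveI : Fact (Nat.Prime 3) := ⟨Nat.prime_three⟩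
  refine orderOf_eq_prime (mul_pow_three_of_not_commute hS ha hb h) fun h1 => h ?_
  rw [eq_inv_of_mul_eq_one_left h1, inv_eq_self hS hb]

theorem braid (hS : IsThreeTranspositionSet D) {a b : G} (ha : a ∈ D) (hb : b ∈ D)
    (h : ¬ Commute a b) : a * b * a = b * a * b := by
  have h1 : a * b * a * (b * a * b) = 1 := by
    rw [← mul_pow_three_of_not_commute hS ha hb h]
    simp only [pow_succ, pow_zero, one_mul, mul_assoc]
  rw [eq_inv_of_mul_eq_one_left h1]
  simp only [mul_inv_rev, inv_eq_self hS ha, inv_eq_self hS hb, mul_assoc]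

/-- Members with product of `2`-power order commute. -/
theorem commute_of_mul_pow_two_pow (hS : IsThreeTranspositionSet D) {a b : G} (ha : a ∈ D)
    (hb : b ∈ D) {k : ℕ} (h : (a * b) ^ 2 ^ k = 1) : Commute a b := by
  by_contra hne
  have h3 := orderOf_mul_of_not_commute hS ha hb hne
  have hd : orderOf (a * b) ∣ 2 ^ k := orderOf_dvd_of_pow_eq_one h
  rw [h3] at hd
  have := Nat.prime_three.dvd_of_dvd_pow hd
  norm_num at this

theorem mul_eq_one_of_coprime_order (hS : IsThreeTranspositionSet D) {a b : G} (ha : a ∈ D)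
    (hb : b ∈ D) {n : ℕ} (h : (a * b) ^ n = 1) (h2 : ¬ 2 ∣ n) (h3 : ¬ 3 ∣ n) : a = b := by
  have key : a * b = 1 := by
    rcases hS.2 a ha b hb with h' | h'
    · have hd := Nat.dvd_gcd (orderOf_dvd_of_pow_eq_one h') (orderOf_dvd_of_pow_eq_one h)
      rw [(Nat.prime_two.coprime_iff_not_dvd.mpr h2 : Nat.Coprime 2 n).gcd_eq_one] at hd
      exact orderOf_eq_one_iff.mp (Nat.dvd_one.mp hd)
    · have hd := Nat.dvd_gcd (orderOf_dvd_of_pow_eq_one h') (orderOf_dvd_of_pow_eq_one h)
      rw [(Nat.prime_three.coprime_iff_not_dvd.mpr h3 : Nat.Coprime 3 n).gcd_eq_one] at hd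
      exact orderOf_eq_one_iff.mp (Nat.dvd_one.mp hd)
  rw [eq_inv_of_mul_eq_one_left key, inv_eq_self hS hb]

/-- `a * b * a` is conjugation by `a`. -/
theorem conj_eq (hS : IsThreeTranspositionSet D) {a : G} (ha : a ∈ D) (b : G) :
    a * b * a⁻¹ = a * b * a := by
  rw [inv_eq_self hS ha]

theorem conj_mem (hS : IsThreeTranspositionSet D) (hc : IsConjClosed D) {a b : G} (ha : a ∈ D)
    (hb : b ∈ D) : a * b * a ∈ D := by
  have := hc a b hb
  rwa [conj_eq hS ha] at this

theorem commute_conj_iff (hS : IsThreeTranspositionSet D) {a : G} (ha : a ∈ D) (x y : G) :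
    Commute (a * x * a) (a * y * a) ↔ Commute x y := by
  rw [← conj_eq hS ha, ← conj_eq hS ha]
  exact (MulAut.conj a).toEquiv.injective.eq_iff.symm.trans
    (by simp [Commute, SemiconjBy, mul_assoc]) |>.symm

theorem conj_conj (hS : IsThreeTranspositionSet D) {a : G} (ha : a ∈ D) (x : G) :
    a * (a * x * a) * a = x := by
  simp only [← mul_assoc, mul_self_eq_one hS ha, one_mul, mul_self_cancel_right hS ha]

theorem conj_eq_of_commute (hS : IsThreeTranspositionSet D) {a x : G} (ha : a ∈ D)
    (h : Commute a x) : a * x * a = x := by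
  rw [h.eq, mul_self_cancel_right hS ha]

theorem commute_of_conj_eq (hS : IsThreeTranspositionSet D) {a x : G} (ha : a ∈ D)
    (h : a * x * a = x) : Commute a x := by
  have h1 : a * x * a * a = x * a := by rw [h]
  rwa [mul_self_cancel_right hS ha] at h1

/-- A member commuting with the product of two distinct members commutes with both of them. -/
theorem commute_mul_iff (hS : IsThreeTranspositionSet D) {a b e : G} (ha : a ∈ D) (hb : b ∈ D)
    (he : e ∈ D) (hab : a ≠ b) : Commute e (a * b) ↔ Commute e a ∧ Commute e b := by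
  refine ⟨fun h => ?_, fun h => h.1.mul_right h.2⟩
  have hA : Commute e a → Commute e b := fun ha' => by
    have := ha'.inv_right.mul_right h
    rwa [inv_mul_cancel_left] at this
  have hB : Commute e b → Commute e a := fun hb' => by
    have := h.mul_right hb'.inv_right
    rwa [mul_inv_cancel_right] at this
  by_contra hne
  have hna : ¬ Commute e a := fun h' => hne ⟨h', hA h'⟩
  have hnb : ¬ Commute e b := fun h' => hne ⟨hB h', h'⟩
  apply hab
  have h1 : (e * a * e) * (e * b * e) = a * b := by
    rw [show e * a * e * (e * b * e) = e * (a * (e * e) * b) * e by group,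
      mul_self_eq_one hS he, mul_one]
    exact conj_eq_of_commute hS he h
  rw [braid hS he ha hna, braid hS he hb hnb] at h1
  have h2 : a * e * a * (b * e) = a := by
    rw [← mul_self_cancel_right hS hb (a * e * a * (b * e)), mul_assoc _ _ b,
      show a * e * a * (b * e) * (b * b) = a * e * a * (b * e * b) * b by group, h1,
      mul_self_cancel_right hS hb]
  have h3 : e * (a * b) * e = 1 := by
    have := congrArg (fun z => a * z) h2
    simp only [mul_self_eq_one hS ha] at this
    rw [← this]
    simp only [mul_assoc, mul_self_cancel hS ha]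
  rw [conj_eq_of_commute hS he h] at h3
  rw [eq_inv_of_mul_eq_one_left h3, inv_eq_self hS hb]

theorem commute_mul_three_iff (hS : IsThreeTranspositionSet D) {a b c e : G} (ha : a ∈ D)
    (hb : b ∈ D) (hc : c ∈ D) (he : e ∈ D) (hab : a ≠ b) (hac : a ≠ c) (hbc : b ≠ c)
    (h₁ : Commute a b) (h₂ : Commute a c) (h₃ : Commute b c) :
    Commute e (a * b * c) ↔ Commute e a ∧ Commute e b ∧ Commute e c := by
  refine ⟨fun h => ?_, fun h => (h.1.mul_right h.2.1).mul_right h.2.2⟩
  by_cases hec : Commute e c
  · have h' : Commute e (a * b) := by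
      have := h.mul_right hec.inv_right
      rwa [mul_inv_cancel_right] at this
    obtain ⟨x, y⟩ := (commute_mul_iff hS ha hb he hab).mp h'
    exact ⟨x, y, hec⟩
  by_cases hea : Commute e a
  · have h' : Commute e (b * c) := by
      have := hea.inv_right.mul_right h
      rwa [mul_assoc a b c, inv_mul_cancel_left] at this
    obtain ⟨x, y⟩ := (commute_mul_iff hS hb hc he hbc).mp h'
    exact ⟨hea, x, y⟩
  by_cases heb : Commute e b
  · have h' : Commute e (a * c) := by
      have := h.mul_right heb.inv_right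
      rwa [mul_assoc a b c, h₃.eq, ← mul_assoc, mul_inv_cancel_right] at this
    obtain ⟨x, y⟩ := (commute_mul_iff hS ha hc he hac).mp h'
    exact ⟨x, heb, y⟩
  exfalso
  have h0 : (e * a * e) * (e * b * e) * (e * c * e) = a * b * c := by
    rw [show e * a * e * (e * b * e) * (e * c * e) = e * (a * (e * e) * b * (e * e) * c) * e by
      group, mul_self_eq_one hS he, mul_one, mul_one]
    exact conj_eq_of_commute hS he h
  rw [braid hS he ha hea, braid hS he hb heb, braid hS he hc hec] at h0
  -- cancel `a` on the left and `c` on the right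
  have h1 : e * a * (b * e * b) * (c * e) = b := by
    have h0' := congrArg (fun z => a * z * c) h0
    simp only [mul_assoc, mul_self_cancel hS ha, mul_self_eq_one hS hc, mul_one] at h0'
    simpa only [mul_assoc] using h0'
  have h2 : (a * b) * e * (b * c) = b * e * b := by
    rw [← braid hS he hb heb]
    have h1' := congrArg (fun z => e * z * e) h1
    simp only [mul_assoc, mul_self_cancel hS he, mul_self_eq_one hS he, mul_one] at h1'
    simpa only [mul_assoc] using h1'
  have h3 : a * e * c = e := by
    have h2' := congrArg (fun z => b * z * b) h2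
    simp only [mul_assoc, mul_self_cancel hS hb, mul_self_eq_one hS hb, mul_one] at h2'
    have e1 : b * (a * (b * (e * (b * (c * b))))) = a * (e * c) := by
      rw [← mul_assoc b a, ← h₁.eq, mul_assoc a b, mul_self_cancel hS hb, ← mul_assoc b c b,
        h₃.eq, mul_self_cancel_right hS hb]
    rw [e1] at h2'
    rw [mul_assoc]
    exact h2'
  have h3' : e * a * e = c := by
    have := congrArg (fun z => e * z * c) h3
    simp only [mul_assoc, mul_self_eq_one hS hc, mul_one, mul_self_cancel hS he] at this
    simpa only [mul_assoc, mul_self_eq_one hS he, one_mul] using this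
  have h5 : a * e * a = c := (braid hS he ha hea).symm.trans h3'
  have h6 : e = c := by
    rw [← conj_conj hS ha e, h5, conj_eq_of_commute hS ha h₂]
  exact hec (h6 ▸ Commute.refl c)

/-- If `e` does not commute with the distinct commuting `a`, `b`, then `e (a b) e` maps `a` to
`b`. -/
theorem conj_product_maps (hS : IsThreeTranspositionSet D) {a b e : G} (ha : a ∈ D) (hb : b ∈ D)
    (he : e ∈ D) (h₁ : Commute a b) (hea : ¬ Commute e a) (heb : ¬ Commute e b) :
    (e * (a * b) * e) * a * (e * (a * b) * e)⁻¹ = b := by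
  simp only [mul_inv_rev, inv_eq_self hS ha, inv_eq_self hS hb, inv_eq_self hS he]
  have h1 : e * (a * (b * (e * (a * (e * (b * (a * e))))))) = b := by
    have hA := braid hS he ha hea
    have hB := braid hS he hb heb
    calc e * (a * (b * (e * (a * (e * (b * (a * e)))))))
        = e * (a * b) * (e * a * e) * (b * a) * e := by group
      _ = e * (b * a) * (a * e * a) * (a * b) * e := by rw [hA, h₁.eq]
      _ = e * b * (a * a) * e * (a * a) * b * e := by group
      _ = e * (b * e * b) * e := by rw [mul_self_eq_one hS ha]; group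
      _ = e * (e * b * e) * e := by rw [hB]
      _ = b := conj_conj hS he b
  simpa only [mul_assoc] using h1

theorem restrict_set (hS : IsThreeTranspositionSet D) (H : Subgroup G) :
    IsThreeTranspositionSet {x : H | (x : G) ∈ D} := by
  refine ⟨fun d hd => ?_, fun d hd e he => ?_⟩
  · rw [← Subgroup.orderOf_coe]
    exact hS.1 _ hd
  · rcases hS.2 _ hd _ he with h | h
    · exact Or.inl (Subtype.ext (by simpa using h))
    · exact Or.inr (Subtype.ext (by simpa using h))

theorem restrict_conjClosed (hc : IsConjClosed D) (H : Subgroup G) :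
    IsConjClosed {x : H | (x : G) ∈ D} := fun g d hd => by
  simpa using hc (g : G) _ hd

theorem restrict_closure (H : Subgroup G) (hH : Subgroup.closure {d : G | d ∈ D ∧ d ∈ H} = H) :
    Subgroup.closure {x : H | (x : G) ∈ D} = ⊤ := by
  refine Subgroup.map_injective H.subtype_injective ?_
  rw [MonoidHom.map_closure, ← MonoidHom.range_eq_map, Subgroup.range_subtype]
  convert hH using 2
  ext d
  constructor
  · rintro ⟨x, hx, rfl⟩
    exact ⟨hx, x.2⟩
  · rintro ⟨h1, h2⟩
    exact ⟨⟨d, h2⟩, h1, rfl⟩

theorem image_conjClosed {H : Type*} [Group H] (f : G →* H) (hf : Function.Surjective f)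
    (hc : IsConjClosed D) : IsConjClosed (f '' D) := by
  rintro g _ ⟨d, hd, rfl⟩
  obtain ⟨g, rfl⟩ := hf g
  exact ⟨_, hc g d hd, by simp⟩

theorem image_closure {H : Type*} [Group H] (f : G →* H) (hf : Function.Surjective f)
    (hgen : Subgroup.closure D = ⊤) : Subgroup.closure (f '' D) = ⊤ := by
  rw [← MonoidHom.map_closure, hgen, Subgroup.map_top_of_surjective f hf]

theorem image_set {H : Type*} [Group H] (f : G →* H) (hS : IsThreeTranspositionSet D)
    (hne : ∀ d ∈ D, f d ≠ 1) : IsThreeTranspositionSet (f '' D) := by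
  refine ⟨?_, ?_⟩
  · rintro _ ⟨d, hd, rfl⟩
    exact orderOf_eq_prime (by rw [← map_pow, pow_two, mul_self_eq_one hS hd, map_one]) (hne d hd)
  · rintro _ ⟨d, hd, rfl⟩ _ ⟨e, he, rfl⟩
    rcases hS.2 d hd e he with h | h
    · exact Or.inl (by rw [← map_mul, ← map_pow, h, map_one])
    · exact Or.inr (by rw [← map_mul, ← map_pow, h, map_one])

/-- Images of members commute only if they are equal or the members commute. -/
theorem eq_or_commute_of_map_commute {H : Type*} [Group H] (f : G →* H)
    (hS : IsThreeTranspositionSet D) {a b : G} (ha : a ∈ D) (hb : b ∈ D)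
    (h : Commute (f a) (f b)) : f a = f b ∨ Commute a b := by
  by_cases hab : Commute a b
  · exact Or.inr hab
  left
  have h3 : f a * f b * f a = f b * f a * f b := by
    rw [← map_mul, ← map_mul, ← map_mul, ← map_mul, braid hS ha hb hab]
  have hA : f a * f a = 1 := by rw [← map_mul, mul_self_eq_one hS ha, map_one]
  have hB : f b * f b = 1 := by rw [← map_mul, mul_self_eq_one hS hb, map_one]
  rw [h.eq, mul_assoc, hA, mul_one, ← h.eq, mul_assoc, hB, mul_one] at h3
  exact h3.symm

theorem class_conjClosed (hD : IsThreeTranspositionClass D) : IsConjClosed D := by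
  obtain ⟨d, -, hDd⟩ := hD.2.1
  intro g x hx
  rw [hDd] at hx ⊢
  exact hx.trans (isConj_iff.mpr ⟨g, rfl⟩)

theorem class_isGroup (hD : IsThreeTranspositionClass D) : IsThreeTranspositionGroup D :=
  ⟨hD.1, class_conjClosed hD, hD.2.2⟩

theorem class_exists_conj (hD : IsThreeTranspositionClass D) {a b : G} (ha : a ∈ D) (hb : b ∈ D) :
    ∃ g : G, g * a * g⁻¹ = b := by
  obtain ⟨d, -, hDd⟩ := hD.2.1
  rw [hDd] at ha hb
  exact isConj_iff.mp ((IsConj.symm ha).trans hb)

theorem class_image {H : Type*} [Group H] (f : G →* H) (hf : Function.Surjective f)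
    (hD : IsThreeTranspositionClass D) (hne : ∀ d ∈ D, f d ≠ 1) :
    IsThreeTranspositionClass (f '' D) := by
  refine ⟨image_set f hD.1 hne, ?_, image_closure f hf hD.2.2⟩
  obtain ⟨d, hd, hDd⟩ := hD.2.1
  refine ⟨f d, ⟨d, hd, rfl⟩, Set.ext fun y => ⟨?_, fun hy => ?_⟩⟩
  · rintro ⟨x, hx, rfl⟩
    rw [hDd] at hx
    exact f.map_isConj hx
  · obtain ⟨g, rfl⟩ := isConj_iff.mp hy
    obtain ⟨g, rfl⟩ := hf g
    exact ⟨_, class_conjClosed hD g d hd, by simp⟩

/-- A subgroup centralised by all members is central. -/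
theorem le_center_of_forall (hgen : Subgroup.closure D = ⊤) {H : Subgroup G}
    (h : ∀ x ∈ H, ∀ d ∈ D, Commute d x) : H ≤ Subgroup.center G := by
  intro x hx
  rw [Subgroup.mem_center_iff]
  intro g
  have hg : g ∈ Subgroup.closure D := hgen ▸ Subgroup.mem_top g
  have hle : Subgroup.closure D ≤ Subgroup.centralizer ({x} : Set G) := by
    rw [Subgroup.closure_le]
    exact fun d hd => Subgroup.mem_centralizer_singleton_iff.mpr (h x hx d hd).eq
  exact Subgroup.mem_centralizer_singleton_iff.mp (hle hg)

/-- A member commuting with all members is the only one, if `D` is a class. -/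
theorem eq_of_forall_commute (hD : IsThreeTranspositionClass D) {d : G} (hd : d ∈ D)
    (h : ∀ e ∈ D, Commute d e) {e : G} (he : e ∈ D) : e = d := by
  obtain ⟨g, hg⟩ := class_exists_conj hD hd he
  have hc : d ∈ Subgroup.center G :=
    le_center_of_forall hD.2.2 (H := Subgroup.zpowers d)
      (fun x hx e he => by
        obtain ⟨k, rfl⟩ := Subgroup.mem_zpowers_iff.mp hx
        exact (h e he).symm.zpow_right k) (Subgroup.mem_zpowers d)
  rw [← hg, Subgroup.mem_center_iff.mp hc g, mul_inv_cancel_right]

theorem exists_not_commute (hD : IsThreeTranspositionClass D)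
    (hD2 : ∃ a ∈ D, ∃ b ∈ D, a ≠ b) {d : G} (hd : d ∈ D) : ∃ e ∈ D, ¬ Commute d e := by
  by_contra! h
  obtain ⟨a, ha, b, hb, hab⟩ := hD2
  exact hab ((eq_of_forall_commute hD hd h ha).trans (eq_of_forall_commute hD hd h hb).symm)

end CfsgLib.ThreeTransp
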