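import Mathlib
import Cfsg.Agent.Lib.ThreeTransp.Basic

/-!
Members of a set of 3-transpositions in a 2-group; maximal commuting sets.
-/

set_option autoImplicit false

namespace CfsgLib.ThreeTransp

open Cfsg

variable {G : Type*} [Group G] {D : Set G}

theorem commute_of_mem_two_group (hS : IsThreeTranspositionSet D) {T : Subgroup G}
    (hT : IsPGroup 2 T) {a b : G} (ha : a ∈ D) (hb : b ∈ D) (haT : a ∈ T) (hbT : b ∈ T) :
    Commute a b := by
  obtain ⟨k, hk⟩ := hT ⟨a * b, T.mul_mem haT hbT⟩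
  exact commute_of_mul_pow_two_pow hS ha hb (by simpa using congrArg Subtype.val hk)

theorem isPGroup_two_closure_of_commute (hS : IsThreeTranspositionSet D) {E : Set G} (hE : E ⊆ D)
    (hc : ∀ a ∈ E, ∀ b ∈ E, Commute a b) : IsPGroup 2 (Subgroup.closure E) := by
  have key : ∀ x ∈ Subgroup.closure E, x * x = 1 ∧ ∀ e ∈ E, Commute e x := by
    intro x hx
    induction hx using Subgroup.closure_induction with
    | mem e he => exact ⟨mul_self_eq_one hS (hE he), fun a ha => hc a ha e he⟩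
    | one => exact ⟨one_mul 1, fun e _ => Commute.one_right e⟩
    | mul a b ha hb iha ihb =>
      have hab : Commute a b := by
        have hle : Subgroup.closure E ≤ Subgroup.centralizer ({b} : Set G) := by
          rw [Subgroup.closure_le]
          exact fun e he => Subgroup.mem_centralizer_singleton_iff.mpr (ihb.2 e he).eq
        exact (Subgroup.mem_centralizer_singleton_iff.mp (hle ha) : a * b = b * a)
      refine ⟨?_, fun e he => (iha.2 e he).mul_right (ihb.2 e he)⟩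
      rw [mul_assoc, ← mul_assoc b a b, ← hab.eq, mul_assoc a b b, ihb.1, mul_one, iha.1]
    | inv a _ iha =>
      rw [inv_eq_of_mul_eq_one_right iha.1]
      exact iha
  intro x
  exact ⟨1, Subtype.ext (by simpa [pow_two] using (key x x.2).1)⟩

theorem exists_sylow_of_commute (hS : IsThreeTranspositionSet D) {E : Set G} (hE : E ⊆ D)
    (hc : ∀ a ∈ E, ∀ b ∈ E, Commute a b) : ∃ T : Sylow 2 G, E ⊆ (T : Subgroup G) := by
  obtain ⟨T, hT⟩ := (isPGroup_two_closure_of_commute hS hE hc).exists_le_sylow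
  exact ⟨T, fun e he => hT (Subgroup.subset_closure he)⟩

variable [Finite G]

theorem ncard_le_inter_sylow (hS : IsThreeTranspositionSet D) (hcl : IsConjClosed D) {E : Set G}
    (hE : E ⊆ D) (hc : ∀ a ∈ E, ∀ b ∈ E, Commute a b) (T : Sylow 2 G) :
    E.ncard ≤ {d : G | d ∈ D ∧ d ∈ T}.ncard := by
  haveI : Fact (Nat.Prime 2) := ⟨Nat.prime_two⟩
  obtain ⟨S, hES⟩ := exists_sylow_of_commute hS hE hc
  obtain ⟨g, hg⟩ := MulAction.exists_smul_eq G S T
  refine Set.ncard_le_ncard_of_injOn (fun e => g * e * g⁻¹) (fun e he => ⟨hcl g e (hE he), ?_⟩)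
    (fun a _ b _ h => by simpa using h) (Set.toFinite _)
  rw [← hg]
  show g * e * g⁻¹ ∈ ((g • S : Sylow 2 G) : Subgroup G)
  rw [Sylow.coe_subgroup_smul]
  exact Subgroup.smul_mem_pointwise_smul e (MulAut.conj g) _ (hES he)

theorem eq_inter_sylow_of_max (hS : IsThreeTranspositionSet D) {E : Set G} (hE : E ⊆ D)
    (hmax : ∀ E' : Set G, E' ⊆ D → (∀ a ∈ E', ∀ b ∈ E', Commute a b) → E'.ncard ≤ E.ncard)
    {T : Sylow 2 G} (hET : E ⊆ (T : Subgroup G)) : {d : G | d ∈ D ∧ d ∈ T} = E := by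
  refine (Set.eq_of_subset_of_ncard_le (t := {d : G | d ∈ D ∧ d ∈ T})
    (fun e he => ⟨hE he, hET he⟩) ?_ (Set.toFinite _)).symm
  exact hmax _ (fun d hd => hd.1)
    (fun a ha b hb => commute_of_mem_two_group hS T.isPGroup' ha.1 hb.1 ha.2 hb.2)

/-- A Sylow 2-subgroup containing a commuting set of largest size normalises it. -/
theorem exists_sylow_le_normalizer (hS : IsThreeTranspositionSet D) (hcl : IsConjClosed D)
    {E : Set G} (hE : E ⊆ D) (hc : ∀ a ∈ E, ∀ b ∈ E, Commute a b)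
    (hmax : ∀ E' : Set G, E' ⊆ D → (∀ a ∈ E', ∀ b ∈ E', Commute a b) → E'.ncard ≤ E.ncard) :
    ∃ T : Sylow 2 G, (T : Subgroup G) ≤ Subgroup.normalizer E := by
  obtain ⟨T, hET⟩ := exists_sylow_of_commute hS hE hc
  refine ⟨T, fun t ht => Subgroup.mem_normalizer_fintype fun e he => ?_⟩
  rw [← eq_inter_sylow_of_max hS hE hmax hET]
  exact ⟨hcl t e (hE he), T.mul_mem (T.mul_mem ht (hET he)) (T.inv_mem ht)⟩

/-- Two commuting sets of largest size inside a subgroup `H` are conjugate under `H`. -/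
theorem exists_conj_max (hS : IsThreeTranspositionSet D) (hcl : IsConjClosed D) (H : Subgroup G)
    {E E' : Set G} (hE : E ⊆ D) (hE' : E' ⊆ D) (hc : ∀ a ∈ E, ∀ b ∈ E, Commute a b)
    (hc' : ∀ a ∈ E', ∀ b ∈ E', Commute a b) (hEH : E ⊆ (H : Set G)) (hEH' : E' ⊆ (H : Set G))
    (hmax : ∀ F : Set G, F ⊆ D → (∀ a ∈ F, ∀ b ∈ F, Commute a b) → F.ncard ≤ E.ncard)
    (hcard : E'.ncard = E.ncard) : ∃ h ∈ H, (fun x => h * x * h⁻¹) '' E = E' := by
  haveI : Fact (Nat.Prime 2) := ⟨Nat.prime_two⟩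
  have hp : ∀ {F : Set G}, F ⊆ D → (∀ a ∈ F, ∀ b ∈ F, Commute a b) →
      IsPGroup 2 ((Subgroup.closure F).subgroupOf H) := fun hF hF' =>
    (isPGroup_two_closure_of_commute hS hF hF').comap_of_injective H.subtype H.subtype_injective
  obtain ⟨S, hSle⟩ := (hp hE hc).exists_le_sylow
  obtain ⟨S', hSle'⟩ := (hp hE' hc').exists_le_sylow
  obtain ⟨g, hg⟩ := MulAction.exists_smul_eq H S S'
  refine ⟨g, g.2, ?_⟩
  have hsub : ∀ x ∈ E, (g : G) * x * (g : G)⁻¹ ∈ D ∧
      (g : G) * x * (g : G)⁻¹ ∈ (S' : Subgroup H).map H.subtype := by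
    refine fun x hx => ⟨hcl _ x (hE hx), ⟨g * ⟨x, hEH hx⟩ * g⁻¹, ?_, rfl⟩⟩
    rw [← hg]
    show g * ⟨x, hEH hx⟩ * g⁻¹ ∈ ((g • S : Sylow 2 H) : Subgroup H)
    rw [Sylow.coe_subgroup_smul]
    exact Subgroup.smul_mem_pointwise_smul (⟨x, hEH hx⟩ : H) (MulAut.conj g) _
      (hSle (Subgroup.mem_subgroupOf.mpr (Subgroup.subset_closure hx)))
  set F : Set G := {d | d ∈ D ∧ d ∈ (S' : Subgroup H).map H.subtype}
  have hF : F.ncard ≤ E.ncard := hmax F (fun d hd => hd.1)
    (fun a ha b hb => commute_of_mem_two_group hS (S'.isPGroup'.map H.subtype) ha.1 hb.1 ha.2 hb.2)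
  have hinj : Set.InjOn (fun x => (g : G) * x * (g : G)⁻¹) E := fun a _ b _ h => by simpa using h
  have h1 : (fun x => (g : G) * x * (g : G)⁻¹) '' E = F :=
    Set.eq_of_subset_of_ncard_le (by rintro _ ⟨x, hx, rfl⟩; exact hsub x hx)
      (by rw [hinj.ncard_image]; exact hF) (Set.toFinite _)
  have h2 : E' = F := Set.eq_of_subset_of_ncard_le
    (fun x hx => ⟨hE' hx, ⟨⟨x, hEH' hx⟩,
      hSle' (Subgroup.mem_subgroupOf.mpr (Subgroup.subset_closure hx)), rfl⟩⟩)
    (hcard ▸ hF) (Set.toFinite _)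
  rw [h1, h2]

end CfsgLib.ThreeTransp
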