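import Mathlib
import Cfsg.Prelude.Def_Solvable
import Cfsg.Agent.Lib.Fitting.Basic
import Cfsg.Agent.Lib.ThreeTransp.Sylow

/-!
The two perpendicularity relations of a set of 3-transpositions and their connection with the
largest normal 2- and 3-subgroups.
-/

set_option autoImplicit false
set_option linter.style.haveILetI false

namespace CfsgLib.ThreeTransp

open Cfsg

/-- A `p`-subgroup of a normal subgroup `K` that is normalised by `K` lies in the `p`-core. -/
theorem le_pCore_of_normalized {G : Type*} [Group G] [Finite G] {p : ℕ} [Fact p.Prime]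
    {K P : Subgroup G} [K.Normal] (hPK : P ≤ K) (hKP : K ≤ Subgroup.normalizer (P : Set G))
    (hP : IsPGroup p P) : P ≤ Cfsg.pCore p G := by
  set M := (Cfsg.pCore p K).map K.subtype
  have hconj : ∀ g : G, ∀ x ∈ P, g * x * g⁻¹ ∈ M := by
    intro g x hx
    have hle : (P.map (MulAut.conj g).toMonoidHom).subgroupOf K ≤ Cfsg.pCore p K := by
      refine Fitting.le_pCore ?_ ((hP.map _).comap_of_injective K.subtype K.subtype_injective)
      refine ⟨fun y hy k => ?_⟩
      obtain ⟨z, hz, hzy⟩ := Subgroup.mem_subgroupOf.mp hy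
      refine Subgroup.mem_subgroupOf.mpr ⟨(g⁻¹ * (k : G) * g) * z * (g⁻¹ * (k : G) * g)⁻¹,
        (Subgroup.mem_normalizer_iff.mp (hKP ?_) z).mp hz, ?_⟩
      · simpa using Subgroup.Normal.conj_mem inferInstance (k : G) k.2 g⁻¹
      · simp only [Subgroup.coe_mul, InvMemClass.coe_inv, ← hzy, MulEquiv.toMonoidHom_eq_coe,
          MonoidHom.coe_coe, MulAut.conj_apply]
        group
    have hxK : g * x * g⁻¹ ∈ K := Subgroup.Normal.conj_mem inferInstance x (hPK hx) g
    exact ⟨⟨_, hxK⟩, hle (Subgroup.mem_subgroupOf.mpr ⟨x, hx, rfl⟩), rfl⟩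
  have hN : Subgroup.normalClosure (P : Set G) ≤ M := by
    rw [Subgroup.normalClosure, Subgroup.closure_le]
    intro y hy
    obtain ⟨x, hx, hxy⟩ := Group.mem_conjugatesOfSet_iff.mp hy
    obtain ⟨g, rfl⟩ := isConj_iff.mp hxy
    exact hconj g x hx
  exact le_trans (Subgroup.le_normalClosure)
    (Fitting.le_pCore Subgroup.normalClosure_normal
      (((Fitting.pCore_isPGroup p).map K.subtype).to_le hN))

variable {G : Type*} [Group G] {D : Set G}

/-- Members commuting with exactly the same members. -/
def PerpEq (D : Set G) (a b : G) : Prop := ∀ e ∈ D, Commute a e ↔ Commute b e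

/-- Members commuting with exactly the same members apart from themselves. -/
def StarEq (D : Set G) (a b : G) : Prop :=
  ∀ e ∈ D, (e ≠ a ∧ Commute a e) ↔ (e ≠ b ∧ Commute b e)

/-- The hypotheses on a relation needed to define the kernel of the action on its classes. -/
structure IsInvariantEquiv (D : Set G) (R : G → G → Prop) : Prop where
  refl : ∀ a, R a a
  symm : ∀ {a b}, R a b → R b a
  trans : ∀ {a b c}, R a b → R b c → R a c
  map : ∀ (g : G) {a b}, R a b → R (g * a * g⁻¹) (g * b * g⁻¹)

theorem commute_conj {g x y : G} : Commute (g * x * g⁻¹) (g * y * g⁻¹) ↔ Commute x y := by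
  constructor
  · intro h
    simpa [mul_assoc] using h.map (MulAut.conj g⁻¹)
  · intro h
    exact h.map (MulAut.conj g)

theorem perpEq_isInvariantEquiv (hc : IsConjClosed D) : IsInvariantEquiv D (PerpEq D) where
  refl _ _ _ := Iff.rfl
  symm h e he := (h e he).symm
  trans h h' e he := (h e he).trans (h' e he)
  map g a b h e he := by
    have h1 := h _ (hc g⁻¹ e he)
    rw [← commute_conj (g := g) (x := a), ← commute_conj (g := g) (x := b)] at h1
    simpa [mul_assoc] using h1

theorem starEq_isInvariantEquiv (hc : IsConjClosed D) : IsInvariantEquiv D (StarEq D) where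
  refl _ _ _ := Iff.rfl
  symm h e he := (h e he).symm
  trans h h' e he := (h e he).trans (h' e he)
  map g a b h e he := by
    have key : ∀ x : G, (e ≠ g * x * g⁻¹ ∧ Commute (g * x * g⁻¹) e) ↔
        (g⁻¹ * e * g⁻¹⁻¹ ≠ x ∧ Commute x (g⁻¹ * e * g⁻¹⁻¹)) := by
      intro x
      have e1 : e = g * (g⁻¹ * e * g⁻¹⁻¹) * g⁻¹ := by group
      constructor
      · rintro ⟨h1, h2⟩
        rw [e1, commute_conj] at h2
        exact ⟨fun h' => h1 (by rw [← h']; exact e1), h2⟩
      · rintro ⟨h1, h2⟩
        refine ⟨fun h' => h1 (by rw [h']; group), ?_⟩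
        rw [e1, commute_conj]
        exact h2
    rw [key a, key b]
    exact h _ (hc g⁻¹ e he)

/-- The kernel of the action on the classes of an invariant equivalence relation. -/
def classKernel (hc : IsConjClosed D) (R : G → G → Prop) (hR : IsInvariantEquiv D R) :
    Subgroup G where
  carrier := {g | ∀ a ∈ D, R (g * a * g⁻¹) a}
  one_mem' a _ := by simpa using hR.refl a
  mul_mem' {g h} hg hh a ha := by
    have h1 : R (g * (h * a * h⁻¹) * g⁻¹) (h * a * h⁻¹) := hg _ (hc h a ha)
    have h2 := hR.trans h1 (hh a ha)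
    simpa [mul_assoc] using h2
  inv_mem' {g} hg a ha := by
    have h1 := hg _ (hc g⁻¹ a ha)
    simpa [mul_assoc] using hR.symm h1

theorem classKernel_normal (hc : IsConjClosed D) (R : G → G → Prop) (hR : IsInvariantEquiv D R) :
    (classKernel hc R hR).Normal := by
  refine ⟨fun k hk g a ha => ?_⟩
  have h1 := hR.map g (hk _ (hc g⁻¹ a ha))
  simpa [mul_assoc] using h1

theorem mem_classKernel_iff {hc : IsConjClosed D} {R : G → G → Prop} {hR : IsInvariantEquiv D R}
    {g : G} : g ∈ classKernel hc R hR ↔ ∀ a ∈ D, R (g * a * g⁻¹) a := Iff.rfl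

variable (hS : IsThreeTranspositionSet D) (hc : IsConjClosed D)
include hS

theorem commute_of_perpEq {a b : G} (ha : a ∈ D) (h : PerpEq D a b) : Commute b a :=
  (h a ha).mp (Commute.refl a)

theorem not_commute_of_starEq {a b : G} (hb : b ∈ D) (hab : a ≠ b) (h : StarEq D a b) :
    ¬ Commute a b := fun h' => ((h b hb).mp ⟨hab.symm, h'⟩).1 rfl

include hc in
/-- If `d`, `v` are equivalent and `e` commutes with neither, `d * v` fixes the class of `e`. -/
theorem conj_mul_related {R : G → G → Prop} (hR : IsInvariantEquiv D R) {d v e : G} (hd : d ∈ D)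
    (hv : v ∈ D) (he : e ∈ D) (h : R d v) (hde : ¬ Commute d e) (hve : ¬ Commute v e) :
    R (d * v * e * (d * v)⁻¹) e := by
  have h1 : R (d * e * d) (v * e * v) := by
    have := hR.map e h
    rw [conj_eq hS he, conj_eq hS he, braid hS he hd (fun x => hde x.symm),
      braid hS he hv (fun x => hve x.symm)] at this
    exact this
  have h2 := hR.map d h1
  rw [conj_eq hS hd, conj_eq hS hd, conj_conj hS hd] at h2
  have e1 : d * v * e * (d * v)⁻¹ = d * (v * e * v) * d := by
    rw [mul_inv_rev, inv_eq_self hS hd, inv_eq_self hS hv]; group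
  rw [e1]
  exact hR.symm h2

include hc in
theorem mul_mem_classKernel_perp {d v : G} (hd : d ∈ D) (hv : v ∈ D) (h : PerpEq D d v) :
    d * v ∈ classKernel hc (PerpEq D) (perpEq_isInvariantEquiv hc) := by
  intro e he
  by_cases hde : Commute d e
  · have hve := (h e he).mp hde
    rw [(hde.mul_left hve).eq, mul_inv_cancel_right]
    exact (perpEq_isInvariantEquiv hc).refl e
  · exact conj_mul_related hS hc (perpEq_isInvariantEquiv hc) hd hv he h hde
      fun hve => hde ((h e he).mpr hve)

include hc in
theorem mul_mem_classKernel_star {d v : G} (hd : d ∈ D) (hv : v ∈ D) (h : StarEq D d v) :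
    d * v ∈ classKernel hc (StarEq D) (starEq_isInvariantEquiv hc) := by
  have hR := starEq_isInvariantEquiv hc
  rcases eq_or_ne d v with rfl | hdv
  · rw [mul_self_eq_one hS hd]; exact one_mem _
  intro e he
  by_cases hed : e = d ∨ e = v
  · -- within the class
    have hclass : ∀ {a b : G}, a ∈ D → StarEq D a b → StarEq D a (a * b * a) := by
      intro a b ha h'
      have := hR.map a h'
      rwa [conj_eq hS ha, conj_eq hS ha, mul_self_eq_one hS ha, one_mul] at this
    have hcl : StarEq D (d * v * e * (d * v)⁻¹) d := by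
      rw [mul_inv_rev, inv_eq_self hS hd, inv_eq_self hS hv]
      rcases hed with rfl | rfl
      · have h2 := hR.map e (hR.trans h (hclass hv (hR.symm h)))
        rw [conj_eq hS he, conj_eq hS he, mul_self_eq_one hS he, one_mul] at h2
        exact hR.symm (by simpa [mul_assoc] using h2)
      · rw [show d * e * e * (e * d) = d * (e * e) * e * d by group, mul_self_eq_one hS he, mul_one]
        exact hR.symm (hclass hd h)
    rcases hed with rfl | rfl
    · exact hcl
    · exact hR.trans hcl h
  push_neg at hed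
  by_cases hde : Commute d e
  · have hve := ((h e he).mp ⟨hed.1, hde⟩).2
    rw [(hde.mul_left hve).eq, mul_inv_cancel_right]
    exact hR.refl e
  · exact conj_mul_related hS hc hR hd hv he h hde
      fun hve => hde ((h e he).mpr ⟨hed.2, hve⟩).2

variable [Finite G]

include hc in
theorem mul_mem_pCore_two {d v : G} (hd : d ∈ D) (hv : v ∈ D) (h : PerpEq D d v) :
    d * v ∈ Cfsg.pCore 2 G := by
  haveI : Fact (Nat.Prime 2) := ⟨Nat.prime_two⟩
  have hR := perpEq_isInvariantEquiv hc
  set K := classKernel hc (PerpEq D) hR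
  haveI : K.Normal := classKernel_normal hc _ hR
  set S : Set G := {b | b ∈ D ∧ PerpEq D d b}
  have hcomm : ∀ a ∈ S, ∀ b ∈ S, Commute a b := fun a ha b hb =>
    (commute_of_perpEq hS ha.1 (hR.trans (hR.symm ha.2) hb.2)).symm
  set E := Subgroup.closure S
  have hKE : K ≤ Subgroup.normalizer (E : Set G) := by
    intro k hk
    refine Subgroup.mem_normalizer_fintype fun x hx => ?_
    have hmap : E.map (MulAut.conj k).toMonoidHom ≤ E := by
      rw [MonoidHom.map_closure, Subgroup.closure_le]
      rintro _ ⟨b, hb, rfl⟩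
      exact Subgroup.subset_closure ⟨hc k b hb.1, hR.trans hb.2 (hR.symm (hk b hb.1))⟩
    exact hmap ⟨x, hx, rfl⟩
  have hle : E ⊓ K ≤ Cfsg.pCore 2 G :=
    le_pCore_of_normalized inf_le_right
      (fun k hk => Subgroup.mem_normalizer_fintype fun x hx =>
        ⟨(Subgroup.mem_normalizer_iff.mp (hKE hk) x).mp hx.1,
          K.mul_mem (K.mul_mem hk hx.2) (K.inv_mem hk)⟩)
      ((isPGroup_two_closure_of_commute hS (fun b hb => hb.1) hcomm).to_inf_left)
  refine hle ⟨E.mul_mem ?_ ?_, mul_mem_classKernel_perp hS hc hd hv h⟩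
  · exact Subgroup.subset_closure ⟨hd, hR.refl d⟩
  · exact Subgroup.subset_closure ⟨hv, h⟩

omit hS [Finite G] in
/-- The members related to `d` are permuted by the subgroup they generate. -/
theorem class_set_conjClosed {R : G → G → Prop} (hR : IsInvariantEquiv D R) (hc : IsConjClosed D)
    (d : G) :
    IsConjClosed {x : Subgroup.closure {b | b ∈ D ∧ R d b} | (x : G) ∈ {b | b ∈ D ∧ R d b}} := by
  rintro ⟨g, hg⟩ x hx
  have key : ∀ g ∈ Subgroup.closure {b | b ∈ D ∧ R d b}, R (g * d * g⁻¹) d := by
    intro g hg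
    induction hg using Subgroup.closure_induction with
    | mem a ha =>
      have h1 := hR.map a ha.2
      rw [mul_inv_cancel_right] at h1
      exact hR.trans h1 (hR.symm ha.2)
    | one => simpa using hR.refl d
    | mul a b _ _ iha ihb => simpa [mul_assoc] using hR.trans (hR.map a ihb) iha
    | inv a _ iha => simpa [mul_assoc] using hR.symm (hR.map a⁻¹ iha)
  exact ⟨hc g _ hx.1, hR.trans (hR.symm (key g hg)) (hR.map g hx.2)⟩

omit [Finite G] in
/-- Members commute with the members having the same image modulo a normal 2-subgroup. -/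
theorem perpEq_of_mul_mem {N : Subgroup G} [N.Normal] (hN : IsPGroup 2 N) {d v : G} (hd : d ∈ D)
    (hv : v ∈ D) (h : d * v ∈ N) : PerpEq D d v := by
  set π := QuotientGroup.mk' N
  have himg : π d = π v := by
    have h1 : π (d * v) = 1 := (QuotientGroup.eq_one_iff _).mpr h
    rw [map_mul] at h1
    rw [eq_inv_of_mul_eq_one_left h1, ← map_inv, inv_eq_self hS hv]
  intro e he
  have key : ∀ {a b : G}, a ∈ D → b ∈ D → π a = π b → Commute a e → Commute b e := by
    intro a b ha hb hab hae
    by_contra hbe
    rcases eq_or_commute_of_map_commute π hS hb he (hab ▸ hae.map π) with h' | h'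
    · obtain ⟨k, hk⟩ := hN ⟨b * e, (QuotientGroup.eq_one_iff _).mp (by
        show π (b * e) = 1
        rw [map_mul, h', ← map_mul, mul_self_eq_one hS he, map_one])⟩
      exact hbe (commute_of_mul_pow_two_pow hS hb he (by simpa using congrArg Subtype.val hk))
    · exact hbe h'
  exact ⟨key hd hv himg, key hv hd himg.symm⟩

omit [Finite G] in
/-- Members with the same image modulo a normal 3-subgroup commute with the same other members. -/
theorem starEq_of_mul_mem {N : Subgroup G} [N.Normal] (hN : IsPGroup 3 N) {d v : G} (hd : d ∈ D)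
    (hv : v ∈ D) (h : d * v ∈ N) : StarEq D d v := by
  set π := QuotientGroup.mk' N
  have himg : π d = π v := by
    have h1 : π (d * v) = 1 := (QuotientGroup.eq_one_iff _).mpr h
    rw [map_mul] at h1
    rw [eq_inv_of_mul_eq_one_left h1, ← map_inv, inv_eq_self hS hv]
  have inj : ∀ {a b : G}, a ∈ D → b ∈ D → π a = π b → Commute a b → a = b := by
    intro a b ha hb hab hcomm
    obtain ⟨k, hk⟩ := hN ⟨a * b, (QuotientGroup.eq_one_iff _).mp (by
      show π (a * b) = 1
      rw [map_mul, hab, ← map_mul, mul_self_eq_one hS hb, map_one])⟩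
    have h2 := (commute_iff_mul_pow_two hS ha hb).mp hcomm
    have := Nat.dvd_gcd (orderOf_dvd_of_pow_eq_one h2)
      (orderOf_dvd_of_pow_eq_one (by simpa using congrArg Subtype.val hk : (a * b) ^ 3 ^ k = 1))
    rw [(Nat.Coprime.pow_right k (by norm_num : Nat.Coprime 2 3)).gcd_eq_one] at this
    rw [eq_inv_of_mul_eq_one_left (orderOf_eq_one_iff.mp (Nat.dvd_one.mp this)), inv_eq_self hS hb]
  intro e he
  have key : ∀ {a b : G}, a ∈ D → b ∈ D → π a = π b → e ≠ a → Commute a e →
      e ≠ b ∧ Commute b e := by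
    intro a b ha hb hab hea hae
    refine ⟨fun h' => hea (inj ha he (hab.trans (congrArg π h'.symm)) hae).symm, ?_⟩
    by_contra hbe
    rcases eq_or_commute_of_map_commute π hS hb he (hab ▸ hae.map π) with h' | h'
    · exact hea (inj ha he (hab.trans h') hae).symm
    · exact hbe h'
  exact ⟨fun h => key hd hv himg h.1 h.2, fun h => key hv hd himg.symm h.1 h.2⟩

include hc in
theorem perpEq_iff_mul_mem {d v : G} (hd : d ∈ D) (hv : v ∈ D) :
    PerpEq D d v ↔ d * v ∈ Cfsg.pCore 2 G :=
  haveI : Fact (Nat.Prime 2) := ⟨Nat.prime_two⟩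
  haveI := Fitting.pCore_normal (G := G) 2
  ⟨mul_mem_pCore_two hS hc hd hv, perpEq_of_mul_mem hS (Fitting.pCore_isPGroup 2) hd hv⟩

omit [Finite G] in
/-- Commuting members congruent modulo a normal 2-subgroup are conjugate under it. -/
theorem exists_conj_of_mul_mem {N : Subgroup G} [N.Normal] {d v e : G} (hd : d ∈ D) (hv : v ∈ D)
    (he : e ∈ D) (h : d * v ∈ N) (hdv : Commute d v) (hde : ¬ Commute e d) (hve : ¬ Commute e v) :
    ∃ g ∈ N, v = g * d * g⁻¹ :=
  ⟨e * (d * v) * e, by simpa [inv_eq_self hS he] using Subgroup.Normal.conj_mem inferInstance _ h e,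
    (conj_product_maps hS hd hv he hdv hde hve).symm⟩

omit [Finite G] in
/-- Non-commuting members are conjugate by a power of their product. -/
theorem exists_conj_of_not_commute {N : Subgroup G} {d w : G} (hd : d ∈ D) (hw : w ∈ D)
    (h : d * w ∈ N) (hne : ¬ Commute d w) : ∃ g ∈ N, w = g * d * g⁻¹ := by
  refine ⟨d * w, h, ?_⟩
  rw [mul_inv_rev, inv_eq_self hS hd, inv_eq_self hS hw,
    show d * w * d * (w * d) = d * (w * d * w) * d by group,
    braid hS hw hd (fun x => hne x.symm), conj_conj hS hd]

end CfsgLib.ThreeTransp
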