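import Mathlib
import Cfsg.Prelude.Def_Solvable
import Cfsg.Agent.Lib.Fitting.Basic
import Cfsg.Agent.Lib.Hall.System
import Cfsg.Agent.Lib.ThreeTransp.Sylow
import Cfsg.Agent.Lib.ZStar.Main

/-!
Sets of 3-transpositions in which no two distinct members commute.
-/

set_option autoImplicit false
set_option linter.style.haveILetI false

namespace CfsgLib.ThreeTransp

open Cfsg

variable {G : Type*} [Group G] [Finite G] {D : Set G}

theorem exists_invariant_sylow (hS : IsThreeTranspositionSet D) (hc : IsConjClosed D)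
    (hgen : Subgroup.closure D = ⊤) (hw : ∀ a ∈ D, ∀ b ∈ D, Commute a b → a = b) {d : G}
    (hd : d ∈ D) {p : ℕ} [Fact p.Prime] (hp : p ≠ 2) :
    ∃ P : Sylow p G, d ∈ Subgroup.normalizer (P : Set G) := by
  haveI : Fact (Nat.Prime 2) := ⟨Nat.prime_two⟩
  obtain ⟨T, hT⟩ := exists_sylow_of_commute hS (E := {d}) (by simpa using hd)
    (by rintro a rfl b rfl; exact Commute.refl b)
  replace hT : d ∈ T := hT rfl
  obtain ⟨N, hN, hodd, hcomm⟩ := ZStar.exists_normal_odd_commutator_mem T d (hS.1 d hd) hT fun g hg =>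
    (hw d hd _ (hc g d hd) (commute_of_mem_two_group hS T.isPGroup' hd (hc g d hd) hT hg)).symm
  set π := QuotientGroup.mk' N
  have hrange : ∀ g : G, π g ∈ Subgroup.zpowers (π d) := by
    intro g
    have hg : g ∈ Subgroup.closure D := hgen ▸ Subgroup.mem_top g
    refine (?_ : Subgroup.closure D ≤ (Subgroup.zpowers (π d)).comap π) hg
    rw [Subgroup.closure_le]
    intro e he
    show π e ∈ Subgroup.zpowers (π d)
    by_cases hde : Commute d e
    · rw [← hw d hd e he hde]; exact Subgroup.mem_zpowers _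
    have he' : e = (d * e) * d * (d * e)⁻¹ := by
      rw [mul_inv_rev, inv_eq_self hS hd, inv_eq_self hS he,
        show d * e * d * (e * d) = d * (e * d * e) * d by group, braid hS he hd (fun h => hde h.symm),
        conj_conj hS hd]
    have hz : Commute (π d) (π (d * e)) := by
      have h1 : π (d * (d * e) * d⁻¹ * (d * e)⁻¹) = 1 := (QuotientGroup.eq_one_iff _).mpr (hcomm _)
      rw [map_mul, map_mul, map_mul, map_inv, map_inv] at h1
      exact mul_inv_eq_iff_eq_mul.mp (mul_inv_eq_one.mp h1)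
    rw [he', map_mul, map_mul, map_inv, ← hz.eq, mul_inv_cancel_right]
    exact Subgroup.mem_zpowers _
  -- all members lie outside `N`, so the index of `N` is two
  have hdN : π d ≠ 1 := by
    intro h
    have hdmem : d ∈ N := (QuotientGroup.eq_one_iff d).mp h
    have h2 := Subgroup.orderOf_dvd_natCard N hdmem
    rw [hS.1 d hd] at h2
    exact Nat.not_even_iff_odd.mpr hodd (even_iff_two_dvd.mpr h2)
  have hidx : N.index = 2 := by
    have htop : Subgroup.zpowers (π d) = ⊤ := by
      rw [eq_top_iff]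
      intro y _
      obtain ⟨g, rfl⟩ := QuotientGroup.mk'_surjective N y
      exact hrange g
    rw [Subgroup.index, ← Subgroup.card_top, ← htop, Nat.card_zpowers]
    exact orderOf_eq_prime (by rw [← map_pow, pow_two, mul_self_eq_one hS hd, map_one]) hdN
  have hT2 : Nat.card T = 2 := by
    rw [Sylow.card_eq_multiplicity, ← N.card_mul_index, hidx,
      Nat.factorization_mul (by intro h; rw [h] at hodd; simp at hodd) two_ne_zero]
    simp [Nat.factorization_eq_zero_of_not_dvd (n := Nat.card N) (p := 2)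
      (fun h => Nat.not_even_iff_odd.mpr hodd (even_iff_two_dvd.mpr h)),
      Nat.prime_two.factorization_self]
  obtain ⟨P⟩ : Nonempty (Sylow p G) := Sylow.nonempty
  have hPN : (P : Subgroup G) ≤ N := by
    intro x hx
    obtain ⟨k, hk⟩ := P.isPGroup' ⟨x, hx⟩
    rw [← QuotientGroup.eq_one_iff]
    have h1 : (π x) ^ p ^ k = 1 := by
      rw [← map_pow]; exact (congrArg π (by simpa using congrArg Subtype.val hk)).trans π.map_one
    have h2 : (π x) ^ 2 = 1 := by
      have := pow_card_eq_one' (G := G ⧸ N) (x := π x)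
      rwa [← Subgroup.index, hidx] at this
    have hcop : Nat.Coprime (p ^ k) 2 :=
      Nat.Coprime.pow_left k ((Nat.coprime_primes (Fact.out) Nat.prime_two).mpr hp)
    have := Nat.dvd_gcd (orderOf_dvd_of_pow_eq_one h1) (orderOf_dvd_of_pow_eq_one h2)
    rw [hcop.gcd_eq_one] at this
    exact orderOf_eq_one_iff.mp (Nat.dvd_one.mp this)
  have hfr := Sylow.normalizer_sup_eq_top (P.subtype hPN)
  rw [Sylow.coe_subtype, Subgroup.map_subgroupOf_eq_of_le hPN] at hfr
  have hnot : ¬ Subgroup.normalizer ((P : Subgroup G) : Set G) ≤ N := fun h => by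
    rw [sup_eq_right.mpr h] at hfr
    rw [hfr, Subgroup.index_top] at hidx
    exact absurd hidx (by norm_num)
  obtain ⟨i, hi⟩ : ∃ i : Subgroup.normalizer ((P : Subgroup G) : Set G), orderOf i = 2 := by
    refine exists_prime_orderOf_dvd_card' 2 ?_
    by_contra h2
    refine hnot fun x hx => ?_
    rw [← QuotientGroup.eq_one_iff]
    have hcop : Nat.Coprime (Nat.card (Subgroup.normalizer ((P : Subgroup G) : Set G))) 2 :=
      (Nat.prime_two.coprime_iff_not_dvd.mpr h2).symm
    have h1 : orderOf (π x) ∣ Nat.card (Subgroup.normalizer ((P : Subgroup G) : Set G)) :=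
      (orderOf_map_dvd π x).trans (Subgroup.orderOf_dvd_natCard _ hx)
    have h3 : orderOf (π x) ∣ 2 := hidx ▸ (orderOf_dvd_natCard (π x))
    have := Nat.dvd_gcd h1 h3
    rw [hcop.gcd_eq_one] at this
    exact orderOf_eq_one_iff.mp (Nat.dvd_one.mp this)
  obtain ⟨S, hiS⟩ := (IsPGroup.of_card (n := 1) (G := Subgroup.zpowers (i : G))
    (by rw [Nat.card_zpowers, Subgroup.orderOf_coe, hi, pow_one] : _ = 2 ^ 1)).exists_le_sylow
  obtain ⟨g, hg⟩ := MulAction.exists_smul_eq G S T
  have hgi : g * (i : G) * g⁻¹ ∈ T := by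
    rw [← hg]
    show g * (i : G) * g⁻¹ ∈ ((g • S : Sylow 2 G) : Subgroup G)
    rw [Sylow.coe_subgroup_smul]
    exact Subgroup.smul_mem_pointwise_smul _ (MulAut.conj g) _ (hiS (Subgroup.mem_zpowers _))
  have hgd : g * (i : G) * g⁻¹ = d := by
    haveI := (Nat.card_eq_two_iff' (⟨1, T.one_mem⟩ : T)).mp hT2
    have h1 : (⟨g * (i : G) * g⁻¹, hgi⟩ : T) ≠ ⟨1, T.one_mem⟩ := fun h => by
      have h' : (i : G) = 1 := by simpa [mul_inv_eq_one] using congrArg Subtype.val h
      rw [← Subgroup.orderOf_coe, h', orderOf_one] at hi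
      norm_num at hi
    have h2 : (⟨d, hT⟩ : T) ≠ ⟨1, T.one_mem⟩ := fun h =>
      ne_one_of_mem hS hd (congrArg Subtype.val h)
    exact congrArg Subtype.val (this.unique h1 h2)
  refine ⟨g • P, ?_⟩
  rw [← hgd]
  show g * (i : G) * g⁻¹ ∈ Subgroup.normalizer (((g • P : Sylow p G) : Subgroup G) : Set G)
  rw [Sylow.coe_subgroup_smul]
  refine Subgroup.mem_normalizer_fintype fun x hx => ?_
  obtain ⟨y, hy, rfl⟩ := hx
  refine ⟨(i : G) * y * (i : G)⁻¹, (Subgroup.mem_normalizer_iff.mp i.2 y).mp hy, ?_⟩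
  simp [MulAut.conj, mul_assoc]

/-- In a set of 3-transpositions without commuting pairs the products of two members lie in the
largest normal 3-subgroup. -/
theorem mul_mem_pCore_three (hS : IsThreeTranspositionSet D) (hc : IsConjClosed D)
    (hgen : Subgroup.closure D = ⊤) (hw : ∀ a ∈ D, ∀ b ∈ D, Commute a b → a = b) {a b : G}
    (ha : a ∈ D) (hb : b ∈ D) : a * b ∈ Cfsg.pCore 3 G := by
  haveI : Fact (Nat.Prime 3) := ⟨Nat.prime_three⟩
  haveI : Fact (Nat.Prime 2) := ⟨Nat.prime_two⟩
  obtain ⟨P, hP⟩ := exists_invariant_sylow hS hc hgen hw ha (p := 3) (by norm_num)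
  set C := Subgroup.centralizer ({a} : Set G)
  -- the index of the centraliser is prime to every prime other than three
  have hidx : ∀ q : ℕ, q.Prime → q ≠ 3 → ¬ q ∣ C.index := by
    intro q hq hq3 hdvd
    haveI : Fact q.Prime := ⟨hq⟩
    suffices h : ∃ Q : Sylow q G, (Q : Subgroup G) ≤ C by
      obtain ⟨Q, hQ⟩ := h
      exact Q.not_dvd_index (hdvd.trans (Subgroup.index_dvd_of_le hQ))
    rcases eq_or_ne q 2 with rfl | hq2
    · obtain ⟨T, hT⟩ := exists_sylow_of_commute hS (E := {a}) (by simpa using ha)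
        (by rintro x rfl y rfl; exact Commute.refl y)
      replace hT : a ∈ T := hT rfl
      refine ⟨T, fun x hx => ?_⟩
      have he := hc x a ha
      have hcomm := commute_of_mem_two_group hS T.isPGroup' ha he hT
        (T.mul_mem (T.mul_mem hx hT) (T.inv_mem hx))
      have h1 := hw a ha _ he hcomm
      rw [Subgroup.mem_centralizer_singleton_iff]
      conv_rhs => rw [h1, inv_mul_cancel_right]
    · obtain ⟨Q, hQ⟩ := exists_invariant_sylow hS hc hgen hw ha (p := q) hq2
      refine ⟨Q, fun x hx => Subgroup.mem_centralizer_singleton_iff.mpr ?_⟩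
      have hmem : a * (x * a * x⁻¹) ∈ (Q : Subgroup G) := by
        have h1 := (Subgroup.mem_normalizer_iff.mp hQ x).mp hx
        rw [conj_eq hS ha] at h1
        simpa [mul_assoc] using mul_mem h1 (inv_mem hx)
      obtain ⟨k, hk⟩ := Q.isPGroup' ⟨_, hmem⟩
      have h1 := mul_eq_one_of_coprime_order hS ha (hc x a ha)
        (by simpa using congrArg Subtype.val hk)
        (fun h => hq2 ((Nat.prime_dvd_prime_iff_eq Nat.prime_two hq).mp
          (Nat.prime_two.dvd_of_dvd_pow h)).symm)
        (fun h => hq3 ((Nat.prime_dvd_prime_iff_eq Nat.prime_three hq).mp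
          (Nat.prime_three.dvd_of_dvd_pow h)).symm)
      conv_rhs => rw [h1, inv_mul_cancel_right]
  -- so `P` is transitive on the cosets of `C`
  have hcop : Nat.Coprime C.index (P : Subgroup G).index := by
    refine Nat.coprime_of_dvd fun q hq h1 h2 => ?_
    rcases eq_or_ne q 3 with rfl | h
    · exact P.not_dvd_index h2
    · exact hidx q hq h h1
  have hPC : ∀ g : G, ∃ p ∈ (P : Subgroup G), ∃ c ∈ C, p * c = g := by
    intro g
    obtain ⟨x, hx, y, hy, e⟩ := Hall.exists_eq_mul_of_coprime_index hcop.symm g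
    exact ⟨x, hx, y, hy, e.symm⟩
  set H : Subgroup G := Subgroup.zpowers a ⊔ (P : Subgroup G)
  have hDH : ∀ e ∈ D, ∃ x ∈ (P : Subgroup G), e = x * a * x⁻¹ := by
    intro e he
    have he' : ∃ g : G, e = g * a * g⁻¹ := by
      by_cases h : Commute a e
      · exact ⟨1, by rw [hw a ha e he h]; group⟩
      · refine ⟨a * e, ?_⟩
        rw [mul_inv_rev, inv_eq_self hS ha, inv_eq_self hS he,
          show a * e * a * (e * a) = a * (e * a * e) * a by group,
          braid hS he ha (fun x => h x.symm), conj_conj hS ha]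
    obtain ⟨g, rfl⟩ := he'
    obtain ⟨x, hx, c, hc', rfl⟩ := hPC g
    refine ⟨x, hx, ?_⟩
    rw [show x * c * a * (x * c)⁻¹ = x * (c * a * c⁻¹) * x⁻¹ by group,
      Subgroup.mem_centralizer_singleton_iff.mp hc', mul_inv_cancel_right]
  have hnorm : (P : Subgroup G).Normal := by
    rw [← Subgroup.normalizer_eq_top_iff, eq_top_iff, ← hgen, Subgroup.closure_le]
    intro e he
    obtain ⟨x, hx, rfl⟩ := hDH e he
    exact mul_mem (mul_mem (Subgroup.le_normalizer hx) hP) (inv_mem (Subgroup.le_normalizer hx))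
  refine Fitting.le_pCore hnorm P.isPGroup' ?_
  obtain ⟨x, hx, rfl⟩ := hDH b hb
  have : a * (x * a * x⁻¹) = (a * x * a⁻¹) * x⁻¹ := by
    rw [inv_eq_self hS ha]; group
  rw [this]
  exact mul_mem (hnorm.conj_mem x hx a) (inv_mem hx)

theorem isSolvable_of_no_commuting (hS : IsThreeTranspositionSet D) (hc : IsConjClosed D)
    (hgen : Subgroup.closure D = ⊤) (hw : ∀ a ∈ D, ∀ b ∈ D, Commute a b → a = b) :
    Group.IsSolvable G := by
  haveI : Fact (Nat.Prime 3) := ⟨Nat.prime_three⟩
  haveI : (Cfsg.pCore 3 G).Normal := Fitting.pCore_normal 3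
  haveI : Group.IsNilpotent (Cfsg.pCore 3 G) := (Fitting.pCore_isPGroup 3).isNilpotent
  rcases D.eq_empty_or_nonempty with h | ⟨d, hd⟩
  · rw [h, Subgroup.closure_empty] at hgen
    haveI : Subsingleton (Subgroup G) := subsingleton_of_bot_eq_top hgen
    haveI : Subsingleton G := Subgroup.subsingleton_iff.mp this
    infer_instance
  have hcomm : ∀ x y : G ⧸ Cfsg.pCore 3 G, x * y = y * x := by
    have hz : ∀ x : G ⧸ Cfsg.pCore 3 G, x ∈ Subgroup.zpowers (QuotientGroup.mk' _ d) := by
      intro x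
      obtain ⟨g, rfl⟩ := QuotientGroup.mk'_surjective _ x
      have hg : g ∈ Subgroup.closure D := hgen ▸ Subgroup.mem_top g
      refine (?_ : Subgroup.closure D ≤
        (Subgroup.zpowers (QuotientGroup.mk' (Cfsg.pCore 3 G) d)).comap (QuotientGroup.mk' _)) hg
      rw [Subgroup.closure_le]
      intro e he
      have : QuotientGroup.mk' (Cfsg.pCore 3 G) (d * e) = 1 :=
        (QuotientGroup.eq_one_iff _).mpr (mul_mem_pCore_three hS hc hgen hw hd he)
      rw [map_mul] at this
      show QuotientGroup.mk' (Cfsg.pCore 3 G) e ∈ Subgroup.zpowers (QuotientGroup.mk' (Cfsg.pCore 3 G) d)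
      rw [← inv_eq_of_mul_eq_one_right this]
      exact inv_mem (Subgroup.mem_zpowers _)
    intro x y
    obtain ⟨i, rfl⟩ := hz x
    obtain ⟨j, rfl⟩ := hz y
    exact (Commute.refl _).zpow_zpow i j
  haveI : Group.IsSolvable (G ⧸ Cfsg.pCore 3 G) := Group.isSolvable_of_comm hcomm
  exact Group.isSolvable_of_ker_le_range (Cfsg.pCore 3 G).subtype
    (QuotientGroup.mk' (Cfsg.pCore 3 G)) (by simp)

end CfsgLib.ThreeTransp
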