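import Mathlib
import Cfsg.Agent.Lib.ThreeTransp.Classes
import Cfsg.Agent.Lib.ThreeTransp.WidthOne

/-!
Members commuting with the same other members and the largest normal 3-subgroup.
-/

set_option autoImplicit false
set_option linter.style.haveILetI false

namespace CfsgLib.ThreeTransp

open Cfsg

variable {G : Type*} [Group G] [Finite G] {D : Set G}
variable (hS : IsThreeTranspositionSet D) (hc : IsConjClosed D)
include hS

include hc in
theorem mul_mem_pCore_three_of_starEq {d w : G} (hd : d ∈ D) (hw : w ∈ D) (h : StarEq D d w) :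
    d * w ∈ Cfsg.pCore 3 G := by
  haveI : Fact (Nat.Prime 3) := ⟨Nat.prime_three⟩
  have hR := starEq_isInvariantEquiv hc
  set K := classKernel hc (StarEq D) hR
  haveI : K.Normal := classKernel_normal hc _ hR
  set S : Set G := {b | b ∈ D ∧ StarEq D d b}
  set H := Subgroup.closure S
  set P : Subgroup G := (Cfsg.pCore 3 H).map H.subtype
  have hprod : ∀ a ∈ S, ∀ b ∈ S, a * b ∈ P := by
    intro a ha b hb
    have hmem : (⟨a, Subgroup.subset_closure ha⟩ * ⟨b, Subgroup.subset_closure hb⟩ : H) ∈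
        Cfsg.pCore 3 H := by
      refine mul_mem_pCore_three (D := {x : H | (x : G) ∈ S}) ⟨?_, ?_⟩
        (class_set_conjClosed hR hc d) ?_ ?_ ha hb
      · intro x hx
        rw [← Subgroup.orderOf_coe]
        exact hS.1 _ hx.1
      · intro x hx y hy
        rcases hS.2 _ hx.1 _ hy.1 with h | h
        · exact Or.inl (Subtype.ext (by simpa using h))
        · exact Or.inr (Subtype.ext (by simpa using h))
      · exact restrict_closure (D := S) H
          (le_antisymm ((Subgroup.closure_le _).mpr fun x hx => hx.2)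
            ((Subgroup.closure_le _).mpr fun x hx =>
              Subgroup.subset_closure ⟨hx, Subgroup.subset_closure hx⟩))
      · intro x hx y hy hxy
        by_contra hne
        exact not_commute_of_starEq hS hy.1 (fun e => hne (Subtype.ext e))
          (hR.trans (hR.symm hx.2) hy.2) (hxy.map H.subtype)
    exact ⟨_, hmem, rfl⟩
  set Q := Subgroup.closure ((fun p : G × G => p.1 * p.2) '' (S ×ˢ S))
  have hQP : Q ≤ P := (Subgroup.closure_le _).mpr
    (by rintro _ ⟨⟨a, b⟩, ⟨ha, hb⟩, rfl⟩; exact hprod a ha b hb)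
  have hQK : Q ≤ K := by
    rw [Subgroup.closure_le]
    rintro _ ⟨⟨a, b⟩, ⟨ha, hb⟩, rfl⟩
    exact mul_mem_classKernel_star hS hc ha.1 hb.1 (hR.trans (hR.symm ha.2) hb.2)
  have hKQ : K ≤ Subgroup.normalizer (Q : Set G) := by
    intro k hk
    refine Subgroup.mem_normalizer_fintype fun x hx => ?_
    have hmap : Q.map (MulAut.conj k).toMonoidHom ≤ Q := by
      rw [MonoidHom.map_closure, Subgroup.closure_le]
      rintro _ ⟨_, ⟨⟨a, b⟩, ⟨ha, hb⟩, rfl⟩, rfl⟩
      exact Subgroup.subset_closure ⟨(k * a * k⁻¹, k * b * k⁻¹),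
        ⟨⟨hc k a ha.1, hR.trans ha.2 (hR.symm (hk a ha.1))⟩,
          ⟨hc k b hb.1, hR.trans hb.2 (hR.symm (hk b hb.1))⟩⟩, by simp⟩
    exact hmap ⟨x, hx, rfl⟩
  exact le_pCore_of_normalized hQK hKQ (((Fitting.pCore_isPGroup 3).map H.subtype).to_le hQP)
    (Subgroup.subset_closure ⟨(d, w), ⟨⟨hd, hR.refl d⟩, ⟨hw, h⟩⟩, rfl⟩)

include hc in
theorem starEq_iff_mul_mem {d v : G} (hd : d ∈ D) (hv : v ∈ D) :
    StarEq D d v ↔ d * v ∈ Cfsg.pCore 3 G :=
  haveI : Fact (Nat.Prime 3) := ⟨Nat.prime_three⟩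
  haveI := Fitting.pCore_normal (G := G) 3
  ⟨mul_mem_pCore_three_of_starEq hS hc hd hv, starEq_of_mul_mem hS (Fitting.pCore_isPGroup 3) hd hv⟩

end CfsgLib.ThreeTransp
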