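import Mathlib
import Cfsg.Prelude.Def_Local
import Cfsg.Agent.Lib.Layer.FStar
import Cfsg.Agent.Lib.ThreeTransp.WClasses

/-!
Fischer's structure theorem for groups generated by a class of 3-transpositions: Fitting subgroup,
layer, and uniqueness of the component when the 2- and 3-cores are central.
-/

set_option autoImplicit false
set_option linter.style.haveILetI false

namespace CfsgLib.ThreeTransp

open Cfsg
open scoped commutatorElement

variable {G : Type*} [Group G] [Finite G] {D : Set G}

theorem pCore_le_center (hS : IsThreeTranspositionSet D) (hc : IsConjClosed D)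
    (hgen : Subgroup.closure D = ⊤) {p : ℕ} (hp : p.Prime) (hp3 : 3 < p) :
    Cfsg.pCore p G ≤ Subgroup.center G := by
  haveI := Fitting.pCore_normal (G := G) p
  refine le_center_of_forall hgen fun x hx d hd => ?_
  have hmem : d * (x * d * x⁻¹) ∈ Cfsg.pCore p G := by
    rw [show d * (x * d * x⁻¹) = d * x * d * x⁻¹ by group]
    nth_rw 2 [← inv_eq_self hS hd]
    exact mul_mem (Subgroup.Normal.conj_mem inferInstance x hx d) (inv_mem hx)
  obtain ⟨k, hk⟩ := Fitting.pCore_isPGroup (G := G) p ⟨_, hmem⟩
  have h2 : ¬ 2 ∣ p ^ k := fun h => by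
    have := (Nat.prime_dvd_prime_iff_eq Nat.prime_two hp).mp (Nat.prime_two.dvd_of_dvd_pow h)
    omega
  have h3 : ¬ 3 ∣ p ^ k := fun h => by
    have := (Nat.prime_dvd_prime_iff_eq Nat.prime_three hp).mp (Nat.prime_three.dvd_of_dvd_pow h)
    omega
  have h5 := mul_eq_one_of_coprime_order hS hd (hc x d hd)
    (by simpa using congrArg Subtype.val hk) h2 h3
  have h6 : x * d = d * x := by
    conv_rhs => rw [h5, inv_mul_cancel_right]
  exact h6.symm

theorem fittingSubgroup_le_center (hS : IsThreeTranspositionSet D) (hc : IsConjClosed D)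
    (hgen : Subgroup.closure D = ⊤) (h2 : Cfsg.pCore 2 G ≤ Subgroup.center G)
    (h3 : Cfsg.pCore 3 G ≤ Subgroup.center G) : fittingSubgroup G ≤ Subgroup.center G := by
  set F := fittingSubgroup G
  haveI : F.Normal := Fitting.fittingSubgroup_normal
  haveI : Group.IsNilpotent F := Fitting.fittingSubgroup_isNilpotent
  have key : ∀ p : ℕ, p.Prime → ∀ P : Sylow p F, (P : Subgroup F).map F.subtype ≤ Subgroup.center G := by
    intro p hp P
    haveI : Fact p.Prime := ⟨hp⟩
    haveI : (P : Subgroup F).Normal := Sylow.normal_of_normalizerCondition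
      Group.normalizerCondition_of_isNilpotent P
    haveI : (P : Subgroup F).Characteristic := P.characteristic_of_normal inferInstance
    have hle : (P : Subgroup F).map F.subtype ≤ Cfsg.pCore p G :=
      Fitting.le_pCore inferInstance (P.isPGroup'.map F.subtype)
    rcases eq_or_ne p 2 with rfl | h
    · exact hle.trans h2
    rcases eq_or_ne p 3 with rfl | h'
    · exact hle.trans h3
    refine hle.trans (pCore_le_center hS hc hgen hp ?_)
    have := hp.two_le
    omega
  have hidx : ((Subgroup.center G).subgroupOf F).index = 1 := by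
    by_contra hne
    obtain ⟨p, hp, hdvd⟩ := Nat.exists_prime_and_dvd hne
    haveI : Fact p.Prime := ⟨hp⟩
    obtain ⟨P⟩ : Nonempty (Sylow p F) := Sylow.nonempty
    exact P.not_dvd_index (hdvd.trans (Subgroup.index_dvd_of_le fun x hx =>
      Subgroup.mem_subgroupOf.mpr (key p hp P ⟨x, hx, rfl⟩)))
  exact Subgroup.subgroupOf_eq_top.mp (Subgroup.index_eq_one.mp hidx)

/-- A simple group in which every element squares or cubes to one is commutative. -/
theorem comm_of_simple_of_orders {S : Type*} [Group S] [Finite S] [IsSimpleGroup S]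
    (h : ∀ x : S, x ^ 2 = 1 ∨ x ^ 3 = 1) : ∀ x y : S, x * y = y * x := by
  by_contra hne
  push_neg at hne
  obtain ⟨x₀, y₀, hxy⟩ := hne
  have hsol : ¬ Group.IsSolvable S := fun hs =>
    hxy (IsSimpleGroup.comm_iff_isSolvable.mpr hs x₀ y₀)
  by_cases h2 : ∃ u : S, orderOf u = 2
  · obtain ⟨u, hu⟩ := h2
    set E := conjugatesOf u
    have hord : ∀ e ∈ E, orderOf e = 2 := fun e he => by
      obtain ⟨g, rfl⟩ := isConj_iff.mp (show IsConj u e from he)
      rw [← hu]
      exact (MulEquiv.orderOf_eq (MulAut.conj g) u)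
    have hES : IsThreeTranspositionSet E := ⟨hord, fun a _ b _ => h (a * b)⟩
    have hEc : IsConjClosed E := fun g d hd =>
      IsConj.trans hd (isConj_iff.mpr ⟨g, rfl⟩)
    have hgen : Subgroup.closure E = ⊤ := by
      haveI : (Subgroup.closure E).Normal := ⟨fun x hx g => by
        have hle : (Subgroup.closure E).map (MulAut.conj g).toMonoidHom ≤ Subgroup.closure E := by
          rw [MonoidHom.map_closure, Subgroup.closure_le]
          rintro _ ⟨e, he, rfl⟩
          exact Subgroup.subset_closure (hEc g e he)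
        exact hle ⟨x, hx, rfl⟩⟩
      refine (Subgroup.Normal.eq_bot_or_eq_top inferInstance).resolve_left fun hb => ?_
      have h1 : u ∈ Subgroup.closure E := Subgroup.subset_closure (mem_conjugatesOf_self)
      rw [hb, Subgroup.mem_bot] at h1
      rw [h1, orderOf_one] at hu
      norm_num at hu
    have hclass : IsThreeTranspositionClass E := ⟨hES, ⟨u, mem_conjugatesOf_self, rfl⟩, hgen⟩
    refine hsol (isSolvable_of_no_commuting hES hEc hgen fun a ha b hb hab => ?_)
    by_contra hne'
    obtain ⟨c, hc, hac⟩ := exists_not_commute hclass ⟨a, ha, b, hb, hne'⟩ ha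
    by_cases hcb : Commute c b
    · have h6 : Commute (a * c) b := hab.mul_left hcb
      rcases h (a * c * b) with h' | h' <;> rw [h6.mul_pow] at h'
      · rw [pow_two b, mul_self_eq_one hES hb, mul_one] at h'
        exact hac ((commute_iff_mul_pow_two hES ha hc).mpr h')
      · rw [mul_pow_three_of_not_commute hES ha hc hac, one_mul,
          show b ^ 3 = b * b * b by simp [pow_succ], mul_self_eq_one hES hb, one_mul] at h'
        exact ne_one_of_mem hES hb h'
    · have h4 : (a * c * b) * (a * c * b) = c * (a * b) * c := by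
        rw [show a * c * b * (a * c * b) = a * c * (b * a) * (c * b) by group, ← hab.eq,
          show a * c * (a * b) * (c * b) = a * c * a * (b * c * b) by group,
          braid hES ha hc hac, braid hES hb hc (fun x => hcb x.symm),
          show c * a * c * (c * b * c) = c * a * (c * c) * b * c by group,
          mul_self_eq_one hES hc]
        group
      have h4' : c * (a * b) * c ≠ 1 := fun h' => hne' (by
        have : a * b = 1 := by
          rw [← conj_conj hES hc (a * b), h', mul_one, mul_self_eq_one hES hc]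
        rw [eq_inv_of_mul_eq_one_left this, inv_eq_self hES hb])
      rcases h (a * c * b) with h' | h'
      · rw [pow_two, h4] at h'; exact h4' h'
      · have h8 : (a * c * b * (a * c * b)) * (a * c * b * (a * c * b)) = 1 := by
          rw [h4, show c * (a * b) * c * (c * (a * b) * c) = c * (a * b) * (c * c) * (a * b) * c by
            group, mul_self_eq_one hES hc, mul_one,
            show c * (a * b) * (a * b) * c = c * ((a * b) * (a * b)) * c by group, ← pow_two,
            (commute_iff_mul_pow_two hES ha hb).mp hab, mul_one, mul_self_eq_one hES hc]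
        have h9 : a * c * b = 1 := by
          rw [← h8]
          symm
          calc a * c * b * (a * c * b) * (a * c * b * (a * c * b))
              = (a * c * b) ^ 3 * (a * c * b) := by simp only [pow_succ, pow_zero, one_mul, mul_assoc]
            _ = a * c * b := by rw [h', one_mul]
        exact h4' (by rw [← h4, h9, mul_one])
  · haveI : Fact (Nat.Prime 3) := ⟨Nat.prime_three⟩
    have h3 : IsPGroup 3 S := fun g => ⟨1, by
      rw [pow_one]
      rcases h g with h' | h'
      · by_cases hg : g = 1
        · simp [hg]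
        · exact absurd ⟨g, orderOf_eq_prime h' hg⟩ h2
      · exact h'⟩
    haveI := h3.isNilpotent
    exact hsol inferInstance

/-- Subgroups containing the members of a class generate. -/
theorem eq_top_of_subset (hgen : Subgroup.closure D = ⊤) {H : Subgroup G} (h : D ⊆ (H : Set G)) :
    H = ⊤ := eq_top_iff.mpr (hgen ▸ (Subgroup.closure_le H).mpr h)

theorem center_ne_top (hD : IsThreeTranspositionClass D) (hD2 : ∃ a ∈ D, ∃ b ∈ D, a ≠ b) :
    Subgroup.center G ≠ ⊤ := by
  intro h
  obtain ⟨a, ha, b, hb, hab⟩ := hD2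
  exact hab (eq_of_forall_commute hD hb (fun e _ => (Subgroup.mem_center_iff.mp
    (h ▸ Subgroup.mem_top b) e).symm) ha)

theorem center_le_fitting : Subgroup.center G ≤ fittingSubgroup G :=
  haveI : Group.IsNilpotent (Subgroup.center G) := by
    open scoped IsMulCommutative in infer_instance
  Fitting.le_fittingSubgroup inferInstance inferInstance

/-- A normal component is not centralised by a member. -/
theorem not_centralize_component (hD : IsThreeTranspositionClass D) {L : Subgroup G}
    (hL : IsComponent L) [L.Normal] {d : G} (hd : d ∈ D) : ¬ ∀ l ∈ L, Commute d l := by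
  intro h
  have hle : L ≤ Subgroup.center G := le_center_of_forall hD.2.2 fun l hl e he => by
    obtain ⟨g, rfl⟩ := class_exists_conj hD hd he
    have h1 := (h _ (Subgroup.Normal.conj_mem inferInstance l hl g⁻¹)).map (MulAut.conj g)
    simpa [mul_assoc] using h1
  exact Layer.not_isSolvable_of_isComponent hL (Group.isSolvable_of_comm fun a b =>
    Subtype.ext (Subgroup.mem_center_iff.mp (hle b.2) a))

/-- The solvable subgroups normalised by a component are centralised by it. -/
theorem centralize_of_closure_orbit {L : Subgroup G} (hL : IsComponent L) {d : G}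
    (hsol : Group.IsSolvable (Subgroup.closure {x : G | ∃ l ∈ L, x = l * d * l⁻¹})) :
    ∀ l ∈ L, Commute d l := by
  have hnorm : L ≤ Subgroup.normalizer
      (Subgroup.closure {x : G | ∃ l ∈ L, x = l * d * l⁻¹} : Set G) := by
    intro k hk
    refine Subgroup.mem_normalizer_fintype fun x hx => ?_
    have hmap : (Subgroup.closure {x : G | ∃ l ∈ L, x = l * d * l⁻¹}).map
        (MulAut.conj k).toMonoidHom ≤ Subgroup.closure {x : G | ∃ l ∈ L, x = l * d * l⁻¹} := by
      rw [MonoidHom.map_closure, Subgroup.closure_le]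
      rintro _ ⟨_, ⟨l, hl, rfl⟩, rfl⟩
      exact Subgroup.subset_closure ⟨k * l, L.mul_mem hk hl, by simp [mul_assoc]⟩
    exact hmap ⟨x, hx, rfl⟩
  have h := Layer.commutator_eq_bot_of_isSolvable hL hsol hnorm
  intro l hl
  exact Subgroup.mem_centralizer_iff.mp (Subgroup.commutator_eq_bot_iff_le_centralizer.mp h hl) d
    (Subgroup.subset_closure ⟨1, L.one_mem, by group⟩)

theorem exists_orbit_not_commute (hD : IsThreeTranspositionClass D) {L : Subgroup G}
    (hL : IsComponent L) [L.Normal] {d : G} (hd : d ∈ D) :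
    ∃ l ∈ L, ¬ Commute d (l * d * l⁻¹) := by
  by_contra! h
  refine not_centralize_component hD hL hd (centralize_of_closure_orbit hL ?_)
  set S : Set G := {x : G | ∃ l ∈ L, x = l * d * l⁻¹}
  have hSD : S ⊆ D := by rintro _ ⟨l, -, rfl⟩; exact class_conjClosed hD l d hd
  have hcomm : ∀ a ∈ S, ∀ b ∈ S, Commute a b := by
    rintro _ ⟨l, hl, rfl⟩ _ ⟨m, hm, rfl⟩
    have h1 := (h _ (L.mul_mem (L.inv_mem hl) hm)).map (MulAut.conj l)
    simpa [mul_assoc] using h1
  haveI : Fact (Nat.Prime 2) := ⟨Nat.prime_two⟩
  haveI := (isPGroup_two_closure_of_commute hD.1 hSD hcomm).isNilpotent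
  infer_instance

theorem exists_orbit_commute (hD : IsThreeTranspositionClass D) {L : Subgroup G}
    (hL : IsComponent L) [L.Normal] {d : G} (hd : d ∈ D) :
    ∃ l ∈ L, Commute d (l * d * l⁻¹) ∧ l * d * l⁻¹ ≠ d := by
  by_contra! h
  refine not_centralize_component hD hL hd (centralize_of_closure_orbit hL ?_)
  set S : Set G := {x : G | ∃ l ∈ L, x = l * d * l⁻¹}
  have hSD : S ⊆ D := by rintro _ ⟨l, -, rfl⟩; exact class_conjClosed hD l d hd
  set H := Subgroup.closure S
  refine isSolvable_of_no_commuting (D := {x : H | (x : G) ∈ S}) ⟨?_, ?_⟩ ?_ ?_ ?_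
  · intro x hx
    rw [← Subgroup.orderOf_coe]
    exact hD.1.1 _ (hSD hx)
  · intro x hx y hy
    rcases hD.1.2 _ (hSD hx) _ (hSD hy) with h' | h'
    · exact Or.inl (Subtype.ext (by simpa using h'))
    · exact Or.inr (Subtype.ext (by simpa using h'))
  · rintro ⟨g, hg⟩ x hx
    have key : ∀ g ∈ H, ∀ x ∈ S, g * x * g⁻¹ ∈ S := by
      intro g hg
      induction hg using Subgroup.closure_induction with
      | mem a ha =>
        obtain ⟨l, hl, rfl⟩ := ha
        rintro _ ⟨m, hm, rfl⟩
        exact ⟨l * (d * (l⁻¹ * m) * d⁻¹), L.mul_mem hl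
          (Subgroup.Normal.conj_mem inferInstance _ (L.mul_mem (L.inv_mem hl) hm) d), by group⟩
      | one => simp
      | mul a b _ _ iha ihb =>
        intro x hx
        have := iha _ (ihb x hx)
        simpa [mul_assoc] using this
      | inv a ha iha =>
        intro x hx
        have : (fun y => a⁻¹ * y * a⁻¹⁻¹) x ∈ S := by
          have hsub : (fun y => a * y * a⁻¹) '' S ⊆ S := by rintro _ ⟨y, hy, rfl⟩; exact iha y hy
          have heq := Set.eq_of_subset_of_ncard_le hsub
            (by rw [Set.ncard_image_of_injective _ fun p q e => by simpa using e]) (Set.toFinite _)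
          obtain ⟨y, hy, rfl⟩ := heq.symm ▸ hx
          simpa [mul_assoc] using hy
        exact this
    exact key g hg _ hx
  · exact restrict_closure (D := S) H
      (le_antisymm ((Subgroup.closure_le _).mpr fun x hx => hx.2)
        ((Subgroup.closure_le _).mpr fun x hx =>
          Subgroup.subset_closure ⟨hx, Subgroup.subset_closure hx⟩))
  · intro x hx y hy hxy
    obtain ⟨l, hl, hlx⟩ := hx
    obtain ⟨m, hm, hmy⟩ := hy
    have h1 : Commute (x : G) (y : G) := hxy.map H.subtype
    rw [hlx, hmy] at h1
    have h2 : Commute d ((l⁻¹ * m) * d * (l⁻¹ * m)⁻¹) := by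
      have := h1.map (MulAut.conj l⁻¹)
      simpa [mul_assoc] using this
    refine Subtype.ext ?_
    rw [hlx, hmy]
    have h3 := h _ (L.mul_mem (L.inv_mem hl) hm) h2
    calc l * d * l⁻¹ = l * ((l⁻¹ * m) * d * (l⁻¹ * m)⁻¹) * l⁻¹ := by rw [h3]
      _ = m * d * m⁻¹ := by group

theorem component_normal (hD : IsThreeTranspositionClass D) {L : Subgroup G}
    (hL : IsComponent L) : L.Normal := by
  rw [← Subgroup.normalizer_eq_top_iff]
  refine eq_top_of_subset hD.2.2 fun d hd => ?_
  have hS := hD.1
  by_contra hne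
  set M := L.map (MulAut.conj d).toMonoidHom
  have hM : IsComponent M := Layer.isComponent_conj hL d
  have hML : L ≠ M := fun h => hne (Subgroup.mem_normalizer_fintype fun x hx =>
    h.ge (⟨x, hx, rfl⟩ : MulAut.conj d x ∈ M))
  have hcomm := Subgroup.commutator_eq_bot_iff_le_centralizer.mp
    (Layer.commutator_eq_bot_of_ne hL hM hML)
  set Z := Subgroup.center L
  have horder : ∀ x : L ⧸ Z, x ^ 2 = 1 ∨ x ^ 3 = 1 := by
    intro x
    obtain ⟨l, rfl⟩ := QuotientGroup.mk_surjective x
    have hxM : d * (l : G) * d⁻¹ ∈ M := ⟨l, l.2, rfl⟩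
    have hlx : Commute (d * (l : G) * d⁻¹) (l : G)⁻¹ :=
      (Subgroup.mem_centralizer_iff.mp (hcomm l.2) _ hxM : _ = _) |> fun e => (Commute.inv_right e)
    have hprod : d * ((l : G) * d * (l : G)⁻¹) = (d * (l : G) * d⁻¹) * (l : G)⁻¹ := by
      rw [inv_eq_self hS hd]; group
    have key : ∀ n : ℕ, (d * ((l : G) * d * (l : G)⁻¹)) ^ n = 1 →
        (QuotientGroup.mk l : L ⧸ Z) ^ n = 1 := by
      intro n hn
      rw [← QuotientGroup.mk_pow, QuotientGroup.eq_one_iff, Subgroup.mem_center_iff]
      intro k
      refine Subtype.ext ?_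
      rw [hprod, hlx.mul_pow, inv_pow, mul_inv_eq_one] at hn
      have h1 : (d * (l : G) * d⁻¹) ^ n ∈ M := M.pow_mem hxM n
      rw [hn] at h1
      simpa using (Subgroup.mem_centralizer_iff.mp (hcomm k.2) _ h1).symm
    rcases hS.2 d hd _ (class_conjClosed hD (l : G) d hd) with h | h
    · exact Or.inl (key 2 h)
    · exact Or.inr (key 3 h)
  haveI := hL.2.2
  haveI : Group.IsSolvable (L ⧸ Z) := Group.isSolvable_of_comm (comm_of_simple_of_orders horder)
  haveI : Group.IsSolvable Z := by open scoped IsMulCommutative in infer_instance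
  exact Layer.not_isSolvable_of_isComponent hL
    (Group.isSolvable_of_ker_le_range Z.subtype (QuotientGroup.mk' Z) (by simp))

theorem component_unique (hD : IsThreeTranspositionClass D) {L M : Subgroup G}
    (hL : IsComponent L) (hM : IsComponent M) : L = M := by
  by_contra hne
  have hS := hD.1
  haveI := component_normal hD hL
  haveI := component_normal hD hM
  obtain ⟨d, hd, -⟩ := hD.2.1
  obtain ⟨l, hl, hu⟩ := exists_orbit_not_commute hD hL hd
  obtain ⟨m, hm, hv, hvd⟩ := exists_orbit_commute hD hM hd
  have hdl : l * d * l⁻¹ ∈ D := class_conjClosed hD l d hd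
  have hdm : m * d * m⁻¹ ∈ D := class_conjClosed hD m d hd
  set u := d * (l * d * l⁻¹)
  set v := d * (m * d * m⁻¹)
  have hcomm := Subgroup.commutator_eq_bot_iff_le_centralizer.mp
    (Layer.commutator_eq_bot_of_ne hL hM hne)
  have hvM : v ∈ M := by
    rw [show v = (d * m * d⁻¹) * m⁻¹ by simp only [v, inv_eq_self hS hd, mul_assoc]]
    exact mul_mem (Subgroup.Normal.conj_mem inferInstance m hm d) (inv_mem hm)
  have huL : u ∈ L := by
    rw [show u = (d * l * d⁻¹) * l⁻¹ by simp only [u, inv_eq_self hS hd, mul_assoc]]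
    exact mul_mem (Subgroup.Normal.conj_mem inferInstance l hl d) (inv_mem hl)
  have huv : Commute u v := (Subgroup.mem_centralizer_iff.mp (hcomm huL) v hvM).symm
  have hvl : l * v = v * l := (Subgroup.mem_centralizer_iff.mp (hcomm hl) v hvM).symm
  have hprod : d * (l * m * d * (l * m)⁻¹) = u * v := by
    have h1 : m * d * m⁻¹ = d * v := by rw [mul_self_cancel hS hd]
    calc d * (l * m * d * (l * m)⁻¹) = d * (l * (m * d * m⁻¹) * l⁻¹) := by group
      _ = d * (l * (d * v) * l⁻¹) := by rw [h1]
      _ = d * l * d * (l⁻¹ * (l * v)) * l⁻¹ := by group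
      _ = d * l * d * (l⁻¹ * (v * l)) * l⁻¹ := by rw [hvl]
      _ = d * (l * d * l⁻¹) * v := by group
      _ = u * v := rfl
  have hu2 : u ^ 2 ≠ 1 := fun h => hu ((commute_iff_mul_pow_two hS hd hdl).mpr h)
  have hu3 : u ^ 3 = 1 := mul_pow_three_of_not_commute hS hd hdl hu
  have hv2 : v ^ 2 = 1 := (commute_iff_mul_pow_two hS hd hdm).mp hv
  rcases hS.2 d hd _ (class_conjClosed hD (l * m) d hd) with h | h <;>
    rw [hprod, huv.mul_pow] at h
  · rw [hv2, mul_one] at h; exact hu2 h
  · rw [hu3, one_mul, pow_succ, hv2, one_mul] at h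
    exact hvd (by rw [← mul_self_cancel hS hd (m * d * m⁻¹)]; exact (mul_eq_left.mpr h))

theorem layer_structure (hD : IsThreeTranspositionClass D) (hD2 : ∃ a ∈ D, ∃ b ∈ D, a ≠ b)
    (h2 : Cfsg.pCore 2 G ≤ Subgroup.center G) (h3 : Cfsg.pCore 3 G ≤ Subgroup.center G) :
    IsComponent (layer G) ∧ IsQuasisimple (layer G) ∧
      generalizedFittingSubgroup G = layer G ⊔ Subgroup.center G := by
  have hF : fittingSubgroup G = Subgroup.center G :=
    le_antisymm (fittingSubgroup_le_center hD.1 (class_conjClosed hD) hD.2.2 h2 h3)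
      center_le_fitting
  have hex : ∃ K : Subgroup G, IsComponent K := by
    by_contra! h
    have hC := Layer.centralizer_fittingSubgroup_le (Layer.layer_eq_bot_iff.mpr h)
    rw [hF] at hC
    refine center_ne_top hD hD2 (eq_top_iff.mpr (le_trans (fun x _ => ?_) hC))
    exact Subgroup.mem_centralizer_iff.mpr fun y hy => (Subgroup.mem_center_iff.mp hy x).symm
  obtain ⟨K, hK⟩ := hex
  have hKL : layer G = K := le_antisymm
    (sSup_le fun M hM => (component_unique hD hM hK).le) (Layer.isComponent_le_layer hK)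
  refine ⟨hKL ▸ hK, hKL ▸ hK.2, ?_⟩
  rw [generalizedFittingSubgroup, hF]

theorem congr_mod_layer (hD : IsThreeTranspositionClass D) {L : Subgroup G} (hL : IsComponent L)
    [L.Normal] {a b : G} (ha : a ∈ D) (hb : b ∈ D) (h : a * b * a⁻¹ * b⁻¹ ∈ L) : a⁻¹ * b ∈ L := by
  have hS := hD.1
  set π := QuotientGroup.mk' L
  have hcomm : Commute (π a) (π b) := by
    have h1 : π (a * b * a⁻¹ * b⁻¹) = 1 := (QuotientGroup.eq_one_iff _).mpr h
    rw [map_mul, map_mul, map_mul, map_inv, map_inv] at h1
    exact mul_inv_eq_iff_eq_mul.mp (mul_inv_eq_one.mp h1)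
  suffices heq : π a = π b from QuotientGroup.eq.mp heq
  by_contra hne
  have key : ∀ l ∈ L, Commute (l * a * l⁻¹) b := by
    intro l hl
    have himg : π (l * a * l⁻¹) = π a := by
      rw [map_mul, map_mul, map_inv, show π l = 1 from (QuotientGroup.eq_one_iff _).mpr hl]
      simp
    rcases eq_or_commute_of_map_commute π hS (class_conjClosed hD l a ha) hb (himg ▸ hcomm)
      with h' | h'
    · exact absurd (himg ▸ h') hne
    · exact h'
  set H := Subgroup.closure {x : G | ∃ l ∈ L, x = l * a * l⁻¹}
  have hbH : H ≤ Subgroup.centralizer ({b} : Set G) := by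
    rw [Subgroup.closure_le]
    rintro _ ⟨l, hl, rfl⟩
    exact Subgroup.mem_centralizer_singleton_iff.mpr (key l hl).eq
  -- the perfect group `L` lies in `H`, as it is not centralised by `a`
  have hLH : L ≤ H := by
    have hnorm : L ≤ Subgroup.normalizer (H : Set G) := by
      intro k hk
      refine Subgroup.mem_normalizer_fintype fun x hx => ?_
      have hmap : H.map (MulAut.conj k).toMonoidHom ≤ H := by
        rw [MonoidHom.map_closure, Subgroup.closure_le]
        rintro _ ⟨_, ⟨l, hl, rfl⟩, rfl⟩
        exact Subgroup.subset_closure ⟨k * l, L.mul_mem hk hl, by simp [mul_assoc]⟩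
      exact hmap ⟨x, hx, rfl⟩
    haveI : (H.subgroupOf L).Normal := Subgroup.normal_subgroupOf_of_le_normalizer hnorm
    rcases Layer.eq_top_or_le_center_of_normal hL.2 (H.subgroupOf L) with h' | h'
    · exact Subgroup.subgroupOf_eq_top.mp h'
    exfalso
    have hac : ∀ l ∈ L, ⁅a, l⁆ ∈ (H.subgroupOf L).map L.subtype := by
      intro l hl
      have hmem : ⁅a, l⁆ ∈ L := by
        rw [commutatorElement_def]
        exact mul_mem (Subgroup.Normal.conj_mem inferInstance l hl a) (inv_mem hl)
      refine ⟨⟨_, hmem⟩, Subgroup.mem_subgroupOf.mpr ?_, rfl⟩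
      show ⁅a, l⁆ ∈ H
      rw [commutatorElement_def, show a * l * a⁻¹ * l⁻¹ = a * (l * a⁻¹ * l⁻¹) by group,
        inv_eq_self hS ha]
      exact mul_mem (Subgroup.subset_closure ⟨1, L.one_mem, by group⟩)
        (Subgroup.subset_closure ⟨l, hl, rfl⟩)
    have hbot : ⁅L, Subgroup.zpowers a⁆ = ⊥ := by
      refine Layer.commutator_eq_bot_of_perfect (Layer.isPerfect_of_isComponent hL) ?_
      rw [Subgroup.commutator_eq_bot_iff_le_centralizer, Subgroup.commutator_le]
      intro l hl x hx
      obtain ⟨k, rfl⟩ := Subgroup.mem_zpowers_iff.mp hx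
      have hpow : a ^ k = 1 ∨ a ^ k = a := by
        rcases Int.even_or_odd k with ⟨j, rfl⟩ | ⟨j, rfl⟩
        · left; rw [← two_mul, zpow_mul, zpow_two, mul_self_eq_one hS ha, one_zpow]
        · right; rw [zpow_add, zpow_mul, zpow_two, mul_self_eq_one hS ha, one_zpow, one_mul, zpow_one]
      rw [Subgroup.mem_centralizer_iff]
      intro m hm
      rcases hpow with e | e <;> rw [e]
      · simp
      · rw [← commutatorElement_inv]
        obtain ⟨z, hz, hze⟩ := hac l hl
        have := congrArg Subtype.val (Subgroup.mem_center_iff.mp (inv_mem (h' hz)) ⟨m, hm⟩)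
        simpa [← hze] using this
    refine not_centralize_component hD hL ha fun l hl => ?_
    exact Subgroup.mem_centralizer_iff.mp
      (Subgroup.commutator_eq_bot_iff_le_centralizer.mp hbot hl) a (Subgroup.mem_zpowers a)
  refine not_centralize_component hD hL hb fun l hl => ?_
  exact (Subgroup.mem_centralizer_singleton_iff.mp (hbH (hLH hl)) : l * b = b * l).symm

end CfsgLib.ThreeTransp
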