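import Mathlib
import Cfsg.Agent.Lib.ThreeTransp.Structure

/-!
Primitivity of the conjugation action on a class of 3-transpositions, modules of the commuting
graph, and maximality of the subgroup generated by the perp of a member.
-/

set_option autoImplicit false
set_option linter.style.haveILetI false

namespace CfsgLib.ThreeTransp

open Cfsg

variable {G : Type*} [Group G] {D : Set G}

theorem class_of_primitive (hD : IsThreeTranspositionGroup D) (hprim : IsPrimitiveUnderConj D) :
    IsThreeTranspositionClass D ∧ ∃ a ∈ D, ∃ b ∈ D, a ≠ b := by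
  obtain ⟨a, ha, -⟩ := hprim.2.1
  refine ⟨⟨hD.1, ⟨a, ha, Set.ext fun x => ⟨fun hx => ?_, fun hx => ?_⟩⟩, hD.2.2⟩, hprim.2.1⟩
  · obtain ⟨g, hg⟩ := hprim.1 a ha x hx
    exact isConj_iff.mpr ⟨g, hg⟩
  · obtain ⟨g, rfl⟩ := isConj_iff.mp (show IsConj a x from hx)
    exact hD.2.1 g a ha

/-- An invariant equivalence relation on a primitive class is trivial or full. -/
theorem eq_or_full_of_primitive (hc : IsConjClosed D) (hprim : IsPrimitiveUnderConj D)
    {R : G → G → Prop} (hR : IsInvariantEquiv D R) {d : G} (hd : d ∈ D) :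
    (∀ b ∈ D, R d b → b = d) ∨ ∀ b ∈ D, R d b := by
  set B : Set G := {b | b ∈ D ∧ R d b}
  have hblock : ∀ g : G, (fun x => g * x * g⁻¹) '' B = B ∨
      Disjoint ((fun x => g * x * g⁻¹) '' B) B := by
    intro g
    by_cases h : R d (g * d * g⁻¹)
    · left
      ext x
      constructor
      · rintro ⟨b, hb, rfl⟩
        exact ⟨hc g b hb.1, hR.trans h (hR.map g hb.2)⟩
      · rintro ⟨hx, hdx⟩
        refine ⟨g⁻¹ * x * g⁻¹⁻¹, ⟨hc _ x hx, ?_⟩, by simp [mul_assoc]⟩
        have h1 := hR.map g⁻¹ (hR.trans (hR.symm h) hdx)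
        simpa [mul_assoc] using h1
    · right
      rw [Set.disjoint_left]
      rintro _ ⟨b, hb, rfl⟩ hmem
      exact h (hR.trans hmem.2 (hR.symm (hR.map g hb.2)))
  rcases hprim.2.2 B (fun x hx => hx.1) hblock with h | h
  · exact Or.inl fun b hb hdb => h ⟨hb, hdb⟩ ⟨hd, hR.refl d⟩
  · exact Or.inr fun b hb => (h.symm ▸ hb : b ∈ B).2

/-- Reachability in the commuting graph, on elements of the group. -/
def CommReach (D : Set G) (a b : G) : Prop :=
  a = b ∨ ∃ (ha : a ∈ D) (hb : b ∈ D), (commutingGraph D).Reachable ⟨a, ha⟩ ⟨b, hb⟩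

/-- The graph automorphism given by conjugation. -/
def conjGraphHom (hc : IsConjClosed D) (g : G) : commutingGraph D →g commutingGraph D where
  toFun x := ⟨g * x * g⁻¹, hc g x x.2⟩
  map_rel' {a b} h := by
    simp only [commutingGraph, SimpleGraph.fromRel_adj] at h ⊢
    refine ⟨fun e => h.1 (Subtype.ext ?_), ?_⟩
    · simpa using congrArg Subtype.val e
    · rcases h.2 with h' | h'
      · exact Or.inl (h'.map (MulAut.conj g))
      · exact Or.inr (h'.map (MulAut.conj g))

theorem commReach_isInvariantEquiv (hc : IsConjClosed D) : IsInvariantEquiv D (CommReach D) where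
  refl _ := Or.inl rfl
  symm {a b} h := by
    rcases h with rfl | ⟨ha, hb, h⟩
    · exact Or.inl rfl
    · exact Or.inr ⟨hb, ha, h.symm⟩
  trans {a b c} h h' := by
    rcases h with rfl | ⟨ha, hb, h⟩
    · exact h'
    rcases h' with rfl | ⟨hb', hc', h'⟩
    · exact Or.inr ⟨ha, hb, h⟩
    · exact Or.inr ⟨ha, hc', h.trans h'⟩
  map g a b h := by
    rcases h with rfl | ⟨ha, hb, h⟩
    · exact Or.inl rfl
    · exact Or.inr ⟨hc g a ha, hc g b hb, h.map (conjGraphHom hc g)⟩

theorem commReach_of_commute {a b : G} (ha : a ∈ D) (hb : b ∈ D) (h : Commute a b) :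
    CommReach D a b := by
  rcases eq_or_ne a b with rfl | hne
  · exact Or.inl rfl
  refine Or.inr ⟨ha, hb, SimpleGraph.Adj.reachable ?_⟩
  simp only [commutingGraph, SimpleGraph.fromRel_adj]
  exact ⟨fun e => hne (congrArg Subtype.val e), Or.inl h⟩

theorem connected_of_primitive (hD : IsThreeTranspositionGroup D) (hprim : IsPrimitiveUnderConj D)
    (hw : ∃ a ∈ D, ∃ b ∈ D, a ≠ b ∧ Commute a b) : (commutingGraph D).Connected := by
  obtain ⟨a, ha, b, hb, hab, hcomm⟩ := hw
  have hfull := (eq_or_full_of_primitive hD.2.1 hprim (commReach_isInvariantEquiv hD.2.1) ha)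
    |>.resolve_left fun h => hab (h b hb (commReach_of_commute ha hb hcomm)).symm
  haveI : Nonempty D := ⟨⟨a, ha⟩⟩
  refine ⟨fun x y => ?_⟩
  have key : ∀ x : D, (commutingGraph D).Reachable ⟨a, ha⟩ x := by
    intro x
    rcases hfull x x.2 with h | ⟨_, _, h⟩
    · rw [show x = ⟨a, ha⟩ from Subtype.ext h.symm]
    · exact h
  exact (key x).symm.trans (key y)

variable [Finite G]

theorem pCore_two_le_center (hD : IsThreeTranspositionGroup D) (hprim : IsPrimitiveUnderConj D) :
    Cfsg.pCore 2 G ≤ Subgroup.center G := by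
  obtain ⟨hcl, hD2⟩ := class_of_primitive hD hprim
  obtain ⟨hS, hc, hgen⟩ := hD
  haveI := Fitting.pCore_normal (G := G) 2
  refine le_center_of_forall hgen fun x hx d hd => ?_
  have hv : PerpEq D d (x * d * x⁻¹) := by
    refine perpEq_of_mul_mem hS (Fitting.pCore_isPGroup 2) hd (hc x d hd) ?_
    rw [show d * (x * d * x⁻¹) = (d * x * d) * x⁻¹ by group]
    nth_rw 2 [← inv_eq_self hS hd]
    exact mul_mem (Subgroup.Normal.conj_mem inferInstance x hx d) (inv_mem hx)
  rcases eq_or_full_of_primitive hc hprim (perpEq_isInvariantEquiv hc) hd with h | h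
  · have h' := h _ (hc x d hd) hv
    have h6 : x * d = d * x := by
      conv_rhs => rw [← h', inv_mul_cancel_right]
    exact h6.symm
  · exfalso
    obtain ⟨e, he, hde⟩ := exists_not_commute hcl hD2 hd
    exact hde (commute_of_perpEq hS hd (h e he)).symm

theorem pCore_three_le_center (hD : IsThreeTranspositionGroup D) (hprim : IsPrimitiveUnderConj D)
    (hw : ∃ a ∈ D, ∃ b ∈ D, a ≠ b ∧ Commute a b) : Cfsg.pCore 3 G ≤ Subgroup.center G := by
  obtain ⟨hS, hc, hgen⟩ := hD
  haveI := Fitting.pCore_normal (G := G) 3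
  refine le_center_of_forall hgen fun x hx d hd => ?_
  have hv : StarEq D d (x * d * x⁻¹) := by
    refine starEq_of_mul_mem hS (Fitting.pCore_isPGroup 3) hd (hc x d hd) ?_
    rw [show d * (x * d * x⁻¹) = (d * x * d) * x⁻¹ by group]
    nth_rw 2 [← inv_eq_self hS hd]
    exact mul_mem (Subgroup.Normal.conj_mem inferInstance x hx d) (inv_mem hx)
  rcases eq_or_full_of_primitive hc hprim (starEq_isInvariantEquiv hc) hd with h | h
  · have h' := h _ (hc x d hd) hv
    have h6 : x * d = d * x := by
      conv_rhs => rw [← h', inv_mul_cancel_right]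
    exact h6.symm
  · exfalso
    obtain ⟨a, ha, b, hb, hab, hcomm⟩ := hw
    have hR := starEq_isInvariantEquiv hc
    exact not_commute_of_starEq hS hb hab (hR.trans (hR.symm (h a ha)) (h b hb)) hcomm

theorem index_le_two_of_connected (hD : IsThreeTranspositionClass D) {L : Subgroup G} [L.Normal]
    (hL : IsComponent L) (hconn : (commutingGraph D).Connected) : L.index ≤ 2 := by
  have hS := hD.1
  obtain ⟨d, hd, -⟩ := hD.2.1
  set π := QuotientGroup.mk' L
  have key : ∀ x : D, π x = π d := by
    intro x
    obtain ⟨p⟩ := hconn.preconnected x ⟨d, hd⟩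
    suffices h : ∀ {x y : D}, (commutingGraph D).Walk x y → (x : G)⁻¹ * (y : G) ∈ L by
      exact QuotientGroup.eq.mpr (h p)
    intro x y p
    induction p with
    | nil => simp
    | @cons u v w h p ih =>
      have h1 : (u : G)⁻¹ * (v : G) ∈ L := by
        refine congr_mod_layer hD hL u.2 v.2 ?_
        have h' : Commute (u : G) (v : G) := by
          simp only [commutingGraph, SimpleGraph.fromRel_adj] at h
          exact h.2.elim id Commute.symm
        rw [h'.eq, mul_inv_cancel_right, mul_inv_cancel]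
        exact one_mem _
      simpa [mul_assoc] using mul_mem h1 ih
  have htop : ∀ y : G ⧸ L, y ∈ Subgroup.zpowers (π d) := by
    intro y
    obtain ⟨g, rfl⟩ := QuotientGroup.mk'_surjective L y
    have hg : g ∈ Subgroup.closure D := hD.2.2 ▸ Subgroup.mem_top g
    refine (?_ : Subgroup.closure D ≤ (Subgroup.zpowers (π d)).comap π) hg
    rw [Subgroup.closure_le]
    exact fun e he => Subgroup.mem_comap.mpr (key ⟨e, he⟩ ▸ Subgroup.mem_zpowers _)
  have h1 : L.index = orderOf (π d) := by
    rw [← Nat.card_zpowers, (Subgroup.eq_top_iff' _).mpr htop, Subgroup.card_top]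
    rfl
  rw [h1]
  exact orderOf_le_of_pow_eq_one two_pos (by rw [← map_pow, pow_two, mul_self_eq_one hS hd, map_one])

theorem sup_zpowers_eq_top (hD : IsThreeTranspositionClass D) {L : Subgroup G} [L.Normal]
    (hidx : L.index ≤ 2) {d : G} (hd : d ∈ D) : L ⊔ Subgroup.zpowers d = ⊤ := by
  rcases eq_or_ne L.index 1 with h | h
  · rw [Subgroup.index_eq_one.mp h, top_sup_eq]
  have hidx2 : L.index = 2 := by
    have := Nat.pos_of_ne_zero (Subgroup.index_ne_zero_of_finite (H := L))
    omega
  have hd' : d ∉ L := fun hdL => h (Subgroup.index_eq_one.mpr (eq_top_of_subset hD.2.2 fun e he => by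
    obtain ⟨g, rfl⟩ := class_exists_conj hD hd he
    exact Subgroup.Normal.conj_mem inferInstance d hdL g))
  refine eq_top_iff.mpr fun x _ => ?_
  by_cases hx : x ∈ L
  · exact Subgroup.mem_sup_left hx
  · have hxd : x * d ∈ L := (Subgroup.mul_mem_iff_of_index_two hidx2).mpr (iff_of_false hx hd')
    rw [show x = (x * d) * d⁻¹ by group]
    exact mul_mem (Subgroup.mem_sup_left hxd)
      (Subgroup.mem_sup_right (inv_mem (Subgroup.mem_zpowers d)))

theorem primitive_of_index_le_two (hD : IsThreeTranspositionClass D)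
    (hD2 : ∃ a ∈ D, ∃ b ∈ D, a ≠ b) (h2 : Cfsg.pCore 2 G ≤ Subgroup.center G)
    (h3 : Cfsg.pCore 3 G ≤ Subgroup.center G) {L : Subgroup G} [L.Normal] (hL : IsComponent L)
    (hidx : L.index ≤ 2) : IsPrimitiveUnderConj D := by
  refine ⟨fun a ha b hb => class_exists_conj hD ha hb, hD2, fun B hBD hblock => ?_⟩
  have hS := hD.1
  have hc := class_conjClosed hD
  by_contra! hne
  obtain ⟨⟨d, hd, b, hb, hdb⟩, hBD'⟩ := hne
  -- the relation of lying in the same translates of `B`
  set R : G → G → Prop := fun x y => ∀ g : G, g * x * g⁻¹ ∈ B ↔ g * y * g⁻¹ ∈ B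
  have hR : IsInvariantEquiv D R :=
    { refl := fun _ _ => Iff.rfl
      symm := fun h g => (h g).symm
      trans := fun h h' g => (h g).trans (h' g)
      map := fun k a b h g => by simpa [mul_assoc] using h (g * k) }
  have hBB : ∀ g : G, ∀ x ∈ B, ∀ y ∈ B, g * x * g⁻¹ ∈ B → g * y * g⁻¹ ∈ B := by
    intro g x hx y hy hgx
    rcases hblock g with h | h
    · exact h ▸ ⟨y, hy, rfl⟩
    · exact absurd hgx (Set.disjoint_left.mp h ⟨x, hx, rfl⟩)
  have hRB : ∀ x ∈ B, ∀ y ∈ B, R x y := fun x hx y hy g => ⟨hBB g x hx y hy, hBB g y hy x hx⟩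
  have hmem : ∀ x ∈ B, ∀ y, R x y → y ∈ B := fun x hx y h => by
    simpa using (h 1).mp (by simpa using hx)
  have hfix : ∀ x ∈ B, ∀ y ∈ B, x * y * x ∈ B := fun x hx y hy => by
    have := hBB x x hx y hy (by rw [mul_inv_cancel_right]; exact hx)
    rwa [conj_eq hS (hBD hx)] at this
  -- an outside member commutes with all of `B` or with none of it
  have hunif : ∀ e ∈ D, e ∉ B → ∀ x ∈ B, ∀ y ∈ B, Commute e x → Commute e y := by
    intro e he heB x hx y hy hex
    by_contra hey
    have h1 : e * y * e ∈ B := by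
      have := hBB e x hx y hy (by rw [conj_eq hS he, conj_eq_of_commute hS he hex]; exact hx)
      rwa [conj_eq hS he] at this
    rw [braid hS he (hBD hy) hey] at h1
    have h2 := hfix y hy _ h1
    rw [conj_conj hS (hBD hy)] at h2
    exact heB h2
  set K := classKernel hc R hR
  haveI : K.Normal := classKernel_normal hc R hR
  have hK : d * b ∈ K := by
    intro e he
    by_cases heB : e ∈ B
    · refine hRB _ ?_ e heB
      rw [mul_inv_rev, inv_eq_self hS (hBD hd), inv_eq_self hS (hBD hb),
        show d * b * e * (b * d) = d * (b * e * b) * d by group]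
      exact hfix d hd _ (hfix b hb e heB)
    by_cases hed : Commute e d
    · have heb := hunif e he heB d hd b hb hed
      rw [((hed.mul_right heb).symm).eq, mul_inv_cancel_right]
      exact hR.refl e
    · exact conj_mul_related hS hc hR (hBD hd) (hBD hb) he (hRB d hd b hb) (fun x => hed x.symm)
        fun x => hed (hunif e he heB b hb d hd x.symm)
  -- `L` is not contained in the kernel
  have hLK : ¬ L ≤ K := by
    intro hle
    refine hBD' (Set.Subset.antisymm hBD fun e he => ?_)
    have hG : ∀ g ∈ L ⊔ Subgroup.zpowers d, R (g * d * g⁻¹) d := by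
      intro g hg
      obtain ⟨l, hl, z, hz, rfl⟩ := Subgroup.mem_sup_of_normal_left.mp hg
      obtain ⟨k, rfl⟩ := Subgroup.mem_zpowers_iff.mp hz
      rw [show l * d ^ k * d * (l * d ^ k)⁻¹ = l * d * l⁻¹ by group]
      exact hle hl d (hBD hd)
    obtain ⟨g, rfl⟩ := class_exists_conj hD (hBD hd) he
    exact hmem d hd _ (hR.symm (hG g (sup_zpowers_eq_top hD hidx (hBD hd) ▸ Subgroup.mem_top g)))
  -- so the kernel centralises `L` and is central
  obtain ⟨-, -, hF⟩ := layer_structure hD hD2 h2 h3
  have hlayer : layer G = L := le_antisymm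
    (sSup_le fun M hM => (component_unique hD hM hL).le) (Layer.isComponent_le_layer hL)
  rw [hlayer] at hF
  haveI : (K.subgroupOf L).Normal := Subgroup.Normal.subgroupOf inferInstance L
  have hZ : K.subgroupOf L ≤ Subgroup.center L :=
    (Layer.eq_top_or_le_center_of_normal hL.2 _).resolve_left fun h =>
      hLK (Subgroup.subgroupOf_eq_top.mp h)
  have hKL : ⁅L, K⁆ = ⊥ := by
    refine Layer.commutator_eq_bot_of_perfect (Layer.isPerfect_of_isComponent hL) ?_
    rw [Subgroup.commutator_eq_bot_iff_le_centralizer]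
    intro x hx
    rw [Subgroup.mem_centralizer_iff]
    intro l hl
    have hxK : x ∈ K := Subgroup.commutator_le_right L K hx
    have hxL : x ∈ L := Subgroup.commutator_le_left L K hx
    exact congrArg Subtype.val (Subgroup.mem_center_iff.mp
      (hZ (x := ⟨x, hxL⟩) (Subgroup.mem_subgroupOf.mpr hxK)) ⟨l, hl⟩)
  have hKZ : d * b ∈ Subgroup.center G := by
    have hcent : d * b ∈ Subgroup.centralizer (generalizedFittingSubgroup G : Set G) := by
      have hle : generalizedFittingSubgroup G ≤ Subgroup.centralizer ({d * b} : Set G) := by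
        rw [hF]
        refine sup_le (fun l hl => ?_) fun z hz => ?_
        · rw [Subgroup.mem_centralizer_singleton_iff]
          exact (Subgroup.mem_centralizer_iff.mp
            (Subgroup.commutator_eq_bot_iff_le_centralizer.mp hKL hl) _ hK).symm
        · rw [Subgroup.mem_centralizer_singleton_iff]
          exact (Subgroup.mem_center_iff.mp hz _).symm
      exact Subgroup.mem_centralizer_iff.mpr fun y hy =>
        Subgroup.mem_centralizer_singleton_iff.mp (hle hy)
    have hmemF := Layer.centralizer_generalizedFitting_le hcent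
    rw [hF] at hmemF
    obtain ⟨l, hl, z, hz, hlz⟩ := Subgroup.mem_sup_of_normal_left.mp hmemF
    have hlZ : l ∈ Subgroup.center G := by
      have hl' : l ∈ Subgroup.centralizer (layer G : Set G) := by
        rw [Subgroup.mem_centralizer_iff]
        intro m hm
        rw [hlayer] at hm
        have h1 := Subgroup.mem_centralizer_iff.mp hcent m
          (hF ▸ Subgroup.mem_sup_left hm)
        rw [← hlz] at h1
        have hzm : z * m = m * z := (Subgroup.mem_center_iff.mp hz m).symm
        apply mul_right_cancel (b := z)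
        calc m * l * z = m * (l * z) := mul_assoc _ _ _
          _ = l * z * m := h1
          _ = l * m * z := by rw [mul_assoc, hzm, ← mul_assoc]
      exact fittingSubgroup_le_center hS hc hD.2.2 h2 h3
        (Layer.layer_inf_centralizer_le_fitting ⟨hlayer.symm ▸ hl, hl'⟩)
    rw [← hlz]
    exact mul_mem hlZ hz
  obtain ⟨e, he, hde⟩ := exists_not_commute hD hD2 (hBD hd)
  have h := Subgroup.mem_center_iff.mp hKZ e
  exact hde (((commute_mul_iff hS (hBD hd) (hBD hb) he hdb).mp h).1).symm

/-- A module of the commuting graph: outside members commute with all of it or with none of it. -/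
def IsModule (D M : Set G) : Prop :=
  M ⊆ D ∧ ∀ z ∈ D, z ∉ M → (∀ m ∈ M, Commute z m) ∨ ∀ m ∈ M, ¬ Commute z m

theorem IsModule.conj (hc : IsConjClosed D) {M : Set G} (hM : IsModule D M) (g : G) :
    IsModule D ((fun x => g * x * g⁻¹) '' M) := by
  refine ⟨by rintro _ ⟨m, hm, rfl⟩; exact hc g m (hM.1 hm), fun z hz hzM => ?_⟩
  have hz' : g⁻¹ * z * g⁻¹⁻¹ ∉ M := fun h => hzM ⟨_, h, by simp [mul_assoc]⟩
  have key : ∀ m, Commute (g⁻¹ * z * g⁻¹⁻¹) m ↔ Commute z (g * m * g⁻¹) := fun m => by
    rw [← commute_conj (g := g)]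
    simp [mul_assoc]
  rcases hM.2 _ (hc _ z hz) hz' with h | h
  · exact Or.inl (by rintro _ ⟨m, hm, rfl⟩; exact (key m).mp (h m hm))
  · exact Or.inr (by rintro _ ⟨m, hm, rfl⟩; exact fun h' => h m hm ((key m).mpr h'))

/-- In a primitive class with commuting pairs there are no proper modules with two members. -/
theorem module_subsingleton (hD : IsThreeTranspositionGroup D) (hprim : IsPrimitiveUnderConj D)
    (hw : ∃ a ∈ D, ∃ b ∈ D, a ≠ b ∧ Commute a b) {M : Set G} (hM : IsModule D M)
    (hne : M ≠ D) : M.Subsingleton := by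
  intro x hx y hy
  by_contra hxy
  obtain ⟨hcl, -⟩ := class_of_primitive hD hprim
  have hconn := connected_of_primitive hD hprim hw
  obtain ⟨hS, hc, hgen⟩ := hD
  -- a largest proper module
  obtain ⟨N, hN, hmax⟩ := ((Set.toFinite {N : Set G | IsModule D N ∧ N ≠ D}).toFinset).exists_max_image
    Set.ncard ⟨M, by simp [hM, hne]⟩
  simp only [Set.Finite.mem_toFinset, Set.mem_setOf_eq] at hN hmax
  obtain ⟨hNm, hND⟩ := hN
  have hN2 : ¬ N.Subsingleton := fun h => by
    have h1 : 2 ≤ M.ncard := (Set.ncard_pair hxy) ▸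
      Set.ncard_le_ncard (Set.insert_subset hx (Set.singleton_subset_iff.mpr hy)) (Set.toFinite _)
    have h2 := hmax M ⟨hM, hne⟩
    have h3 : N.ncard ≤ 1 := (Set.ncard_le_one (Set.toFinite _)).mpr fun a ha b hb => h ha hb
    omega
  have hblock : ∀ g : G, (fun x => g * x * g⁻¹) '' N = N ∨
      Disjoint ((fun x => g * x * g⁻¹) '' N) N := by
    intro g
    by_contra! h
    obtain ⟨hne', hov⟩ := h
    set N' := (fun x => g * x * g⁻¹) '' N
    have hN' : IsModule D N' := hNm.conj hc g
    obtain ⟨i, hi', hi⟩ := Set.not_disjoint_iff.mp hov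
    have hcard : N'.ncard = N.ncard := Set.ncard_image_of_injective _ fun p q e => by simpa using e
    by_cases hU : N ∪ N' = D
    · -- the commuting graph or its complement would be disconnected
      have hA : ∃ a ∈ N, a ∉ N' := by
        by_contra! h
        exact hne' (Set.eq_of_subset_of_ncard_le (fun a ha => h a ha) hcard.le (Set.toFinite _)).symm
      have hC : ∃ c ∈ N', c ∉ N := by
        by_contra! h
        exact hne' (Set.eq_of_subset_of_ncard_le (fun a ha => h a ha) hcard.ge (Set.toFinite _))
      obtain ⟨a₀, ha₀, ha₀'⟩ := hA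
      obtain ⟨c₀, hc₀', hc₀⟩ := hC
      -- all pairs crossing from `N \ N'` to `N'` are of the type of `(a₀, c₀)`
      have hA' : ∀ a ∈ N, a ∉ N' → ∀ c ∈ N', Commute a c ↔ Commute a₀ c₀ := by
        intro a ha ha' c hc'
        have e1 : ∀ u ∈ N', ∀ w ∈ N', Commute a u ↔ Commute a w := by
          intro u hu w hw'
          rcases hN'.2 a (hNm.1 ha) ha' with h | h
          · exact iff_of_true (h u hu) (h w hw')
          · exact iff_of_false (h u hu) (h w hw')
        have e2 : ∀ u ∈ N, ∀ w ∈ N, Commute c₀ u ↔ Commute c₀ w := by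
          intro u hu w hw'
          rcases hNm.2 c₀ (hN'.1 hc₀') hc₀ with h | h
          · exact iff_of_true (h u hu) (h w hw')
          · exact iff_of_false (h u hu) (h w hw')
        rw [e1 c hc' c₀ hc₀', Commute.symm_iff, Commute.symm_iff (a := a₀)]
        exact e2 a ha a₀ ha₀
      by_cases hτ : Commute a₀ c₀
      · -- `N'` would be invariant
        have hinv : ∀ e ∈ D, ∀ m ∈ N', e * m * e ∈ N' := by
          intro e he m hm
          by_cases heN : e ∈ N'
          · by_contra hout
            have hN1 : e * m * e ∈ N := by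
              have : e * m * e ∈ N ∪ N' := hU.symm ▸ conj_mem hS hc he (hN'.1 hm)
              exact this.resolve_right hout
            have hcm := (hA' _ hN1 hout e heN).mpr hτ
            have h5 : e * m * e = m := by
              have h6 := conj_eq_of_commute hS he hcm.symm
              rw [conj_conj hS he] at h6
              exact h6.symm
            exact hout (h5.symm ▸ hm)
          · have : e ∈ N := (hU.symm ▸ he : e ∈ N ∪ N').resolve_right heN
            rw [conj_eq_of_commute hS he ((hA' e this heN m hm).mpr hτ)]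
            exact hm
        have hall : ∀ g' ∈ Subgroup.closure D, ∀ m ∈ N', g' * m * g'⁻¹ ∈ N' := by
          intro g' hg'
          induction hg' using Subgroup.closure_induction with
          | mem e he => intro m hm; rw [conj_eq hS he]; exact hinv e he m hm
          | one => simp
          | mul p q _ _ ihp ihq => intro m hm; simpa [mul_assoc] using ihp _ (ihq m hm)
          | inv p _ ihp =>
            intro m hm
            have hsub : (fun z => p * z * p⁻¹) '' N' ⊆ N' := by
              rintro _ ⟨z, hz, rfl⟩; exact ihp z hz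
            have heq := Set.eq_of_subset_of_ncard_le hsub
              (Set.ncard_image_of_injective N' (f := fun z => p * z * p⁻¹)
                fun u v e => by simpa using e).ge (Set.toFinite _)
            obtain ⟨z, hz, rfl⟩ := heq.symm ▸ hm
            simpa [mul_assoc] using hz
        obtain ⟨g', hg'⟩ := class_exists_conj hcl (hN'.1 hi') (hNm.1 ha₀)
        exact ha₀' (hg' ▸ hall g' (hgen ▸ Subgroup.mem_top g') i hi')
      · -- the commuting graph would be disconnected
        have hstep : ∀ {u w : D}, (commutingGraph D).Walk u w → (u : G) ∈ N' → (w : G) ∈ N' := by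
          intro u w p
          induction p with
          | nil => exact id
          | @cons u v w h p ih =>
            intro hu
            refine ih ?_
            by_contra hv
            have hvN : (v : G) ∈ N := (hU.symm ▸ v.2 : (v : G) ∈ N ∪ N').resolve_right hv
            simp only [commutingGraph, SimpleGraph.fromRel_adj] at h
            exact hτ ((hA' _ hvN hv _ hu).mp (h.2.elim Commute.symm id))
        obtain ⟨p⟩ := hconn.preconnected ⟨i, hN'.1 hi'⟩ ⟨a₀, hNm.1 ha₀⟩
        exact ha₀' (hstep p hi')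
    · have hUm : IsModule D (N ∪ N') := by
        refine ⟨Set.union_subset hNm.1 hN'.1, fun z hz hzU => ?_⟩
        rw [Set.mem_union, not_or] at hzU
        rcases hNm.2 z hz hzU.1 with h | h <;> rcases hN'.2 z hz hzU.2 with h' | h'
        · exact Or.inl fun m hm => hm.elim (h m) (h' m)
        · exact absurd (h i hi) (h' i hi')
        · exact absurd (h' i hi') (h i hi)
        · exact Or.inr fun m hm => hm.elim (h m) (h' m)
      have h1 : N ∪ N' = N := (Set.eq_of_subset_of_ncard_le Set.subset_union_left
        (hmax _ ⟨hUm, hU⟩) (Set.toFinite _)).symm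
      exact hne' (Set.eq_of_subset_of_ncard_le (h1 ▸ Set.subset_union_right) hcard.ge (Set.toFinite _))
  exact (hprim.2.2 N hNm.1 hblock).elim hN2 hND

theorem perp_closure_ne_top (hD : IsThreeTranspositionClass D) (hD2 : ∃ a ∈ D, ∃ b ∈ D, a ≠ b)
    {d : G} (hd : d ∈ D) : Subgroup.closure {y : G | y ∈ D ∧ Commute d y} ≠ ⊤ := by
  intro h
  obtain ⟨e, he, hde⟩ := exists_not_commute hD hD2 hd
  have hle : Subgroup.closure {y : G | y ∈ D ∧ Commute d y} ≤ Subgroup.centralizer ({d} : Set G) :=
    (Subgroup.closure_le _).mpr fun y hy =>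
      Subgroup.mem_centralizer_singleton_iff.mpr hy.2.symm.eq
  exact hde (Subgroup.mem_centralizer_singleton_iff.mp (hle (h ▸ Subgroup.mem_top e))).symm

/-- The perp of a member generates a maximal subgroup among those generated by members. -/
theorem perp_maximal (hD : IsThreeTranspositionGroup D) (hprim : IsPrimitiveUnderConj D)
    (hw : ∃ a ∈ D, ∃ b ∈ D, a ≠ b ∧ Commute a b) {d : G} (hd : d ∈ D) {H : Subgroup G}
    (hle : Subgroup.closure {y : G | y ∈ D ∧ Commute d y} ≤ H) {e : G} (he : e ∈ D) (heH : e ∈ H)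
    (hde : ¬ Commute d e) : H = ⊤ := by
  by_contra htop
  obtain ⟨hS, hc, hgen⟩ := hD
  set S : Set G := {x | x ∈ D ∧ x ∈ H}
  have hperp : ∀ y ∈ D, Commute d y → y ∈ H := fun y hy h =>
    hle (Subgroup.subset_closure ⟨hy, h⟩)
  -- members linked to `d` by non-commuting pairs inside `S`
  set step : G → G → Prop := fun x y => x ∈ S ∧ y ∈ S ∧ ¬ Commute x y
  set T : Set G := {x | Relation.ReflTransGen step d x}
  have hT : ∀ x ∈ T, x ∈ S ∧ ∀ y ∈ D, Commute x y → y ∈ H := by
    intro x hx
    induction hx with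
    | refl => exact ⟨⟨hd, hperp d hd (Commute.refl d)⟩, hperp⟩
    | @tail t u _ htu ih =>
      obtain ⟨ht, hu, hne⟩ := htu
      refine ⟨hu, fun y hy huy => ?_⟩
      have hg : u * t * u * (u * t)⁻¹ = t := by
        rw [mul_inv_rev, inv_eq_self hS ht.1, inv_eq_self hS hu.1,
          show u * t * u * (t * u) = u * (t * u * t) * u by group, braid hS ht.1 hu.1 hne,
          conj_conj hS hu.1]
      have h1 : (u * t) * y * (u * t)⁻¹ ∈ H := by
        refine ih.2 _ (hc _ y hy) ?_
        have := huy.map (MulAut.conj (u * t))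
        simp only [MulAut.conj_apply, hg] at this
        exact this
      have h2 := H.mul_mem (H.mul_mem (H.inv_mem (H.mul_mem hu.2 ht.2)) h1) (H.mul_mem hu.2 ht.2)
      simpa [mul_assoc] using h2
  have hmod : IsModule D T := by
    refine ⟨fun x hx => (hT x hx).1.1, fun z hz hzT => ?_⟩
    by_cases hzH : z ∈ H
    · left
      intro m hm
      by_contra hzm
      exact hzT (Relation.ReflTransGen.tail hm ⟨(hT m hm).1, ⟨hz, hzH⟩, fun h => hzm h.symm⟩)
    · right
      exact fun m hm h => hzH ((hT m hm).2 z hz h.symm)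
  have hne : T ≠ D := fun h =>
    htop (eq_top_of_subset hgen fun x hx => (hT x (h.symm ▸ hx)).1.2)
  have heT : e ∈ T :=
    Relation.ReflTransGen.tail Relation.ReflTransGen.refl
      ⟨⟨hd, hperp d hd (Commute.refl d)⟩, ⟨he, heH⟩, hde⟩
  exact hde ((module_subsingleton ⟨hS, hc, hgen⟩ hprim hw hmod hne
    (Relation.ReflTransGen.refl : d ∈ T) heT) ▸ Commute.refl d)

end CfsgLib.ThreeTransp
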