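import Mathlib
import Cfsg.Agent.Lib.ThreeTransp.Primitive

/-!
Fischer's transitivity theorem: in a primitive class of 3-transpositions with commuting pairs the
centraliser of a member is transitive on the other members commuting with it and on those not
commuting with it.
-/

set_option autoImplicit false
set_option linter.style.haveILetI false

namespace CfsgLib.ThreeTransp

open Cfsg

variable {G : Type*} [Group G] [Finite G] {D : Set G}

omit [Finite G] in
theorem perp_closure_conj (hS : IsThreeTranspositionSet D) (hc : IsConjClosed D) {d g : G}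
    (hg : g ∈ Subgroup.closure {y : G | y ∈ D ∧ Commute d y}) (hd : d ∈ D) :
    Commute g d ∧ ∀ y, y ∈ D → Commute d y → g * y * g⁻¹ ∈ D ∧ Commute d (g * y * g⁻¹) := by
  have hle : Subgroup.closure {y : G | y ∈ D ∧ Commute d y} ≤ Subgroup.centralizer ({d} : Set G) :=
    (Subgroup.closure_le _).mpr fun y hy =>
      Subgroup.mem_centralizer_singleton_iff.mpr hy.2.symm.eq
  have hgd : Commute g d := Subgroup.mem_centralizer_singleton_iff.mp (hle hg)
  refine ⟨hgd, fun y hy hdy => ⟨hc g y hy, ?_⟩⟩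
  have h := hdy.map (MulAut.conj g)
  simp only [MulAut.conj_apply, hgd.eq, mul_inv_cancel_right] at h
  exact h

omit [Finite G] in
/-- Conjugating a member by two members with product `g`: the standard move. -/
theorem eq_conj_of_not_commute (hS : IsThreeTranspositionSet D) {c f : G} (hc : c ∈ D) (hf : f ∈ D)
    (h : ¬ Commute c f) : f = (c * f) * c * (c * f)⁻¹ := by
  rw [mul_inv_rev, inv_eq_self hS hc, inv_eq_self hS hf,
    show c * f * c * (f * c) = c * (f * c * f) * c by group, braid hS hf hc (fun x => h x.symm),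
    conj_conj hS hc]

/-- The subgroup generated by the perp of `d` is transitive on the members not commuting with
`d`. -/
theorem transitive_not_commute (hD : IsThreeTranspositionGroup D) (hprim : IsPrimitiveUnderConj D)
    (hw : ∃ a ∈ D, ∃ b ∈ D, a ≠ b ∧ Commute a b) {d a c : G} (hd : d ∈ D) (ha : a ∈ D) (hc : c ∈ D)
    (hda : ¬ Commute d a) (hdc : ¬ Commute d c) :
    ∃ g ∈ Subgroup.closure {y : G | y ∈ D ∧ Commute d y}, g * a * g⁻¹ = c := by
  classical
  obtain ⟨hS, hcl, hgen⟩ := hD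
  set M := Subgroup.closure {y : G | y ∈ D ∧ Commute d y}
  -- the neighbours of a member inside the perp of `d`
  set nb : G → Set G := fun x => {e | e ∈ D ∧ e ≠ d ∧ Commute d e ∧ Commute x e}
  set A : Set G := {x | x ∈ D ∧ ¬ Commute d x}
  set Orb : G → Set G := fun x => {z | ∃ g ∈ M, g * x * g⁻¹ = z}
  -- choose an orbit with a largest neighbourhood
  obtain ⟨a₀, ha₀, hmax⟩ := (Set.toFinite A).toFinset.exists_max_image (fun x => (nb x).ncard)
    ⟨a, by simp [A, ha, hda]⟩
  simp only [Set.Finite.mem_toFinset] at ha₀ hmax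
  suffices h : A ⊆ Orb a₀ by
    obtain ⟨g, hg, hga⟩ := h (⟨ha, hda⟩ : a ∈ A)
    obtain ⟨g', hg', hgc⟩ := h (⟨hc, hdc⟩ : c ∈ A)
    refine ⟨g' * g⁻¹, M.mul_mem hg' (M.inv_mem hg), ?_⟩
    rw [← hga, ← hgc]
    group
  by_contra hnot
  set X := Orb a₀
  have hXA : X ⊆ A := by
    rintro _ ⟨g, hg, rfl⟩
    refine ⟨hcl g a₀ ha₀.1, fun h => ha₀.2 ?_⟩
    have h1 := h.map (MulAut.conj g⁻¹)
    have h2 := (perp_closure_conj hS hcl (M.inv_mem hg) hd).1
    simp only [MulAut.conj_apply] at h1
    rw [h2.eq, mul_inv_cancel_right] at h1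
    simpa [mul_assoc] using h1
  have hXinv : ∀ g ∈ M, ∀ x ∈ X, g * x * g⁻¹ ∈ X := by
    rintro g hg _ ⟨g', hg', rfl⟩
    exact ⟨g * g', M.mul_mem hg hg', by group⟩
  have hnbX : ∀ x ∈ X, (nb x).ncard = (nb a₀).ncard := by
    rintro _ ⟨g, hg, rfl⟩
    have hgd := (perp_closure_conj hS hcl hg hd).1
    have himg : nb (g * a₀ * g⁻¹) = (fun e => g * e * g⁻¹) '' nb a₀ := by
      ext e
      constructor
      · rintro ⟨he, hed, hde, hxe⟩
        obtain ⟨h1, h2⟩ := (perp_closure_conj hS hcl (M.inv_mem hg) hd).2 e he hde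
        refine ⟨g⁻¹ * e * g⁻¹⁻¹, ⟨h1, ?_, h2, ?_⟩, by simp [mul_assoc]⟩
        · intro h
          apply hed
          rw [show e = g * (g⁻¹ * e * g⁻¹⁻¹) * g⁻¹ by group, h, hgd.eq, mul_inv_cancel_right]
        · rw [← commute_conj (g := g)]
          simpa [mul_assoc] using hxe
      · rintro ⟨e, ⟨he, hed, hde, hxe⟩, rfl⟩
        obtain ⟨h1, h2⟩ := (perp_closure_conj hS hcl hg hd).2 e he hde
        refine ⟨h1, fun h => hed ?_, h2, commute_conj.mpr hxe⟩
        simp only at h
        rw [show e = g⁻¹ * (g * e * g⁻¹) * g by group, h, mul_assoc, ← hgd.eq, inv_mul_cancel_left]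
    rw [himg, Set.ncard_image_of_injective _ fun p q e => by simpa using e]
  -- different orbits do not commute
  have step1 : ∀ Y : Set G, (∀ g ∈ M, ∀ x ∈ Y, g * x * g⁻¹ ∈ Y) → ∀ x ∈ Y, ∀ z ∈ A, z ∉ Y →
      x ∈ A → ¬ Commute x z := by
    intro Y hY x hx z hz hzY hxA hxz
    rcases eq_or_ne x z with rfl | hxz'
    · exact hzY hx
    set e := x * z * d * (x * z)⁻¹
    have he : e ∈ D := hcl _ d hd
    have hxd : ¬ Commute x d := fun h => hxA.2 h.symm
    have hzd : ¬ Commute z d := fun h => hz.2 h.symm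
    have hed : Commute d e := by
      have h1 : x * e * x = z * d * z := by
        simp only [e, mul_inv_rev, inv_eq_self hS hxA.1, inv_eq_self hS hz.1]
        rw [show x * (x * z * d * (z * x)) * x = (x * x) * (z * d * z) * (x * x) by group,
          mul_self_eq_one hS hxA.1, one_mul, mul_one]
      rw [← commute_conj_iff hS hxA.1, h1, braid hS hxA.1 hd hxd, braid hS hz.1 hd hzd,
        commute_conj_iff hS hd]
      exact hxz
    have hkey : e * x * e = d * z * d := by
      simp only [e, mul_inv_rev, inv_eq_self hS hxA.1, inv_eq_self hS hz.1]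
      calc x * z * d * (z * x) * x * (x * z * d * (z * x))
          = x * z * d * z * (x * x) * (x * z) * d * (z * x) := by group
        _ = x * z * d * z * (x * z) * d * (z * x) := by rw [mul_self_eq_one hS hxA.1]; group
        _ = x * z * d * z * (z * x) * d * (z * x) := by rw [hxz.eq]
        _ = x * z * d * (z * z) * x * d * (z * x) := by group
        _ = x * z * (d * x * d) * (z * x) := by rw [mul_self_eq_one hS hz.1]; group
        _ = x * z * (x * d * x) * (z * x) := by rw [braid hS hd hxA.1 hxA.2]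
        _ = x * (z * x) * d * x * (z * x) := by group
        _ = x * (x * z) * d * x * (x * z) := by rw [hxz.eq]
        _ = (x * x) * z * d * (x * x) * z := by group
        _ = d * z * d := by rw [mul_self_eq_one hS hxA.1, braid hS hd hz.1 hz.2]; group
    have hmem : d * z * d ∈ Y := by
      rw [← hkey]
      have := hY e (Subgroup.subset_closure ⟨he, hed⟩) x hx
      rwa [conj_eq hS he] at this
    have := hY d (Subgroup.subset_closure ⟨hd, Commute.refl d⟩) _ hmem
    rw [conj_eq hS hd, conj_conj hS hd] at this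
    exact hzY this
  have hZinv : ∀ g ∈ M, ∀ z ∈ A \ X, g * z * g⁻¹ ∈ A \ X := by
    intro g hg z hz
    refine ⟨⟨hcl g z hz.1.1, fun h => hz.1.2 ?_⟩, fun h => hz.2 ?_⟩
    · have h1 := h.map (MulAut.conj g⁻¹)
      have h2 := (perp_closure_conj hS hcl (M.inv_mem hg) hd).1
      simp only [MulAut.conj_apply] at h1
      rw [h2.eq, mul_inv_cancel_right] at h1
      simpa [mul_assoc] using h1
    · simpa [mul_assoc] using hXinv g⁻¹ (M.inv_mem hg) _ h
  have hXZ : ∀ x ∈ X, ∀ z ∈ A \ X, ¬ Commute x z := fun x hx z hz =>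
    step1 X hXinv x hx z hz.1 hz.2 (hXA hx)
  -- the third point lies outside the perp
  have hthird : ∀ x ∈ X, ∀ z ∈ A \ X, x * z * x ∈ A := by
    intro x hx z hz
    refine ⟨conj_mem hS hcl (hXA hx).1 hz.1.1, fun h => hz.2 ?_⟩
    have h1 := hXinv _ (Subgroup.subset_closure ⟨conj_mem hS hcl (hXA hx).1 hz.1.1, h⟩) x hx
    rw [conj_eq hS (conj_mem hS hcl (hXA hx).1 hz.1.1)] at h1
    have h2 : x * z * x * x * (x * z * x) = z := by
      rw [mul_self_cancel_right hS (hXA hx).1, show x * z * (x * z * x) = x * (z * x * z) * x by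
        group, braid hS hz.1.1 (hXA hx).1 (fun y => hXZ x hx z hz y.symm), conj_conj hS (hXA hx).1]
    rwa [h2] at h1
  have hnb : ∀ x ∈ X, ∀ z ∈ A \ X, nb x ⊆ nb z ∨ nb z ⊆ nb x := by
    intro x hx z hz
    by_contra! h
    obtain ⟨h1, h2⟩ := h
    obtain ⟨e, ⟨he, hed, hde, hxe⟩, hze⟩ := Set.not_subset.mp h1
    obtain ⟨f, ⟨hf, hfd, hdf, hzf⟩, hxf⟩ := Set.not_subset.mp h2
    have hze' : ¬ Commute z e := fun h => hze ⟨he, hed, hde, h⟩
    have hxf' : ¬ Commute x f := fun h => hxf ⟨hf, hfd, hdf, h⟩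
    set g := x * z * x
    have hgz : g = z * x * z := braid hS (hXA hx).1 hz.1.1 (hXZ x hx z hz)
    have hgA := hthird x hx z hz
    by_cases hgX : g ∈ X
    · -- `g` commutes with the image of `z` under `e`
      have hcomm : Commute g (e * z * e) := by
        rw [hgz, ← commute_conj_iff hS hz.1.1, conj_conj hS hz.1.1,
          braid hS he hz.1.1 (fun y => hze' y.symm), conj_conj hS hz.1.1]
        exact hxe
      refine hXZ g hgX (e * z * e) ?_ hcomm
      have := hZinv e (Subgroup.subset_closure ⟨he, hde⟩) z hz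
      rwa [conj_eq hS he] at this
    · have hcomm : Commute g (f * x * f) := by
        rw [← commute_conj_iff hS (hXA hx).1, conj_conj hS (hXA hx).1,
          braid hS hf (hXA hx).1 (fun y => hxf' y.symm), conj_conj hS (hXA hx).1]
        exact hzf
      refine hXZ (f * x * f) ?_ g ⟨hgA, hgX⟩ hcomm.symm
      have := hXinv f (Subgroup.subset_closure ⟨hf, hdf⟩) x hx
      rwa [conj_eq hS hf] at this
  have hsub : ∀ x ∈ X, ∀ z ∈ A \ X, nb z ⊆ nb x := by
    intro x hx z hz
    rcases hnb x hx z hz with h | h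
    · exact (Set.eq_of_subset_of_ncard_le h (hnbX x hx ▸ hmax z hz.1) (Set.toFinite _)).ge
    · exact h
  -- the members of the perp commuting with all of `X`
  set U : Set G := {e | e ∈ D ∧ e ≠ d ∧ Commute d e ∧ ∀ x ∈ X, Commute x e}
  set R : Set G := {e | e ∈ D ∧ e ≠ d ∧ Commute d e ∧ e ∉ U}
  have hUR : ∀ e ∈ U, ∀ f ∈ R, Commute e f := by
    intro e he f hf
    by_contra hef
    refine hf.2.2.2 ⟨hf.1, hf.2.1, hf.2.2.1, fun x hx => ?_⟩
    have hfx : f * x * f ∈ X := by
      have := hXinv f (Subgroup.subset_closure ⟨hf.1, hf.2.2.1⟩) x hx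
      rwa [conj_eq hS hf.1] at this
    have h1 : Commute x (f * e * f) := by
      rw [← commute_conj_iff hS hf.1, conj_conj hS hf.1]
      exact he.2.2.2 _ hfx
    have h2 : f = e * (f * e * f) * e := by
      rw [braid hS hf.1 he.1 (fun y => hef y.symm), conj_conj hS he.1]
    rw [h2, ← commute_conj_iff hS he.1, conj_conj hS he.1,
      conj_eq_of_commute hS he.1 (he.2.2.2 x hx).symm]
    exact h1
  have hmod : IsModule D (X ∪ ({d} ∪ R)) := by
    refine ⟨?_, fun z hz hzM => ?_⟩
    · rintro y (hy | rfl | hy)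
      exacts [(hXA hy).1, hd, hy.1]
    simp only [Set.mem_union, Set.mem_singleton_iff, not_or] at hzM
    obtain ⟨hzX, hzd, hzR⟩ := hzM
    by_cases hdz : Commute d z
    · have hzU : z ∈ U := by
        by_contra h
        exact hzR ⟨hz, hzd, hdz, h⟩
      left
      rintro y (hy | rfl | hy)
      exacts [(hzU.2.2.2 y hy).symm, hdz.symm, hUR z hzU y hy]
    · right
      rintro y (hy | rfl | hy)
      · exact fun h => hXZ y hy z ⟨⟨hz, hdz⟩, hzX⟩ h.symm
      · exact fun h => hdz h.symm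
      · exact fun h => hy.2.2.2 ⟨hy.1, hy.2.1, hy.2.2.1,
          fun x hx => (hsub x hx z ⟨⟨hz, hdz⟩, hzX⟩ ⟨hy.1, hy.2.1, hy.2.2.1, h⟩).2.2.2⟩
  obtain ⟨z, hzA, hzX⟩ := Set.not_subset.mp hnot
  have hne : X ∪ ({d} ∪ R) ≠ D := by
    intro h
    have hz : z ∈ X ∪ ({d} ∪ R) := h.symm ▸ hzA.1
    rcases hz with hz | rfl | hz
    exacts [hzX hz, hzA.2 (Commute.refl _), hzA.2 hz.2.2.1]
  have hsing := module_subsingleton ⟨hS, hcl, hgen⟩ hprim hw hmod hne
  have ha₀X : a₀ ∈ X := ⟨1, M.one_mem, by group⟩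
  exact ha₀.2 (hsing (Or.inl ha₀X) (Or.inr (Or.inl rfl)) ▸ Commute.refl d)

/-- The subgroup generated by the other members commuting with `d` is transitive on them. -/
theorem transitive_commute (hD : IsThreeTranspositionGroup D) (hprim : IsPrimitiveUnderConj D)
    (hw : ∃ a ∈ D, ∃ b ∈ D, a ≠ b ∧ Commute a b) {d e f : G} (hd : d ∈ D) (he : e ∈ D) (hf : f ∈ D)
    (hed : e ≠ d) (hfd : f ≠ d) (hde : Commute d e) (hdf : Commute d f) :
    ∃ g ∈ Subgroup.closure {y : G | y ∈ D ∧ y ≠ d ∧ Commute d y}, g * e * g⁻¹ = f := by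
  classical
  obtain ⟨hS, hcl, hgen⟩ := hD
  obtain ⟨hclass, hD2⟩ := class_of_primitive ⟨hS, hcl, hgen⟩ hprim
  set Dd : Set G := {y : G | y ∈ D ∧ y ≠ d ∧ Commute d y}
  set N := Subgroup.closure Dd
  set M := Subgroup.closure {y : G | y ∈ D ∧ Commute d y}
  set Orb : G → Set G := fun x => {z | ∃ g ∈ N, g * x * g⁻¹ = z}
  have hND : ∀ g ∈ N, ∀ y ∈ Dd, g * y * g⁻¹ ∈ Dd := by
    intro g hg y hy
    have hgM : g ∈ M := Subgroup.closure_mono (k := {y : G | y ∈ D ∧ Commute d y})
      (fun z (hz : z ∈ Dd) => (⟨hz.1, hz.2.2⟩ : z ∈ {y : G | y ∈ D ∧ Commute d y})) hg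
    obtain ⟨h1, h2⟩ := perp_closure_conj hS hcl hgM hd
    refine ⟨(h2 y hy.1 hy.2.2).1, fun h => hy.2.1 ?_, (h2 y hy.1 hy.2.2).2⟩
    rw [show y = g⁻¹ * (g * y * g⁻¹) * g by group, h, mul_assoc, ← h1.eq, inv_mul_cancel_left]
  have hOrbDd : ∀ x ∈ Dd, Orb x ⊆ Dd := by
    rintro x hx _ ⟨g, hg, rfl⟩
    exact hND g hg x hx
  have hclosed : ∀ x, ∀ c ∈ Orb x, c ∈ Dd → ∀ u ∈ Dd, ¬ Commute c u → u ∈ Orb x := by
    rintro x _ ⟨g, hg, rfl⟩ hcD u hu hcu
    refine ⟨g * x * g⁻¹ * u * g, N.mul_mem (N.mul_mem (Subgroup.subset_closure hcD)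
      (Subgroup.subset_closure hu)) hg, ?_⟩
    conv_rhs => rw [eq_conj_of_not_commute hS hcD.1 hu.1 hcu]
    group
  suffices h : ∀ f ∈ Dd, f ∈ Orb e from
    let ⟨g, hg, h'⟩ := h f ⟨hf, hfd, hdf⟩
    ⟨g, hg, h'⟩
  by_contra! hnot
  obtain ⟨f₀, hf₀, hf₀e⟩ := hnot
  -- members of different orbits commute
  have hcross : ∀ x ∈ Dd, ∀ c ∈ Orb x, ∀ u ∈ Dd, u ∉ Orb x → Commute c u := by
    intro x hx c hc u hu hux
    by_contra hcu
    exact hux (hclosed x c hc (hOrbDd x hx hc) u hu hcu)
  have hOrbSelf : ∀ x, x ∈ Orb x := fun x => ⟨1, N.one_mem, by group⟩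
  have hNinv : ∀ x, ∀ g ∈ N, ∀ c ∈ Orb x, g * c * g⁻¹ ∈ Orb x := by
    rintro x g hg _ ⟨g', hg', rfl⟩
    exact ⟨g * g', N.mul_mem hg hg', by group⟩
  have hMinv : ∀ x ∈ Dd, ∀ g ∈ M, ∀ c ∈ Orb x, g * c * g⁻¹ ∈ Orb x := by
    intro x hx g hg
    induction hg using Subgroup.closure_induction with
    | mem y hy =>
      intro c hc
      rcases eq_or_ne y d with rfl | hyd
      · rw [conj_eq hS hd, conj_eq_of_commute hS hd (hOrbDd x hx hc).2.2]
        exact hc
      · exact hNinv x y (Subgroup.subset_closure ⟨hy.1, hyd, hy.2⟩) c hc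
    | one => simp
    | mul p q _ _ ihp ihq => intro c hc; simpa [mul_assoc] using ihp _ (ihq c hc)
    | inv p _ ihp =>
      intro c hc
      have hsub : (fun z => p * z * p⁻¹) '' Orb x ⊆ Orb x := by
        rintro _ ⟨z, hz, rfl⟩; exact ihp z hz
      have heq := Set.eq_of_subset_of_ncard_le hsub
        (Set.ncard_image_of_injective (Orb x) (f := fun z => p * z * p⁻¹)
          fun u v e => by simpa using e).ge (Set.toFinite _)
      obtain ⟨z, hz, rfl⟩ := heq.symm ▸ hc
      simpa [mul_assoc] using hz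
  obtain ⟨a, ha, hda⟩ := exists_not_commute hclass hD2 hd
  -- in every orbit `a` commutes with some but not all members
  have hsplit : ∀ x ∈ Dd, ∃ c ∈ Orb x, ¬ Commute a c ∧ ∃ n ∈ Orb x, Commute a n ∧ ¬ Commute c n := by
    intro x hx
    have hmod : (∀ y ∈ D, ¬ Commute d y → ((∀ c ∈ Orb x, Commute y c) ∨
        ∀ c ∈ Orb x, ¬ Commute y c)) → IsModule D (Orb x) := by
      intro h
      refine ⟨fun c hc => (hOrbDd x hx hc).1, fun z hz hzx => ?_⟩
      by_cases hdz : Commute d z
      · left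
        intro c hc
        rcases eq_or_ne z d with rfl | hzd
        · exact (hOrbDd x hx hc).2.2
        · exact (hcross x hx c hc z ⟨hz, hzd, hdz⟩ hzx).symm
      · exact h z hz hdz
    have hne : Orb x ≠ D := fun h => (hOrbDd x hx (h.symm ▸ hd : d ∈ Orb x)).2.1 rfl
    have htransport : ∀ y ∈ D, ¬ Commute d y → ∃ g ∈ M, g * a * g⁻¹ = y := fun y hy hdy =>
      transitive_not_commute ⟨hS, hcl, hgen⟩ hprim hw hd ha hy hda hdy
    have hall : (∀ c ∈ Orb x, Commute a c) ∨ (∀ c ∈ Orb x, ¬ Commute a c) → False := by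
      intro h
      have hsing := module_subsingleton ⟨hS, hcl, hgen⟩ hprim hw (hmod fun y hy hdy => by
        obtain ⟨g, hg, rfl⟩ := htransport y hy hdy
        rcases h with h | h
        · left
          intro c hc
          have := (h _ (hMinv x hx g⁻¹ (M.inv_mem hg) c hc)).map (MulAut.conj g)
          simpa [mul_assoc] using this
        · right
          intro c hc hcomm
          refine h _ (hMinv x hx g⁻¹ (M.inv_mem hg) c hc) ?_
          have := hcomm.map (MulAut.conj g⁻¹)
          simpa [mul_assoc] using this) hne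
      rcases h with h | h
      · -- the member `x` would be central
        refine hed ((eq_of_forall_commute hclass hx.1 (fun y hy => ?_) he).trans
          (eq_of_forall_commute hclass hx.1 (fun y hy => ?_) hd).symm) <;>
        · by_cases hdy : Commute d y
          · rcases eq_or_ne y d with rfl | hyd
            · exact hx.2.2.symm
            · by_cases hyx : y ∈ Orb x
              · rw [hsing hyx (hOrbSelf x)]
              · exact hcross x hx x (hOrbSelf x) y ⟨hy, hyd, hdy⟩ hyx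
          · obtain ⟨g, hg, rfl⟩ := htransport y hy hdy
            have h1 := (h _ (hMinv x hx g⁻¹ (M.inv_mem hg) x (hOrbSelf x))).map (MulAut.conj g)
            exact (by simpa [mul_assoc] using h1 : Commute (g * a * g⁻¹) x).symm
      · -- `x` and `d` would have the same perp
        have hperp : IsModule D ({d, x} : Set G) := by
          refine ⟨fun y hy => hy.elim (fun h' => h' ▸ hd) (fun h' => h' ▸ hx.1), fun z hz hzM => ?_⟩
          simp only [Set.mem_insert_iff, Set.mem_singleton_iff, not_or] at hzM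
          by_cases hdz : Commute d z
          · left
            rintro m (rfl | rfl)
            · exact hdz.symm
            · by_cases hzx : z ∈ Orb m
              · exact absurd (hsing hzx (hOrbSelf m)) hzM.2
              · exact (hcross m hx m (hOrbSelf m) z ⟨hz, hzM.1, hdz⟩ hzx).symm
          · right
            rintro m (rfl | rfl)
            · exact fun h' => hdz h'.symm
            · obtain ⟨g, hg, rfl⟩ := htransport z hz hdz
              intro hcomm
              refine h _ (hMinv m hx g⁻¹ (M.inv_mem hg) m (hOrbSelf m)) ?_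
              have := hcomm.map (MulAut.conj g⁻¹)
              simpa [mul_assoc] using this
        have hne' : ({d, x} : Set G) ≠ D := fun h' => by
          rcases (h'.symm ▸ ha : a ∈ ({d, x} : Set G)) with rfl | rfl
          exacts [hda (Commute.refl _), hda hx.2.2]
        exact hx.2.1 (module_subsingleton ⟨hS, hcl, hgen⟩ hprim hw hperp hne'
          (Or.inr rfl) (Or.inl rfl))
    by_contra! h
    -- the members commuting with `a` form an invariant subset
    set P : Set G := {c | c ∈ Orb x ∧ Commute a c}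
    obtain ⟨n, hn, han⟩ : ∃ n ∈ Orb x, Commute a n := by
      by_contra! hh; exact hall (Or.inr hh)
    have hPinv : ∀ y ∈ Dd, ∀ c ∈ P, y * c * y⁻¹ ∈ P := by
      intro y hy c hc
      refine ⟨hNinv x y (Subgroup.subset_closure hy) c hc.1, ?_⟩
      rw [conj_eq hS hy.1]
      by_cases hay : Commute a y
      · rw [← commute_conj_iff hS hy.1, conj_conj hS hy.1, conj_eq_of_commute hS hy.1 hay.symm]
        exact hc.2
      · by_cases hyx : y ∈ Orb x
        · rw [conj_eq_of_commute hS hy.1 (h y hyx hay c hc.1 hc.2)]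
          exact hc.2
        · rw [conj_eq_of_commute hS hy.1 (hcross x hx c hc.1 y hy hyx).symm]
          exact hc.2
    have hNP : ∀ g ∈ N, ∀ c ∈ P, g * c * g⁻¹ ∈ P := by
      intro g hg
      induction hg using Subgroup.closure_induction with
      | mem y hy => exact hPinv y hy
      | one => simp
      | mul p q _ _ ihp ihq => intro c hc; simpa [mul_assoc] using ihp _ (ihq c hc)
      | inv p _ ihp =>
        intro c hc
        have hsub : (fun z => p * z * p⁻¹) '' P ⊆ P := by rintro _ ⟨z, hz, rfl⟩; exact ihp z hz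
        have heq := Set.eq_of_subset_of_ncard_le hsub
          (Set.ncard_image_of_injective P (f := fun z => p * z * p⁻¹)
            fun u v e => by simpa using e).ge (Set.toFinite _)
        obtain ⟨z, hz, rfl⟩ := heq.symm ▸ hc
        simpa [mul_assoc] using hz
    refine hall (Or.inl fun c hc => ?_)
    obtain ⟨g₁, hg₁, rfl⟩ := hc
    obtain ⟨g₂, hg₂, rfl⟩ := hn
    have := hNP (g₁ * g₂⁻¹) (N.mul_mem hg₁ (N.inv_mem hg₂)) _
      ⟨⟨g₂, hg₂, rfl⟩, han⟩
    simpa [P, mul_assoc] using this.2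
  -- one member outside `a`'s perp in each of two orbits
  obtain ⟨c₁, hc₁, hac₁, n₁, hn₁, han₁, hcn₁⟩ := hsplit e ⟨he, hed, hde⟩
  obtain ⟨c₂, hc₂, hac₂, n₂, hn₂, han₂, hcn₂⟩ := hsplit f₀ hf₀
  have hdisj : ∀ z, z ∈ Orb e → z ∈ Orb f₀ → False := by
    rintro z ⟨g₁, hg₁, rfl⟩ ⟨g₂, hg₂, h⟩
    refine hf₀e ⟨g₂⁻¹ * g₁, N.mul_mem (N.inv_mem hg₂) hg₁, ?_⟩
    rw [show g₂⁻¹ * g₁ * e * (g₂⁻¹ * g₁)⁻¹ = g₂⁻¹ * (g₁ * e * g₁⁻¹) * g₂ by group, ← h]
    group
  -- the joining member `t` lies in the perp of `d`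
  have key : ∀ x y c c' : G, x ∈ Dd → y ∈ Dd → c ∈ Orb x → c' ∈ Orb y →
      (∀ z, z ∈ Orb x → z ∈ Orb y → False) → ¬ Commute a c → ¬ Commute a c' →
      ∀ u ∈ Orb y, Commute a u → ¬ Commute c' u →
      ∀ t, t = (d * (c * a * c) * d * (d * (c' * a * c') * d)) * d *
        (d * (c * a * c) * d * (d * (c' * a * c') * d))⁻¹ → t ∈ Orb y := by
    intro x y c c' hx hy hc hc' hdis hac hac' u hu hau hcu t ht
    have hcD := hOrbDd x hx hc
    have hc'D := hOrbDd y hy hc'
    have huD := hOrbDd y hy hu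
    have hcc' : Commute c c' := hcross x hx c hc c' hc'D (fun h => hdis c' h hc')
    set a₁ := d * (c * a * c) * d
    set a₂ := d * (c' * a * c') * d
    have ha₁ : a₁ ∈ D := conj_mem hS hcl hd (conj_mem hS hcl hcD.1 ha)
    have ha₂ : a₂ ∈ D := conj_mem hS hcl hd (conj_mem hS hcl hc'D.1 ha)
    have ha₁₂ : Commute a₁ a₂ := by
      rw [commute_conj_iff hS hd, braid hS hcD.1 ha (fun h => hac h.symm),
        braid hS hc'D.1 ha (fun h => hac' h.symm), commute_conj_iff hS ha]
      exact hcc'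
    have hda₁ : ¬ Commute d a₁ := by
      intro h
      have h1 : Commute (d * d * d) (d * (c * a * c) * d) := by
        rwa [mul_self_eq_one hS hd, one_mul]
      rw [commute_conj_iff hS hd] at h1
      have h2 : Commute (c * d * c) (c * a * c) := by
        rwa [conj_eq_of_commute hS hcD.1 hcD.2.2.symm]
      exact hda ((commute_conj_iff hS hcD.1 _ _).mp h2)
    have hda₂ : ¬ Commute d a₂ := by
      intro h
      have h1 : Commute (d * d * d) (d * (c' * a * c') * d) := by
        rwa [mul_self_eq_one hS hd, one_mul]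
      rw [commute_conj_iff hS hd] at h1
      have h2 : Commute (c' * d * c') (c' * a * c') := by
        rwa [conj_eq_of_commute hS hc'D.1 hc'D.2.2.symm]
      exact hda ((commute_conj_iff hS hc'D.1 _ _).mp h2)
    have hne₁₂ : a₁ ≠ a₂ := by
      intro h
      have h1 : c * a * c = c' * a * c' := mul_left_cancel (mul_right_cancel h)
      rw [braid hS hcD.1 ha (fun h => hac h.symm), braid hS hc'D.1 ha (fun h => hac' h.symm)] at h1
      exact hdis c hc (mul_left_cancel (mul_right_cancel h1) ▸ hc')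
    have htD : t ∈ D := ht ▸ hcl _ d hd
    have ht' : t = a₁ * (a₂ * d * a₂) * a₁ := by
      rw [ht, mul_inv_rev, inv_eq_self hS ha₁, inv_eq_self hS ha₂]; group
    have hdt : Commute d t := by
      rw [← commute_conj_iff hS ha₁, ht', conj_conj hS ha₁,
        braid hS ha₁ hd (fun h => hda₁ h.symm), braid hS ha₂ hd (fun h => hda₂ h.symm),
        commute_conj_iff hS hd]
      exact ha₁₂
    have htd : t ≠ d := by
      intro h
      have h1 : Commute d (a₁ * a₂) := by
        show d * (a₁ * a₂) = a₁ * a₂ * d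
        rw [h] at ht
        exact eq_mul_inv_iff_mul_eq.mp ht
      exact hda₁ ((commute_mul_iff hS ha₁ ha₂ hd hne₁₂).mp h1).1
    by_contra hty
    have hmove : a₂ = t * (d * a₁ * d) * t := by
      rw [ht', braid hS hd ha₁ hda₁]
      have hm : (a₂ * d * a₂) * d * (a₂ * d * a₂) = a₂ := by
        calc (a₂ * d * a₂) * d * (a₂ * d * a₂)
            = (d * a₂ * d) * d * (d * a₂ * d) := by rw [braid hS ha₂ hd (fun h => hda₂ h.symm)]
          _ = d * a₂ * (d * d) * d * a₂ * d := by group
          _ = d * (a₂ * d * a₂) * d := by rw [mul_self_eq_one hS hd]; group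
          _ = a₂ := by rw [braid hS ha₂ hd (fun h => hda₂ h.symm), conj_conj hS hd]
      calc a₂ = a₁ * a₂ * a₁ := by rw [ha₁₂.eq, mul_self_cancel_right hS ha₁]
        _ = a₁ * ((a₂ * d * a₂) * d * (a₂ * d * a₂)) * a₁ := by rw [hm]
        _ = a₁ * (a₂ * d * a₂) * a₁ * (a₁ * d * a₁) * (a₁ * (a₂ * d * a₂) * a₁) := by
            simp only [mul_assoc, mul_self_cancel hS ha₁]
    -- `u` is fixed by `d`, `t` and `c`
    have hut : Commute u t := hcross y hy u hu t ⟨htD, htd, hdt⟩ hty
    have huc : Commute u c := (hcross x hx c hc u huD (fun h => hdis u h hu)).symm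
    have h1 : Commute u a₂ := by
      rw [hmove, show d * a₁ * d = c * a * c from conj_conj hS hd _]
      have h0 : Commute u (c * a * c) := (huc.mul_right hau.symm).mul_right huc
      exact (hut.mul_right h0).mul_right hut
    -- hence `c' * a * c'` commutes with `u`, and so `a` with `c' * u * c'`
    have h2 : Commute (c' * u * c') a := by
      rw [← commute_conj_iff hS hc'D.1, conj_conj hS hc'D.1,
        show c' * a * c' = d * a₂ * d from (conj_conj hS hd _).symm]
      exact (huD.2.2.symm.mul_right h1).mul_right huD.2.2.symm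
    have h3 : c' = u * (c' * u * c') * u := by
      rw [braid hS hc'D.1 huD.1 hcu, conj_conj hS huD.1]
    exact hac' (h3 ▸ (hau.mul_right h2.symm).mul_right hau)
  have k2 := key e f₀ c₁ c₂ ⟨he, hed, hde⟩ hf₀ hc₁ hc₂ hdisj hac₁ hac₂ n₂ hn₂ han₂ hcn₂ _ rfl
  have k1 := key f₀ e c₂ c₁ hf₀ ⟨he, hed, hde⟩ hc₂ hc₁ (fun z h h' => hdisj z h' h) hac₂ hac₁
    n₁ hn₁ han₁ hcn₁ _ rfl
  have hc₁D := hOrbDd e ⟨he, hed, hde⟩ hc₁
  have hc₂D := hOrbDd f₀ hf₀ hc₂
  have hcomm : Commute (d * (c₁ * a * c₁) * d) (d * (c₂ * a * c₂) * d) := by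
    rw [commute_conj_iff hS hd, braid hS hc₁D.1 ha (fun h => hac₁ h.symm),
      braid hS hc₂D.1 ha (fun h => hac₂ h.symm), commute_conj_iff hS ha]
    exact hcross e ⟨he, hed, hde⟩ c₁ hc₁ c₂ hc₂D (fun h => hdisj c₂ h hc₂)
  rw [hcomm.eq] at k2
  exact hdisj _ k1 k2

end CfsgLib.ThreeTransp
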