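import Mathlib
import Cfsg.Agent.Lib.ThreeTransp.Transitive

/-!
Consequences of Fischer's structure theorem used by the statements.
-/

set_option autoImplicit false
set_option linter.style.haveILetI false

namespace CfsgLib.ThreeTransp

open Cfsg
open scoped commutatorElement

variable {G : Type*} [Group G] [Finite G] {D : Set G}

theorem exists_commuting_pair (hS : IsThreeTranspositionSet D) (hc : IsConjClosed D)
    (hgen : Subgroup.closure D = ⊤) (hns : ¬ Group.IsSolvable G) :
    ∃ a ∈ D, ∃ b ∈ D, a ≠ b ∧ Commute a b := by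
  by_contra! h
  exact hns (isSolvable_of_no_commuting hS hc hgen fun a ha b hb hab =>
    by_contra fun hne => h a ha b hb hne hab)

theorem exists_two_of_not_solvable (hD : IsThreeTranspositionClass D) (hns : ¬ Group.IsSolvable G) :
    ∃ a ∈ D, ∃ b ∈ D, a ≠ b :=
  let ⟨a, ha, b, hb, hab, _⟩ := exists_commuting_pair hD.1 (class_conjClosed hD) hD.2.2 hns
  ⟨a, ha, b, hb, hab⟩

/-- If the derived subgroup lies in a normal subgroup, that subgroup has index at most two. -/
theorem index_le_two_of_commutator_le (hD : IsThreeTranspositionClass D) {L : Subgroup G}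
    [L.Normal] (h : commutator G ≤ L) : L.index ≤ 2 := by
  obtain ⟨d, hd, -⟩ := hD.2.1
  set π := QuotientGroup.mk' L
  have key : ∀ e ∈ D, π e = π d := by
    intro e he
    obtain ⟨g, rfl⟩ := class_exists_conj hD hd he
    have hmem : g * d * g⁻¹ * d⁻¹ ∈ L :=
      h (Subgroup.commutator_mem_commutator (Subgroup.mem_top g) (Subgroup.mem_top d))
    have h1 : π (g * d * g⁻¹ * d⁻¹) = 1 := (QuotientGroup.eq_one_iff _).mpr hmem
    rw [map_mul, map_inv, mul_inv_eq_one] at h1
    exact h1
  have htop : ∀ y : G ⧸ L, y ∈ Subgroup.zpowers (π d) := by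
    intro y
    obtain ⟨g, rfl⟩ := QuotientGroup.mk'_surjective L y
    have hg : g ∈ Subgroup.closure D := hD.2.2 ▸ Subgroup.mem_top g
    refine (?_ : Subgroup.closure D ≤ (Subgroup.zpowers (π d)).comap π) hg
    rw [Subgroup.closure_le]
    exact fun e he => Subgroup.mem_comap.mpr (key e he ▸ Subgroup.mem_zpowers _)
  have h1 : L.index = orderOf (π d) := by
    rw [← Nat.card_zpowers, (Subgroup.eq_top_iff' _).mpr htop, Subgroup.card_top]
    rfl
  rw [h1]
  exact orderOf_le_of_pow_eq_one two_pos
    (by rw [← map_pow, pow_two, mul_self_eq_one hD.1 hd, map_one])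

theorem pCore_eq_bot_of_no_solvable {p : ℕ} [Fact p.Prime]
    (hsol : ∀ N : Subgroup G, N.Normal → Group.IsSolvable N → N = ⊥) : Cfsg.pCore p G = ⊥ := by
  haveI := (Fitting.pCore_isPGroup (G := G) p).isNilpotent
  exact hsol _ (Fitting.pCore_normal p) inferInstance

/-- Without solvable normal subgroups and with perfect derived subgroup the class is primitive. -/
theorem primitive_of_no_solvable (hsol : ∀ N : Subgroup G, N.Normal → Group.IsSolvable N → N = ⊥)
    (hperf : ⁅commutator G, commutator G⁆ = commutator G) (hD : IsThreeTranspositionClass D) :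
    IsThreeTranspositionGroup D ∧ IsPrimitiveUnderConj D ∧
      ∃ a ∈ D, ∃ b ∈ D, a ≠ b ∧ Commute a b := by
  haveI : Fact (Nat.Prime 2) := ⟨Nat.prime_two⟩
  haveI : Fact (Nat.Prime 3) := ⟨Nat.prime_three⟩
  obtain ⟨d, hd, -⟩ := hD.2.1
  have hns : ¬ Group.IsSolvable G := fun hs => by
    haveI := hs
    have htop := hsol ⊤ inferInstance inferInstance
    exact ne_one_of_mem hD.1 hd (Subgroup.mem_bot.mp (htop ▸ Subgroup.mem_top d))
  have hw := exists_commuting_pair hD.1 (class_conjClosed hD) hD.2.2 hns
  have hD2 := exists_two_of_not_solvable hD hns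
  have h2 : Cfsg.pCore 2 G ≤ Subgroup.center G := (pCore_eq_bot_of_no_solvable hsol).trans_le bot_le
  have h3 : Cfsg.pCore 3 G ≤ Subgroup.center G := (pCore_eq_bot_of_no_solvable hsol).trans_le bot_le
  obtain ⟨hL, -, -⟩ := layer_structure hD hD2 h2 h3
  haveI : (layer G).Normal := Layer.layer_normal
  set π := QuotientGroup.mk' (layer G)
  have hq : Group.IsSolvable (G ⧸ layer G) := by
    rcases eq_or_ne (layer G) ⊤ with h | h
    · haveI : Subsingleton (G ⧸ layer G) := h ▸ QuotientGroup.subsingleton_quotient_top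
      infer_instance
    have hne : ∀ e ∈ D, π e ≠ 1 := fun e he he1 => h (eq_top_of_subset hD.2.2 fun x hx => by
      obtain ⟨g, rfl⟩ := class_exists_conj hD he hx
      exact Subgroup.Normal.conj_mem inferInstance e ((QuotientGroup.eq_one_iff e).mp he1) g)
    refine isSolvable_of_no_commuting (image_set π hD.1 hne)
      (image_conjClosed π (QuotientGroup.mk'_surjective _) (class_conjClosed hD))
      (image_closure π (QuotientGroup.mk'_surjective _) hD.2.2) ?_
    rintro _ ⟨a, ha, rfl⟩ _ ⟨b, hb, rfl⟩ hab
    refine QuotientGroup.eq.mpr (congr_mod_layer hD hL ha hb ?_)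
    refine (QuotientGroup.eq_one_iff _).mp ?_
    show π (a * b * a⁻¹ * b⁻¹) = 1
    rw [map_mul, map_mul, map_mul, hab.eq, map_inv, map_inv, mul_inv_cancel_right, mul_inv_cancel]
  have hle : commutator G ≤ layer G := by
    haveI := hq
    haveI : Group.IsPerfect (commutator G) := Subgroup.isPerfect_iff.mpr hperf
    have hsol' : Group.IsSolvable ((commutator G).map π) := inferInstance
    haveI : Group.IsPerfect ((commutator G).map π) :=
      Group.IsPerfect.ofSurjective (π.subgroupMap_surjective (commutator G))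
    have hbot : (commutator G).map π = ⊥ := by
      by_contra hne
      haveI := (Subgroup.nontrivial_iff_ne_bot _).mpr hne
      exact Group.IsPerfect.not_isSolvable _ hsol'
    rwa [Subgroup.map_eq_bot_iff, QuotientGroup.ker_mk'] at hbot
  exact ⟨class_isGroup hD, primitive_of_index_le_two hD hD2 h2 h3 hL
    (index_le_two_of_commutator_le hD hle), hw⟩

theorem pCore_le_center_of_simple_derived {p : ℕ} [Fact p.Prime]
    [IsSimpleGroup (commutator G)] (hnonab : ∃ x y : commutator G, x * y ≠ y * x) :
    Cfsg.pCore p G ≤ Subgroup.center G := by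
  haveI := Fitting.pCore_normal (G := G) p
  rw [← Subgroup.commutator_top_right_eq_bot_iff_le_center, eq_bot_iff]
  have hle : ⁅Cfsg.pCore p G, (⊤ : Subgroup G)⁆ ≤ Cfsg.pCore p G ⊓ commutator G :=
    le_inf (Subgroup.commutator_le_left _ _) (Subgroup.commutator_mono le_top le_rfl)
  refine hle.trans ?_
  haveI : ((Cfsg.pCore p G).subgroupOf (commutator G)).Normal :=
    Subgroup.Normal.subgroupOf inferInstance _
  rcases Subgroup.Normal.eq_bot_or_eq_top
    (inferInstance : ((Cfsg.pCore p G).subgroupOf (commutator G)).Normal) with h | h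
  · rw [Subgroup.subgroupOf_eq_bot, disjoint_iff] at h
    exact h.le
  · exfalso
    obtain ⟨x, y, hxy⟩ := hnonab
    have hpg : IsPGroup p (commutator G) :=
      (Fitting.pCore_isPGroup p).to_le (Subgroup.subgroupOf_eq_top.mp h)
    haveI := hpg.isNilpotent
    exact hxy (IsSimpleGroup.comm_iff_isSolvable.mpr inferInstance x y)

theorem not_solvable_of_simple_derived [IsSimpleGroup (commutator G)]
    (hnonab : ∃ x y : commutator G, x * y ≠ y * x) : ¬ Group.IsSolvable G := fun hs => by
  haveI := hs
  obtain ⟨x, y, hxy⟩ := hnonab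
  exact hxy (IsSimpleGroup.comm_iff_isSolvable.mpr inferInstance x y)

/-- A class with simple nonabelian derived subgroup is primitive. -/
theorem primitive_of_simple_derived [IsSimpleGroup (commutator G)]
    (hnonab : ∃ x y : commutator G, x * y ≠ y * x) (hD : IsThreeTranspositionClass D) :
    IsPrimitiveUnderConj D := by
  haveI : Fact (Nat.Prime 2) := ⟨Nat.prime_two⟩
  haveI : Fact (Nat.Prime 3) := ⟨Nat.prime_three⟩
  have hD2 := exists_two_of_not_solvable hD (not_solvable_of_simple_derived hnonab)
  have h2 := pCore_le_center_of_simple_derived (p := 2) hnonab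
  have h3 := pCore_le_center_of_simple_derived (p := 3) hnonab
  obtain ⟨hL, -, -⟩ := layer_structure hD hD2 h2 h3
  haveI : (layer G).Normal := Layer.layer_normal
  have hle : layer G ≤ commutator G := by
    rw [← Layer.commutator_layer_self (G := G)]
    exact Subgroup.commutator_mono le_top le_top
  haveI : ((layer G).subgroupOf (commutator G)).Normal := Subgroup.Normal.subgroupOf inferInstance _
  have hge : commutator G ≤ layer G := by
    rcases Subgroup.Normal.eq_bot_or_eq_top
      (inferInstance : ((layer G).subgroupOf (commutator G)).Normal) with h | h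
    · rw [Subgroup.subgroupOf_eq_bot, disjoint_iff, inf_eq_left.mpr hle] at h
      exact absurd h (Layer.ne_bot_of_isComponent hL)
    · exact Subgroup.subgroupOf_eq_top.mp h
  exact primitive_of_index_le_two hD hD2 h2 h3 hL (index_le_two_of_commutator_le hD hge)

/-- A member related to `d` but different, when the `2`-core is not central. -/
theorem exists_perpEq_ne (hD : IsThreeTranspositionClass D)
    (h : ¬ Cfsg.pCore 2 G ≤ Subgroup.center G) {d : G} (hd : d ∈ D) :
    ∃ v ∈ D, v ≠ d ∧ PerpEq D d v := by
  haveI := Fitting.pCore_normal (G := G) 2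
  have hc := class_conjClosed hD
  by_contra! hno
  refine h (le_center_of_forall hD.2.2 fun x hx e he => ?_)
  obtain ⟨g, rfl⟩ := class_exists_conj hD hd he
  have hy : g⁻¹ * x * g⁻¹⁻¹ ∈ Cfsg.pCore 2 G := Subgroup.Normal.conj_mem inferInstance x hx _
  set y := g⁻¹ * x * g⁻¹⁻¹ with hydef
  have hv : PerpEq D d (y * d * y⁻¹) := by
    refine perpEq_of_mul_mem hD.1 (Fitting.pCore_isPGroup 2) hd (hc y d hd) ?_
    rw [show d * (y * d * y⁻¹) = (d * y * d) * y⁻¹ by group]
    nth_rw 2 [← inv_eq_self hD.1 hd]
    exact mul_mem (Subgroup.Normal.conj_mem inferInstance y hy d) (inv_mem hy)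
  have hfix : y * d * y⁻¹ = d := by
    by_contra hne
    exact hno _ (hc y d hd) hne hv
  have hcomm : Commute d y := (mul_inv_eq_iff_eq_mul.mp hfix).symm
  have := hcomm.map (MulAut.conj g)
  simpa [hydef, mul_assoc] using this

/-- A member related to `d` but different, when the `3`-core is not central. -/
theorem exists_starEq_ne (hD : IsThreeTranspositionClass D)
    (h : ¬ Cfsg.pCore 3 G ≤ Subgroup.center G) {d : G} (hd : d ∈ D) :
    ∃ v ∈ D, v ≠ d ∧ StarEq D d v := by
  haveI := Fitting.pCore_normal (G := G) 3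
  have hc := class_conjClosed hD
  by_contra! hno
  refine h (le_center_of_forall hD.2.2 fun x hx e he => ?_)
  obtain ⟨g, rfl⟩ := class_exists_conj hD hd he
  have hy : g⁻¹ * x * g⁻¹⁻¹ ∈ Cfsg.pCore 3 G := Subgroup.Normal.conj_mem inferInstance x hx _
  set y := g⁻¹ * x * g⁻¹⁻¹ with hydef
  have hv : StarEq D d (y * d * y⁻¹) := by
    refine starEq_of_mul_mem hD.1 (Fitting.pCore_isPGroup 3) hd (hc y d hd) ?_
    rw [show d * (y * d * y⁻¹) = (d * y * d) * y⁻¹ by group]
    nth_rw 2 [← inv_eq_self hD.1 hd]
    exact mul_mem (Subgroup.Normal.conj_mem inferInstance y hy d) (inv_mem hy)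
  have hfix : y * d * y⁻¹ = d := by
    by_contra hne
    exact hno _ (hc y d hd) hne hv
  have hcomm : Commute d y := (mul_inv_eq_iff_eq_mul.mp hfix).symm
  have := hcomm.map (MulAut.conj g)
  simpa [hydef, mul_assoc] using this

omit [Finite G] in
theorem not_perp_and_star {d v w : G} (hS : IsThreeTranspositionSet D) (hd : d ∈ D) (hv : v ∈ D)
    (hw : w ∈ D) (hvd : v ≠ d) (hwd : w ≠ d) (h : PerpEq D d v) (h' : StarEq D d w) : False := by
  have hdv : Commute d v := (commute_of_perpEq hS hd h).symm
  obtain ⟨hvw, hwv⟩ := (h' v hv).mp ⟨hvd, hdv⟩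
  have hdw : Commute d w := (h w hw).mpr hwv.symm
  exact not_commute_of_starEq hS hw hwd.symm h' hdw

/-- If every member moves within its class under the layer, the layer is trivial. -/
theorem layer_eq_bot_of_mul_mem (hD : IsThreeTranspositionClass D) {p : ℕ} [Fact p.Prime]
    (h : ∀ d ∈ D, ∀ l ∈ layer G, d * (l * d * l⁻¹) ∈ Cfsg.pCore p G) : layer G = ⊥ := by
  have hS := hD.1
  haveI := Fitting.pCore_normal (G := G) p
  haveI := (Fitting.pCore_isPGroup (G := G) p).isNilpotent
  have hcp : layer G ≤ Subgroup.centralizer (Cfsg.pCore p G : Set G) :=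
    Subgroup.commutator_eq_bot_iff_le_centralizer.mp
      (Layer.commutator_layer_eq_bot_of_isSolvable inferInstance)
  have hcen : ∀ x ∈ layer G, ∀ d ∈ D, Commute d x := by
    intro x hx d hd
    have hbot : ⁅layer G, Subgroup.zpowers d⁆ = ⊥ := by
      refine Layer.commutator_eq_bot_of_perfect Layer.commutator_layer_self ?_
      have hle : ⁅layer G, Subgroup.zpowers d⁆ ≤ Cfsg.pCore p G := by
        rw [Subgroup.commutator_le]
        intro l hl z hz
        set π := QuotientGroup.mk' (Cfsg.pCore p G)
        have hcomm : Commute (π l) (π d) := by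
          have h1 : π (d * (l * d * l⁻¹)) = 1 := (QuotientGroup.eq_one_iff _).mpr (h d hd l hl)
          rw [map_mul, map_mul, map_mul, map_inv] at h1
          have h2 : π l * π d * (π l)⁻¹ = π d := by
            rw [eq_inv_of_mul_eq_one_right h1, ← map_inv, inv_eq_self hS hd]
          exact mul_inv_eq_iff_eq_mul.mp h2
        obtain ⟨k, rfl⟩ := Subgroup.mem_zpowers_iff.mp hz
        refine (QuotientGroup.eq_one_iff _).mp ?_
        show π ⁅l, d ^ k⁆ = 1
        rw [map_commutatorElement, map_zpow, commutatorElement_eq_one_iff_mul_comm]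
        exact hcomm.zpow_right k
      rw [Subgroup.commutator_eq_bot_iff_le_centralizer]
      refine hle.trans fun y hy => Subgroup.mem_centralizer_iff.mpr fun m hm => ?_
      exact (Subgroup.mem_centralizer_iff.mp (hcp hm) y hy).symm
    exact Subgroup.mem_centralizer_iff.mp
      (Subgroup.commutator_eq_bot_iff_le_centralizer.mp hbot hx) d (Subgroup.mem_zpowers d)
  have hle : layer G ≤ Subgroup.center G := le_center_of_forall hD.2.2 hcen
  rw [← Layer.commutator_layer_self (G := G), Subgroup.commutator_eq_bot_iff_le_centralizer]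
  exact hle.trans fun y hy => Subgroup.mem_centralizer_iff.mpr fun m _ =>
    Subgroup.mem_center_iff.mp hy m

theorem layer_eq_bot_of_two (hD : IsThreeTranspositionClass D)
    (h : ¬ Cfsg.pCore 2 G ≤ Subgroup.center G) : layer G = ⊥ := by
  haveI : Fact (Nat.Prime 2) := ⟨Nat.prime_two⟩
  haveI := Fitting.pCore_normal (G := G) 2
  haveI := (Fitting.pCore_isPGroup (G := G) 2).isNilpotent
  have hS := hD.1
  have hc := class_conjClosed hD
  have hR := perpEq_isInvariantEquiv hc
  refine layer_eq_bot_of_mul_mem hD (p := 2) fun d hd l hl => ?_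
  obtain ⟨v, hv, hvd, hdv⟩ := exists_perpEq_ne hD h hd
  refine mul_mem_pCore_two hS hc hd (hc l d hd) ?_
  have hx : Commute l (d * v) :=
    (Subgroup.mem_centralizer_iff.mp (Subgroup.commutator_eq_bot_iff_le_centralizer.mp
      (Layer.commutator_layer_eq_bot_of_isSolvable inferInstance) hl) _
      (mul_mem_pCore_two hS hc hd hv hdv)).symm
  have hprod : (l * d * l⁻¹) * (l * v * l⁻¹) = d * v := by
    rw [show l * d * l⁻¹ * (l * v * l⁻¹) = l * (d * v) * l⁻¹ by group, hx.eq, mul_inv_cancel_right]
  have hperp' := hR.map l hdv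
  intro e he
  constructor
  · intro hde
    have h1 : Commute e (d * v) := hde.symm.mul_right ((hdv e he).mp hde).symm
    rw [← hprod] at h1
    exact ((commute_mul_iff hS (hc l d hd) (hc l v hv) he
      fun h => hvd (mul_left_cancel (mul_right_cancel h)).symm).mp h1).1.symm
  · intro hde
    have h1 : Commute e ((l * d * l⁻¹) * (l * v * l⁻¹)) :=
      hde.symm.mul_right ((hperp' e he).mp hde).symm
    rw [hprod] at h1
    exact ((commute_mul_iff hS hd hv he hvd.symm).mp h1).1.symm

omit [Finite G] in
theorem commute_mul_star_iff (hS : IsThreeTranspositionSet D) {d w e : G} (hd : d ∈ D) (hw : w ∈ D)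
    (he : e ∈ D) (hwd : w ≠ d) (h : StarEq D d w) : Commute e (d * w) ↔ e ≠ d ∧ Commute d e := by
  constructor
  · intro hx
    have hdw := not_commute_of_starEq hS hw hwd.symm h
    have key : ∀ y, Commute y (d * w) → y = d → False := by
      rintro y hy rfl
      have := (Commute.refl y).inv_right.mul_right hy
      rw [inv_mul_cancel_left] at this
      exact hdw this
    refine ⟨fun h' => key e hx h', ?_⟩
    by_contra hde
    refine key d ?_ rfl
    -- conjugating by `d` inverts the product
    have h1 : Commute (d * e * d) (d * w) := by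
      rw [← commute_conj_iff hS hd, conj_conj hS hd,
        show d * (d * w) * d = (d * w)⁻¹ by
          rw [mul_self_cancel hS hd, mul_inv_rev, inv_eq_self hS hd, inv_eq_self hS hw]]
      exact hx.inv_right
    have e1 : e * (d * e * d) * e = d := by rw [braid hS hd he hde, conj_conj hS he]
    have h2 := (hx.mul_left h1).mul_left hx
    rwa [e1] at h2
  · rintro ⟨h1, h2⟩
    exact h2.symm.mul_right ((h e he).mp ⟨h1, h2⟩).2.symm

theorem layer_eq_bot_of_three (hD : IsThreeTranspositionClass D)
    (h : ¬ Cfsg.pCore 3 G ≤ Subgroup.center G) : layer G = ⊥ := by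
  haveI : Fact (Nat.Prime 3) := ⟨Nat.prime_three⟩
  haveI := Fitting.pCore_normal (G := G) 3
  haveI := (Fitting.pCore_isPGroup (G := G) 3).isNilpotent
  have hS := hD.1
  have hc := class_conjClosed hD
  have hR := starEq_isInvariantEquiv hc
  refine layer_eq_bot_of_mul_mem hD (p := 3) fun d hd l hl => ?_
  obtain ⟨w, hw, hwd, hdw⟩ := exists_starEq_ne hD h hd
  refine mul_mem_pCore_three_of_starEq hS hc hd (hc l d hd) ?_
  have hx : Commute l (d * w) :=
    (Subgroup.mem_centralizer_iff.mp (Subgroup.commutator_eq_bot_iff_le_centralizer.mp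
      (Layer.commutator_layer_eq_bot_of_isSolvable inferInstance) hl) _
      (mul_mem_pCore_three_of_starEq hS hc hd hw hdw)).symm
  have hprod : (l * d * l⁻¹) * (l * w * l⁻¹) = d * w := by
    rw [show l * d * l⁻¹ * (l * w * l⁻¹) = l * (d * w) * l⁻¹ by group, hx.eq, mul_inv_cancel_right]
  intro e he
  rw [← commute_mul_star_iff hS hd hw he hwd hdw,
    ← commute_mul_star_iff hS (hc l d hd) (hc l w hw) he
      (fun h => hwd (mul_left_cancel (mul_right_cancel h))) (hR.map l hdw), hprod]

end CfsgLib.ThreeTransp
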