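import Mathlib
import Cfsg.Agent.Lib.ThreeTransp.Transitive
import Cfsg.Agent.Lib.Classical.UnitarySimple

/-!
Products of few pairwise commuting members of a set of 3-transpositions: no relations of length
three, four, five or six, given enough separation in the successive perp quotients.
-/

set_option autoImplicit false
set_option linter.style.haveILetI false
set_option linter.unusedSectionVars false

namespace CfsgLib.ThreeTransp.Relations

open Cfsg
open CfsgLib.ThreeTransp

variable {G : Type*} [Group G] {D : Set G}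

/-- Members are determined by the members commuting with them. -/
def Sep (D : Set G) : Prop := ∀ a ∈ D, ∀ b ∈ D, PerpEq D a b → a = b

/-- The other members commuting with `d`. -/
abbrev nbr (D : Set G) (d : G) : Set G := {y : G | y ∈ D ∧ y ≠ d ∧ Commute d y}

/-- The group generated by the other members commuting with `d`. -/
abbrev perpGroup (D : Set G) (d : G) : Subgroup G := Subgroup.closure (nbr D d)

/-- The quotient of the perp group by its centre. -/
abbrev PerpQuot (D : Set G) (d : G) : Type _ := ↥(perpGroup D d) ⧸ Subgroup.center ↥(perpGroup D d)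

/-- The image of the perp of `d` in that quotient, as in the type predicates. -/
abbrev perpImage (D : Set G) (d : G) : Set (PerpQuot D d) :=
  (QuotientGroup.mk : ↥(perpGroup D d) → PerpQuot D d) '' {x : ↥(perpGroup D d) | (x : G) ∈ nbr D d}

theorem sep_of_pCore [Finite G] (hS : IsThreeTranspositionSet D) (hc : IsConjClosed D)
    (h : Cfsg.pCore 2 G = ⊥) : Sep D := by
  intro a ha b hb hab
  have h1 := mul_mem_pCore_two hS hc ha hb hab
  rw [h, Subgroup.mem_bot] at h1
  rw [eq_inv_of_mul_eq_one_left h1, inv_eq_self hS hb]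

theorem mul_ne_mem (hS : IsThreeTranspositionSet D) (hsep : Sep D) {a b c : G} (ha : a ∈ D)
    (hb : b ∈ D) (hc : c ∈ D) (hab : a ≠ b) (h : Commute a b) : a * b ≠ c := by
  intro he
  have hac : a ≠ c := fun e => ne_one_of_mem hS hb (by rwa [← e, mul_eq_left] at he)
  have ebc : b = a * c := by rw [← he, mul_self_cancel hS ha]
  refine hac (hsep a ha c hc fun x hx => ⟨fun hax => ?_, fun hcx => ?_⟩)
  · by_contra hcx
    -- `x` commutes with `a`, hence fails to commute with `b`
    have hbx : ¬ Commute b x := fun hbx => hcx (he ▸ hax.mul_left hbx)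
    refine hbx ?_
    by_contra hbx'
    have hc' : Commute b c := by rw [← he]; exact (h.symm.mul_right (Commute.refl b))
    -- `a = b * c`
    have hac' : a = b * c := by
      rw [← he, ← mul_assoc, ← h.eq, mul_self_cancel_right hS hb]
    have hbc : b ≠ c := fun e => ne_one_of_mem hS ha (by rw [hac', e, mul_self_eq_one hS hc])
    exact hbx' ((commute_mul_iff hS hb hc hx hbc).mp (hac' ▸ hax.symm)).1.symm
  · exact ((commute_mul_iff hS ha hb hx hab).mp (he ▸ hcx.symm)).1.symm

theorem mul_four_ne_one (hS : IsThreeTranspositionSet D) (hsep : Sep D) {a b c e : G}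
    (ha : a ∈ D) (hb : b ∈ D) (hc : c ∈ D) (he : e ∈ D) (hab : a ≠ b) (hac : a ≠ c) (hae : a ≠ e)
    (hbc : b ≠ c) (hbe : b ≠ e) (hce : c ≠ e) (cab : Commute a b) (cac : Commute a c)
    (cae : Commute a e) (cbc : Commute b c) (cbe : Commute b e) (cce : Commute c e) :
    a * b * c * e ≠ 1 := by
  intro h
  have he' : e = a * b * c := by
    rw [← inv_eq_self hS he]; exact (eq_inv_of_mul_eq_one_left h).symm
  have ha' : a = b * c * e := by
    rw [← inv_eq_self hS ha]
    exact inv_eq_of_mul_eq_one_right (by simpa only [mul_assoc] using h)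
  refine hae (hsep a ha e he fun x hx => ⟨fun hax => ?_, fun hex => ?_⟩)
  · exact ((commute_mul_three_iff hS hb hc he hx hbc hbe hce cbc cbe cce).mp
      (ha' ▸ hax.symm)).2.2.symm
  · exact ((commute_mul_three_iff hS ha hb hc hx hab hac hbc cab cac cbc).mp
      (he' ▸ hex.symm)).1.symm

theorem conj_mem_nbr (hc : IsConjClosed D) {d g y : G} (hg : Commute g d) (hy : y ∈ nbr D d) :
    g * y * g⁻¹ ∈ nbr D d := by
  have hd : g * d * g⁻¹ = d := by rw [hg.eq, mul_inv_cancel_right]
  refine ⟨hc g y hy.1, fun e => hy.2.1 ?_, ?_⟩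
  · have : g * y * g⁻¹ = g * d * g⁻¹ := e.trans hd.symm
    simpa using this
  · have := hy.2.2.map (MulAut.conj g)
    simpa [hd] using this

theorem commute_of_mem_perpGroup {d g : G} (hg : g ∈ perpGroup D d) : Commute g d := by
  refine Subgroup.mem_centralizer_singleton_iff.mp ((?_ : perpGroup D d ≤ Subgroup.centralizer ({d} : Set G)) hg)
  exact (Subgroup.closure_le _).mpr fun y hy => Subgroup.mem_centralizer_singleton_iff.mpr hy.2.2.symm.eq

theorem image_nbr (hc : IsConjClosed D) (d g : G) :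
    (fun x => g * x * g⁻¹) '' nbr D d = nbr D (g * d * g⁻¹) := by
  ext z
  constructor
  · rintro ⟨y, hy, rfl⟩
    exact ⟨hc g y hy.1, fun e => hy.2.1 (by simpa using e), hy.2.2.map (MulAut.conj g)⟩
  · rintro ⟨hz, hne, hcomm⟩
    refine ⟨g⁻¹ * z * g, ⟨by simpa using hc g⁻¹ z hz, fun e => hne (by rw [← e]; group), ?_⟩, by group⟩
    have := hcomm.map (MulAut.conj g⁻¹)
    simpa [mul_assoc] using this

variable [Finite G]

/-- No member of the perp of `d` commutes with all of it. -/
theorem exists_not_commute_nbr (hD : IsThreeTranspositionClass D) (hsep : Sep D) {d y : G}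
    (hd : d ∈ D) (hy : y ∈ nbr D d) : ∃ u ∈ nbr D d, ¬ Commute y u := by
  by_contra! h
  obtain ⟨g, hg⟩ := class_exists_conj hD hd hy.1
  have hsub : {x | x ∈ D ∧ Commute d x} ⊆ {x | x ∈ D ∧ Commute y x} := fun x hx => by
    rcases eq_or_ne x d with rfl | hxd
    · exact ⟨hx.1, hy.2.2.symm⟩
    · exact ⟨hx.1, h x ⟨hx.1, hxd, hx.2⟩⟩
  have himg : {x | x ∈ D ∧ Commute y x} = (fun x => g * x * g⁻¹) '' {x | x ∈ D ∧ Commute d x} := by
    ext z
    constructor
    · rintro ⟨hz, hyz⟩
      refine ⟨g⁻¹ * z * g, ⟨by simpa using class_conjClosed hD g⁻¹ z hz, ?_⟩, by group⟩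
      have := hyz.map (MulAut.conj g⁻¹)
      simpa [← hg, mul_assoc] using this
    · rintro ⟨x, hx, rfl⟩
      exact ⟨class_conjClosed hD g x hx.1, by rw [← hg]; exact hx.2.map (MulAut.conj g)⟩
  have heq := Set.eq_of_subset_of_ncard_le hsub (by
    rw [himg, Set.ncard_image_of_injective _ (fun u v e => by simpa using e)]) (Set.toFinite _)
  refine hy.2.1 (hsep d hd y hy.1 fun x hx => ⟨fun h' => ?_, fun h' => ?_⟩).symm
  · exact ((Set.ext_iff.1 heq x).1 ⟨hx, h'⟩).2
  · exact ((Set.ext_iff.1 heq x).2 ⟨hx, h'⟩).2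

/-- The projection of the perp group. -/
abbrev proj (D : Set G) (d : G) : ↥(perpGroup D d) →* PerpQuot D d := QuotientGroup.mk' _

variable (hD : IsThreeTranspositionClass D) (hsep : Sep D) {d : G} (hd : d ∈ D)
include hD hsep hd

omit hD hsep hd in
theorem commute_of_proj_eq_one {z : ↥(perpGroup D d)} (hz : proj D d z = 1) {u : G}
    (hu : u ∈ nbr D d) : Commute u (z : G) := by
  have h := Subgroup.mem_center_iff.mp ((QuotientGroup.eq_one_iff z).mp hz) ⟨u, Subgroup.subset_closure hu⟩
  exact congrArg Subtype.val h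

theorem proj_ne_one {y : ↥(perpGroup D d)} (hy : (y : G) ∈ nbr D d) : proj D d y ≠ 1 := by
  intro h
  obtain ⟨u, hu, hn⟩ := exists_not_commute_nbr hD hsep hd hy
  exact hn (commute_of_proj_eq_one h hu).symm

theorem proj_injective {y z : ↥(perpGroup D d)} (hy : (y : G) ∈ nbr D d) (hz : (z : G) ∈ nbr D d)
    (h : proj D d y = proj D d z) : y = z := by
  by_contra hne
  have hyy : y * y = 1 := Subtype.ext (mul_self_eq_one hD.1 hy.1)
  have h1 : proj D d (y * z) = 1 := by rw [map_mul, ← h, ← map_mul, hyy, map_one]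
  obtain ⟨u, hu, hn⟩ := exists_not_commute_nbr hD hsep hd hy
  exact hn ((commute_mul_iff hD.1 hy.1 hz.1 hu.1 fun e => hne (Subtype.ext e)).mp
    (commute_of_proj_eq_one h1 hu)).1.symm

theorem perpImage_isGroup : IsThreeTranspositionGroup (perpImage D d) := by
  have hset : IsThreeTranspositionSet {x : ↥(perpGroup D d) | (x : G) ∈ nbr D d} :=
    ⟨fun x hx => (restrict_set hD.1 (perpGroup D d)).1 x hx.1,
      fun x hx y hy => (restrict_set hD.1 (perpGroup D d)).2 x hx.1 y hy.1⟩
  have hcl : IsConjClosed {x : ↥(perpGroup D d) | (x : G) ∈ nbr D d} := fun g x hx =>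
    conj_mem_nbr (class_conjClosed hD) (commute_of_mem_perpGroup g.2) hx
  have hgen : Subgroup.closure {x : ↥(perpGroup D d) | (x : G) ∈ nbr D d} = ⊤ := by
    refine restrict_closure (D := nbr D d) (perpGroup D d) ?_
    exact congrArg _ (Set.ext fun x => ⟨fun h => h.1, fun h => ⟨h, Subgroup.subset_closure h⟩⟩)
  exact ⟨image_set (proj D d) hset fun x hx => proj_ne_one hD hsep hd hx,
    image_conjClosed (proj D d) (QuotientGroup.mk'_surjective _) hcl,
    image_closure (proj D d) (QuotientGroup.mk'_surjective _) hgen⟩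

theorem proj_eq_one_of_eq {z : ↥(perpGroup D d)} (hz : (z : G) = d) : proj D d z = 1 := by
  refine (QuotientGroup.eq_one_iff z).mpr (Subgroup.mem_center_iff.mpr fun u => Subtype.ext ?_)
  show (u : G) * (z : G) = z * u
  rw [hz]
  exact (commute_of_mem_perpGroup u.2).eq

/-- A relation through `d` gives a relation in the quotient. -/
theorem relation_image (l : List G) (hl : ∀ y ∈ l, y ∈ nbr D d) (hnd : l.Nodup)
    (hcomm : ∀ x ∈ l, ∀ y ∈ l, Commute x y) (hprod : d * l.prod = 1) :
    ∃ l' : List (PerpQuot D d), l'.length = l.length ∧ l'.Nodup ∧ (∀ y ∈ l', y ∈ perpImage D d) ∧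
      (∀ x ∈ l', ∀ y ∈ l', Commute x y) ∧ l'.prod = 1 := by
  let m : List ↥(perpGroup D d) := l.pmap (fun y hy => ⟨y, Subgroup.subset_closure hy⟩) hl
  have hm : ∀ x ∈ m, (x : G) ∈ l := fun x hx => by
    obtain ⟨y, hy, rfl⟩ := List.mem_pmap.mp hx
    exact hy
  have hmval : m.map Subtype.val = l := by
    apply List.ext_getElem <;> simp [m]
  have hmprod : (m.prod : G) = d := by
    rw [SubmonoidClass.coe_list_prod, hmval]
    rw [← inv_eq_self hD.1 hd]
    exact eq_inv_of_mul_eq_one_right hprod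
  refine ⟨m.map (proj D d), by simp [m], ?_, ?_, ?_, ?_⟩
  · refine (List.nodup_map_iff_inj_on ?_).mpr fun x hx y hy h =>
      proj_injective hD hsep hd (hl _ (hm x hx)) (hl _ (hm y hy)) h
    exact List.Nodup.of_map Subtype.val (hmval.symm ▸ hnd)
  · intro y hy
    obtain ⟨x, hx, rfl⟩ := List.mem_map.mp hy
    exact ⟨x, hl _ (hm x hx), rfl⟩
  · intro x hx y hy
    obtain ⟨x, hx', rfl⟩ := List.mem_map.mp hx
    obtain ⟨y, hy', rfl⟩ := List.mem_map.mp hy
    exact (show Commute x y from Subtype.ext (hcomm _ (hm x hx') _ (hm y hy')).eq).map _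
  · rw [← map_list_prod]
    exact proj_eq_one_of_eq hD hsep hd hmprod

omit hsep hd in
/-- Relations are moved along the class. -/
theorem relation_conj {a b : G} (ha : a ∈ D) (hb : b ∈ D) {l : List G} (hl : ∀ y ∈ l, y ∈ D)
    (hnd : (a :: l).Nodup) (hcomm : ∀ x ∈ a :: l, ∀ y ∈ a :: l, Commute x y)
    (hprod : a * l.prod = 1) :
    ∃ m : List G, m.length = l.length ∧ (∀ y ∈ m, y ∈ nbr D b) ∧ m.Nodup ∧
      (∀ x ∈ m, ∀ y ∈ m, Commute x y) ∧ b * m.prod = 1 := by
  obtain ⟨g, hg⟩ := class_exists_conj hD ha hb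
  refine ⟨l.map (MulAut.conj g), by simp, ?_, (List.nodup_cons.mp hnd).2.map (MulAut.conj g).injective, ?_, ?_⟩
  · intro y hy
    obtain ⟨x, hx, rfl⟩ := List.mem_map.mp hy
    refine ⟨class_conjClosed hD g x (hl x hx), fun e => ?_, ?_⟩
    · have : x = a := by simpa [← hg] using e
      exact (List.nodup_cons.mp hnd).1 (this ▸ hx)
    · rw [← hg]
      exact (hcomm a (by simp) x (List.mem_cons_of_mem _ hx)).map (MulAut.conj g)
  · intro x hx y hy
    obtain ⟨x, hx', rfl⟩ := List.mem_map.mp hx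
    obtain ⟨y, hy', rfl⟩ := List.mem_map.mp hy
    exact (hcomm x (List.mem_cons_of_mem _ hx') y (List.mem_cons_of_mem _ hy')).map _
  · rw [← map_list_prod, ← hg]
    exact (map_mul (MulAut.conj g) a l.prod).symm.trans (by rw [hprod, map_one])

theorem no_five (hX : Sep (perpImage D d)) (l : List G) (hlen : l.length = 5)
    (hl : ∀ y ∈ l, y ∈ D) (hnd : l.Nodup) (hcomm : ∀ x ∈ l, ∀ y ∈ l, Commute x y) :
    l.prod ≠ 1 := by
  intro hprod
  obtain ⟨a, l, rfl⟩ : ∃ a t, l = a :: t := by cases l with | nil => simp at hlen | cons a t => exact ⟨a, t, rfl⟩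
  obtain ⟨m, hmlen, hm, hmnd, hmc, hmp⟩ := relation_conj hD (hl a (by simp)) hd
    (fun y hy => hl y (List.mem_cons_of_mem _ hy)) hnd hcomm (by simpa using hprod)
  obtain ⟨m', hlen', hnd', hmem', hc', hp'⟩ := relation_image hD hsep hd m hm hmnd hmc hmp
  have h4 : m'.length = 4 := by simp at hlen; omega
  obtain ⟨w, x, y, z, rfl⟩ := List.length_eq_four.mp h4
  simp only [List.nodup_cons, List.mem_cons, List.not_mem_nil, or_false, not_or] at hnd'
  simp only [List.mem_cons, List.not_mem_nil, or_false, forall_eq_or_imp, forall_eq] at hmem' hc'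
  simp only [List.prod_cons, List.prod_nil, mul_one, ← mul_assoc] at hp'
  exact mul_four_ne_one (perpImage_isGroup hD hsep hd).1 hX hmem'.1 hmem'.2.1 hmem'.2.2.1 hmem'.2.2.2
    hnd'.1.1 hnd'.1.2.1 hnd'.1.2.2 hnd'.2.1.1 hnd'.2.1.2 hnd'.2.2.1 hc'.1.2.1 hc'.1.2.2.1 hc'.1.2.2.2
    hc'.2.1.2.2.1 hc'.2.1.2.2.2 hc'.2.2.1.2.2.2 hp'

theorem no_six (hX : IsThreeTranspositionClass (perpImage D d)) (hXsep : Sep (perpImage D d))
    {d' : PerpQuot D d} (hd' : d' ∈ perpImage D d) (hX' : Sep (perpImage (perpImage D d) d'))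
    (l : List G) (hlen : l.length = 6) (hl : ∀ y ∈ l, y ∈ D) (hnd : l.Nodup)
    (hcomm : ∀ x ∈ l, ∀ y ∈ l, Commute x y) : l.prod ≠ 1 := by
  intro hprod
  obtain ⟨a, l, rfl⟩ : ∃ a t, l = a :: t := by cases l with | nil => simp at hlen | cons a t => exact ⟨a, t, rfl⟩
  obtain ⟨m, hmlen, hm, hmnd, hmc, hmp⟩ := relation_conj hD (hl a (by simp)) hd
    (fun y hy => hl y (List.mem_cons_of_mem _ hy)) hnd hcomm (by simpa using hprod)
  obtain ⟨m', hlen', hnd', hmem', hc', hp'⟩ := relation_image hD hsep hd m hm hmnd hmc hmp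
  exact no_five hX hXsep hd' hX' m' (by simp at hlen; omega) hmem' hnd' hc' hp'

end CfsgLib.ThreeTransp.Relations
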