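import Mathlib
import Cfsg.Agent.Lib.ThreeTransp.Basic

/-!
Homomorphisms from the symmetric groups of degree 3 and 4 defined on adjacent transpositions.
-/

set_option autoImplicit false

namespace CfsgLib.ThreeTransp

variable {G : Type*} [Group G]

/-- A subgroup generated by `s` lies in any set containing `1` and closed under right
multiplication by `s` and inverses of `s`. -/
theorem closure_subset_of_mul_mem {s : Set G} {U : Set G} (h1 : (1 : G) ∈ U)
    (hmul : ∀ x ∈ U, ∀ y ∈ s, x * y ∈ U) (hinv : ∀ y ∈ s, y⁻¹ = y) :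
    (Subgroup.closure s : Set G) ⊆ U := by
  intro x hx
  induction hx using Subgroup.closure_induction_right with
  | one => exact h1
  | mul_right x hx y hy ih => exact hmul x ih y hy
  | mul_inv_cancel x hx y hy ih => exact (hinv y hy).symm ▸ hmul x ih y hy

/-- The six words in two braided involutions. -/
def wordsTwo (a b : G) : Set G := {1, a, b, a * b, b * a, a * b * a}

theorem wordsTwo_finite (a b : G) : (wordsTwo a b).Finite := by simp [wordsTwo]

theorem ncard_wordsTwo_le (a b : G) : (wordsTwo a b).ncard ≤ 6 := by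
  classical
  have h : wordsTwo a b
      = (([1, a, b, a * b, b * a, a * b * a] : List G).toFinset : Set G) := by
    ext x; simp [wordsTwo]
  rw [h, Set.ncard_coe_finset]
  exact (List.toFinset_card_le _).trans (by simp)

theorem closure_two_subset {a b : G} (ha : a * a = 1) (hb : b * b = 1)
    (hab : a * b * a = b * a * b) :
    (Subgroup.closure ({a, b} : Set G) : Set G) ⊆ wordsTwo a b := by
  have ha' : ∀ x, x * a * a = x := fun x => by rw [mul_assoc, ha, mul_one]
  have hb' : ∀ x, x * b * b = x := fun x => by rw [mul_assoc, hb, mul_one]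
  refine closure_subset_of_mul_mem (by simp [wordsTwo]) ?_ ?_
  · intro x hx y hy
    have e1 : a * b * a * b = b * a := by
      rw [hab, hb']
    rcases hy with rfl | rfl <;> rcases hx with rfl | rfl | rfl | rfl | rfl | rfl <;>
      simp [wordsTwo, ha, hb, ha', hb', e1, hab.symm]
  · rintro y (rfl | rfl)
    · exact inv_eq_of_mul_eq_one_right ha
    · exact inv_eq_of_mul_eq_one_right hb

theorem card_closure_two_le {a b : G} (ha : a * a = 1) (hb : b * b = 1)
    (hab : a * b * a = b * a * b) :
    (Subgroup.closure ({a, b} : Set G) : Set G).Finite ∧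
      (Subgroup.closure ({a, b} : Set G) : Set G).ncard ≤ 6 :=
  ⟨(wordsTwo_finite a b).subset (closure_two_subset ha hb hab),
    (Set.ncard_le_ncard (closure_two_subset ha hb hab) (wordsTwo_finite a b)).trans
      (ncard_wordsTwo_le a b)⟩

/-- Four right cosets of the subgroup generated by the first two involutions. -/
def wordsThree (a b c : G) : Set G :=
  ((fun p : G × G => p.1 * p.2) '' ((Subgroup.closure ({a, b} : Set G) : Set G) ×ˢ
    ({1, c, c * b, c * b * a} : Set G)))

theorem card_closure_three_le {a b c : G} (ha : a * a = 1) (hb : b * b = 1) (hc : c * c = 1)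
    (hab : a * b * a = b * a * b) (hbc : b * c * b = c * b * c) (hac : a * c = c * a) :
    (Subgroup.closure ({a, b, c} : Set G) : Set G).Finite ∧
      (Subgroup.closure ({a, b, c} : Set G) : Set G).ncard ≤ 24 := by
  classical
  set N := Subgroup.closure ({a, b} : Set G) with hN
  have haN : a ∈ N := Subgroup.subset_closure (by simp)
  have hbN : b ∈ N := Subgroup.subset_closure (by simp)
  obtain ⟨hfin, hle⟩ := card_closure_two_le ha hb hab
  have hTfin : ({1, c, c * b, c * b * a} : Set G).Finite := by simp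
  have hUfin : (wordsThree a b c).Finite := (hfin.prod hTfin).image _
  have key : ∀ n ∈ N, ∀ t ∈ ({1, c, c * b, c * b * a} : Set G), n * t ∈ wordsThree a b c :=
    fun n hn t ht => ⟨(n, t), ⟨hn, ht⟩, rfl⟩
  have hsub : (Subgroup.closure ({a, b, c} : Set G) : Set G) ⊆ wordsThree a b c := by
    refine closure_subset_of_mul_mem (by simpa using key 1 N.one_mem 1 (by simp)) ?_ ?_
    · rintro x ⟨⟨n, t⟩, ⟨hn, ht⟩, rfl⟩ y hy
      change n * t * y ∈ _
      rcases hy with rfl | rfl | rfl <;> rcases ht with rfl | rfl | rfl | rfl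
      · simpa using key (n * y) (N.mul_mem hn haN) 1 (by simp)
      · rw [mul_assoc, ← hac, ← mul_assoc]
        exact key _ (N.mul_mem hn haN) _ (by simp)
      · rw [mul_assoc]
        exact key _ hn _ (by simp)
      · rw [show n * (c * b * y) * y = n * (c * b * (y * y)) by group, ha, mul_one]
        exact key _ hn _ (by simp)
      · simpa using key (n * y) (N.mul_mem hn hbN) 1 (by simp)
      · rw [mul_assoc]
        exact key _ hn _ (by simp)
      · rw [show n * (c * y) * y = n * (c * (y * y)) by group, hb, mul_one]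
        exact key _ hn _ (by simp)
      · rw [show n * (c * y * a) * y = n * c * (y * a * y) by group, ← hab,
          show n * c * (a * y * a) = n * (c * a) * (y * a) by group, ← hac,
          show n * (a * c) * (y * a) = (n * a) * (c * y * a) by group]
        exact key _ (N.mul_mem hn haN) _ (by simp)
      · rw [mul_one]
        exact key _ hn _ (by simp)
      · rw [mul_assoc, hc]
        exact key _ hn _ (by simp)
      · rw [show n * (y * b) * y = n * (y * b * y) by group, ← hbc,
          show n * (b * y * b) = (n * b) * (y * b) by group]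
        exact key _ (N.mul_mem hn hbN) _ (by simp)
      · rw [show n * (y * b * a) * y = n * (y * b) * (a * y) by group, hac,
          show n * (y * b) * (y * a) = n * (y * b * y) * a by group, ← hbc,
          show n * (b * y * b) * a = (n * b) * (y * b * a) by group]
        exact key _ (N.mul_mem hn hbN) _ (by simp)
    · rintro y (rfl | rfl | rfl)
      · exact inv_eq_of_mul_eq_one_right ha
      · exact inv_eq_of_mul_eq_one_right hb
      · exact inv_eq_of_mul_eq_one_right hc
  refine ⟨hUfin.subset hsub, (Set.ncard_le_ncard hsub hUfin).trans ?_⟩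
  refine (Set.ncard_image_le (hfin.prod hTfin)).trans ?_
  rw [Set.ncard_prod]
  have hT : ({1, c, c * b, c * b * a} : Set G).ncard ≤ 4 := by
    have h : ({1, c, c * b, c * b * a} : Set G)
        = (([1, c, c * b, c * b * a] : List G).toFinset : Set G) := by ext x; simp
    rw [h, Set.ncard_coe_finset]
    exact (List.toFinset_card_le _).trans (by simp)
  exact (Nat.mul_le_mul hle hT).trans (by norm_num)

/-- Generators of a finite group extend to a homomorphism if their graph generates no more elements
than the group has. -/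
theorem exists_hom_of_ncard_le {W : Type*} [Group W] [Finite W] {ι : Type*} (σ : ι → W)
    (f : ι → G) (hσ : Subgroup.closure (Set.range σ) = ⊤)
    (hfin : (Subgroup.closure (Set.range fun i => (σ i, f i)) : Set (W × G)).Finite)
    (hle : (Subgroup.closure (Set.range fun i => (σ i, f i)) : Set (W × G)).ncard ≤ Nat.card W) :
    ∃ φ : W →* G, ∀ i, φ (σ i) = f i := by
  set H := Subgroup.closure (Set.range fun i => (σ i, f i))
  haveI : Finite H := hfin.to_subtype
  set p : H →* W := (MonoidHom.fst W G).comp H.subtype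
  have hp : Function.Surjective p := by
    rw [← MonoidHom.range_eq_top, eq_top_iff, ← hσ, Subgroup.closure_le]
    rintro _ ⟨i, rfl⟩
    exact ⟨⟨_, Subgroup.subset_closure ⟨i, rfl⟩⟩, rfl⟩
  have hbij : Function.Bijective p := by
    rw [Nat.bijective_iff_surjective_and_card]
    refine ⟨hp, le_antisymm ?_ (Nat.card_le_card_of_surjective p hp)⟩
    exact (Nat.card_coe_set_eq _).le.trans hle
  refine ⟨((MonoidHom.snd W G).comp H.subtype).comp (MulEquiv.ofBijective p hbij).symm.toMonoidHom,
    fun i => ?_⟩
  have h1 : (MulEquiv.ofBijective p hbij).symm (σ i)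
      = ⟨_, Subgroup.subset_closure (Set.mem_range_self i)⟩ :=
    (MulEquiv.ofBijective p hbij).symm_apply_eq.mpr rfl
  simp [h1]

theorem closure_adjacent_three :
    Subgroup.closure (Set.range ![(Equiv.swap 0 1 : Equiv.Perm (Fin 3)), Equiv.swap 1 2]) = ⊤ := by
  refine Subgroup.closure_eq_top_of_mclosure_eq_top (top_le_iff.mp ?_)
  rw [← Equiv.Perm.mclosure_swap_castSucc_succ 2]
  refine Submonoid.closure_mono ?_
  rintro _ ⟨i, rfl⟩
  fin_cases i <;> exact ⟨_, by first | exact (rfl : ![_, _] 0 = _) | exact (rfl : ![_, _] 1 = _)⟩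

theorem closure_adjacent_four :
    Subgroup.closure (Set.range
      ![(Equiv.swap 0 1 : Equiv.Perm (Fin 4)), Equiv.swap 1 2, Equiv.swap 2 3]) = ⊤ := by
  refine Subgroup.closure_eq_top_of_mclosure_eq_top (top_le_iff.mp ?_)
  rw [← Equiv.Perm.mclosure_swap_castSucc_succ 3]
  refine Submonoid.closure_mono ?_
  rintro _ ⟨i, rfl⟩
  fin_cases i
  · exact ⟨0, rfl⟩
  · exact ⟨1, rfl⟩
  · exact ⟨2, rfl⟩

theorem exists_hom_perm_three {a b : G} (ha : a * a = 1) (hb : b * b = 1)
    (hab : a * b * a = b * a * b) :
    ∃ φ : Equiv.Perm (Fin 3) →* G, φ (Equiv.swap 0 1) = a ∧ φ (Equiv.swap 1 2) = b := by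
  have hr : (Set.range fun i : Fin 2 =>
      (![(Equiv.swap 0 1 : Equiv.Perm (Fin 3)), Equiv.swap 1 2] i, ![a, b] i))
      = {(Equiv.swap 0 1, a), (Equiv.swap 1 2, b)} := by
    ext x; simp [Fin.exists_fin_two, eq_comm]
  obtain ⟨h1, h2⟩ := card_closure_two_le
    (a := ((Equiv.swap 0 1 : Equiv.Perm (Fin 3)), a)) (b := (Equiv.swap 1 2, b))
    (Prod.ext (by simp only [Prod.fst_mul, Prod.fst_one]; decide) ha) (Prod.ext (by simp only [Prod.fst_mul, Prod.fst_one]; decide) hb) (Prod.ext (by simp only [Prod.fst_mul, Prod.fst_one]; decide) hab)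
  obtain ⟨φ, hφ⟩ := exists_hom_of_ncard_le _ ![a, b] closure_adjacent_three
    (by rw [hr]; exact h1)
    (by rw [hr, Nat.card_eq_fintype_card, Fintype.card_perm]; exact h2)
  exact ⟨φ, hφ 0, hφ 1⟩

theorem exists_hom_perm_four {a b c : G} (ha : a * a = 1) (hb : b * b = 1) (hc : c * c = 1)
    (hab : a * b * a = b * a * b) (hbc : b * c * b = c * b * c) (hac : a * c = c * a) :
    ∃ φ : Equiv.Perm (Fin 4) →* G, φ (Equiv.swap 0 1) = a ∧ φ (Equiv.swap 1 2) = b ∧
      φ (Equiv.swap 2 3) = c := by
  have hr : (Set.range fun i : Fin 3 =>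
      (![(Equiv.swap 0 1 : Equiv.Perm (Fin 4)), Equiv.swap 1 2, Equiv.swap 2 3] i, ![a, b, c] i))
      = {(Equiv.swap 0 1, a), (Equiv.swap 1 2, b), (Equiv.swap 2 3, c)} := by
    ext x; simp [Fin.exists_fin_succ, eq_comm]
  obtain ⟨h1, h2⟩ := card_closure_three_le
    (a := ((Equiv.swap 0 1 : Equiv.Perm (Fin 4)), a)) (b := (Equiv.swap 1 2, b))
    (c := (Equiv.swap 2 3, c))
    (Prod.ext (by simp only [Prod.fst_mul, Prod.fst_one]; decide) ha) (Prod.ext (by simp only [Prod.fst_mul, Prod.fst_one]; decide) hb) (Prod.ext (by simp only [Prod.fst_mul, Prod.fst_one]; decide) hc)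
    (Prod.ext (by simp only [Prod.fst_mul, Prod.fst_one]; decide) hab) (Prod.ext (by simp only [Prod.fst_mul, Prod.fst_one]; decide) hbc) (Prod.ext (by simp only [Prod.fst_mul, Prod.fst_one]; decide) hac)
  obtain ⟨φ, hφ⟩ := exists_hom_of_ncard_le _ ![a, b, c] closure_adjacent_four
    (by rw [hr]; exact h1)
    (by rw [hr, Nat.card_eq_fintype_card, Fintype.card_perm]; exact h2)
  exact ⟨φ, hφ 0, hφ 1, hφ 2⟩

theorem eq_top_of_two_mem {H : Subgroup (Equiv.Perm (Fin 3))} (h0 : Equiv.swap 0 1 ∈ H)
    (h1 : Equiv.swap 1 2 ∈ H) : H = ⊤ := by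
  rw [eq_top_iff, ← closure_adjacent_three, Subgroup.closure_le]
  rintro _ ⟨i, rfl⟩
  fin_cases i <;> assumption

theorem eq_top_of_three_mem {H : Subgroup (Equiv.Perm (Fin 4))} (h0 : Equiv.swap 0 1 ∈ H)
    (h1 : Equiv.swap 1 2 ∈ H) (h2 : Equiv.swap 2 3 ∈ H) : H = ⊤ := by
  rw [eq_top_iff, ← closure_adjacent_four, Subgroup.closure_le]
  rintro _ ⟨i, rfl⟩
  fin_cases i <;> assumption

end CfsgLib.ThreeTransp
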