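import Mathlib
import Cfsg.Agent.Lib.ThreeTransp.Relations
import Cfsg.Agent.Lib.ThreeTransp.Main

/-!
Separation in the successive perp quotients of groups of type M(22), M(23) and M(24).
-/

set_option autoImplicit false
set_option linter.style.haveILetI false
set_option linter.unusedSectionVars false

namespace CfsgLib.ThreeTransp.Relations

open Cfsg
open CfsgLib.ThreeTransp

variable {G : Type*} [Group G] [Finite G] {D : Set G}

theorem not_commutative_of_simple_quotient {H : Type*} [Group H]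
    [IsSimpleGroup (H ⧸ Subgroup.center H)] : ∃ x y : H, ¬ Commute x y := by
  by_contra! h
  obtain ⟨a, b, hne⟩ := exists_pair_ne (H ⧸ Subgroup.center H)
  obtain ⟨a, rfl⟩ := QuotientGroup.mk_surjective a
  obtain ⟨b, rfl⟩ := QuotientGroup.mk_surjective b
  have hc : ∀ z : H, (z : H ⧸ Subgroup.center H) = 1 := fun z =>
    (QuotientGroup.eq_one_iff z).mpr (Subgroup.mem_center_iff.mpr fun x => (h x z).eq)
  exact hne ((hc a).trans (hc b).symm)

theorem pCore_two_eq_bot_of_simple {H : Type*} [Group H] [Finite H] [IsSimpleGroup H]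
    (hn : ∃ x y : H, ¬ Commute x y) : Cfsg.pCore 2 H = ⊥ := by
  rcases Subgroup.Normal.eq_bot_or_eq_top (Fitting.pCore_normal (G := H) 2) with h | h
  · exact h
  · exfalso
    haveI : Fact (Nat.Prime 2) := ⟨Nat.prime_two⟩
    haveI : Group.IsNilpotent (Cfsg.pCore 2 H) := (Fitting.pCore_isPGroup (G := H) 2).isNilpotent
    haveI : Group.IsNilpotent H :=
      Group.nilpotent_of_mulEquiv ((MulEquiv.subgroupCongr h).trans Subgroup.topEquiv)
    obtain ⟨x, y, hxy⟩ := hn
    exact hxy (IsSimpleGroup.comm_iff_isSolvable.mpr inferInstance x y)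

/-- Some two members of the perp do not commute, when the quotient is not trivial. -/
theorem exists_not_commute_in_nbr {d : G}
    (h : ∃ x y : ↥(perpGroup D d), ¬ Commute x y) : ∃ y ∈ nbr D d, ∃ u ∈ nbr D d, ¬ Commute y u := by
  by_contra! hc
  obtain ⟨x, y, hxy⟩ := h
  haveI := Subgroup.isMulCommutative_closure (k := nbr D d) fun a ha b hb => (hc a ha b hb).eq
  exact hxy (mul_comm' x y)

/-- If the quotient of the perp group has trivial 2-core, then so has a class with trivial centre. -/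
theorem pCore_two_eq_bot (hD : IsThreeTranspositionClass D) (hZ : Subgroup.center G = ⊥) {d : G}
    (hd : d ∈ D) (hX : Cfsg.pCore 2 (PerpQuot D d) = ⊥)
    (hne : ∃ x y : ↥(perpGroup D d), ¬ Commute x y) : Cfsg.pCore 2 G = ⊥ := by
  have hS := hD.1
  have hc := class_conjClosed hD
  have hN := Fitting.pCore_normal (G := G) 2
  refine le_bot_iff.mp (hZ ▸ le_center_of_forall hD.2.2 fun x hx e he => ?_)
  by_contra hne'
  obtain ⟨w, hw, u, hu, hwu⟩ := exists_not_commute_in_nbr hne
  -- every member has a partner congruent modulo the core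
  have hall : ∀ y ∈ D, ∃ v ∈ D, v ≠ y ∧ y * v ∈ Cfsg.pCore 2 G := by
    intro y hy
    obtain ⟨g, rfl⟩ := class_exists_conj hD he hy
    refine ⟨g * (x * e * x⁻¹) * g⁻¹, hc g _ (hc x e he), fun h => hne' ?_, ?_⟩
    · have h' : x * e * x⁻¹ = e := by simpa using h
      show e * x = x * e
      calc e * x = x * e * x⁻¹ * x := by rw [h']
        _ = x * e := by group
    · have h1 : e * (x * e * x⁻¹) ∈ Cfsg.pCore 2 G := by
        rw [show e * (x * e * x⁻¹) = e * x * e * x⁻¹ by group]
        nth_rw 2 [← inv_eq_self hS he]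
        exact mul_mem (hN.conj_mem x hx e) (inv_mem hx)
      have h2 := hN.conj_mem _ h1 g
      rwa [show g * (e * (x * e * x⁻¹)) * g⁻¹ = g * e * g⁻¹ * (g * (x * e * x⁻¹) * g⁻¹) by group] at h2
  obtain ⟨v, hv, hvw, hwv⟩ := hall w hw.1
  have hperp := perpEq_of_mul_mem (D := D) hS (N := Cfsg.pCore 2 G) (Fitting.pCore_isPGroup 2) hw.1 hv hwv
  have hvd : v ≠ d := fun e => hwu ((hperp u hu.1).mpr (e ▸ hu.2.2))
  have hvn : v ∈ nbr D d := ⟨hv, hvd, ((hperp d hd).mp hw.2.2.symm).symm⟩
  let z : ↥(perpGroup D d) := ⟨w * v, mul_mem (Subgroup.subset_closure hw) (Subgroup.subset_closure hvn)⟩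
  have hz : z ∈ (Cfsg.pCore 2 G).subgroupOf (perpGroup D d) := Subgroup.mem_subgroupOf.mpr hwv
  have hmem : proj D d z ∈ Cfsg.pCore 2 (PerpQuot D d) :=
    Fitting.le_pCore ((hN.subgroupOf _).map _ (QuotientGroup.mk'_surjective _))
      (((Fitting.pCore_isPGroup 2).comap_of_injective _ (Subgroup.subtype_injective _)).map _) ⟨z, hz, rfl⟩
  rw [hX, Subgroup.mem_bot] at hmem
  exact hwu ((commute_mul_iff hS hw.1 hv hu.1 hvw.symm).mp (commute_of_proj_eq_one hmem hu)).1.symm

/-- The quotient of the perp group by its centre is a class of 3-transpositions in a primitive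
group with commuting members. -/
theorem perpImage_isClass (hD : IsThreeTranspositionClass D) (hprim : IsPrimitiveUnderConj D)
    (hsep : Sep D) {d : G} (hd : d ∈ D) (hne : ∃ x y : ↥(perpGroup D d), ¬ Commute x y) :
    IsThreeTranspositionClass (perpImage D d) := by
  obtain ⟨w, hw, -⟩ := exists_not_commute_in_nbr hne
  have hgrp := perpImage_isGroup hD hsep hd
  refine ⟨hgrp.1, ⟨proj D d ⟨w, Subgroup.subset_closure hw⟩, ⟨_, hw, rfl⟩, Set.ext fun z => ?_⟩, hgrp.2.2⟩
  constructor
  · rintro ⟨y, hy, rfl⟩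
    obtain ⟨g, hg, hgy⟩ := transitive_commute (class_isGroup hD) hprim
      ⟨d, hd, w, hw.1, hw.2.1.symm, hw.2.2⟩ hd hw.1 hy.1 hw.2.1 hy.2.1 hw.2.2 hy.2.2
    refine isConj_iff.mpr ⟨proj D d ⟨g, hg⟩, ?_⟩
    rw [← map_inv, ← map_mul, ← map_mul]
    exact congrArg (proj D d) (Subtype.ext hgy)
  · intro hz
    obtain ⟨g, rfl⟩ := isConj_iff.mp (show IsConj _ z from hz)
    exact hgrp.2.1 g _ ⟨_, hw, rfl⟩

/-- The cores of the quotient of a perp group with central cores are central. -/
theorem pCore_perpQuot (hD : IsThreeTranspositionClass D) {d : G}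
    (h2 : Cfsg.pCore 2 ↥(perpGroup D d) ≤ Subgroup.center _)
    (h3 : Cfsg.pCore 3 ↥(perpGroup D d) ≤ Subgroup.center _) (p : ℕ) [Fact p.Prime] :
    Cfsg.pCore p (PerpQuot D d) = ⊥ := by
  have hset : IsThreeTranspositionSet {x : ↥(perpGroup D d) | (x : G) ∈ nbr D d} :=
    ⟨fun x hx => (restrict_set hD.1 (perpGroup D d)).1 x hx.1,
      fun x hx y hy => (restrict_set hD.1 (perpGroup D d)).2 x hx.1 y hy.1⟩
  have hcl : IsConjClosed {x : ↥(perpGroup D d) | (x : G) ∈ nbr D d} := fun g x hx =>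
    conj_mem_nbr (class_conjClosed hD) (commute_of_mem_perpGroup g.2) hx
  have hgen : Subgroup.closure {x : ↥(perpGroup D d) | (x : G) ∈ nbr D d} = ⊤ := by
    refine restrict_closure (D := nbr D d) (perpGroup D d) ?_
    exact congrArg _ (Set.ext fun x => ⟨fun h => h.1, fun h => ⟨h, Subgroup.subset_closure h⟩⟩)
  set Q := Cfsg.pCore p (PerpQuot D d)
  set P := Q.comap (proj D d)
  haveI : Group.IsNilpotent Q := (Fitting.pCore_isPGroup (G := PerpQuot D d) p).isNilpotent
  have hP : Group.IsNilpotent P := by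
    let f : P →* Q := ((proj D d).comp P.subtype).codRestrict Q fun x => x.2
    refine Subgroup.isNilpotent_of_ker_le_center f fun x hx => ?_
    have h1 : proj D d (x : ↥(perpGroup D d)) = 1 := congrArg Subtype.val (MonoidHom.mem_ker.mp hx)
    rw [Subgroup.mem_center_iff]
    intro y
    exact Subtype.ext (Subgroup.mem_center_iff.mp ((QuotientGroup.eq_one_iff _).mp h1) y)
  have hle : P ≤ Subgroup.center _ :=
    (Fitting.le_fittingSubgroup ((Fitting.pCore_normal p).comap _) hP).trans
      (fittingSubgroup_le_center hset hcl hgen h2 h3)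
  rw [eq_bot_iff]
  intro q hq
  obtain ⟨x, rfl⟩ := QuotientGroup.mk'_surjective _ q
  exact Subgroup.mem_bot.mpr ((QuotientGroup.eq_one_iff x).mpr (hle hq))

/-- Central cores at one member give central cores at every member. -/
theorem pCore_perp_transport (hD : IsThreeTranspositionClass D) {a d : G} (ha : a ∈ D) (hd : d ∈ D)
    {p : ℕ} (h : Cfsg.pCore p ↥(perpGroup D a) ≤ Subgroup.center _) :
    Cfsg.pCore p ↥(perpGroup D d) ≤ Subgroup.center _ := by
  obtain ⟨g, hg⟩ := class_exists_conj hD ha hd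
  have heq : (perpGroup D a).map (MulAut.conj g).toMonoidHom = perpGroup D d := by
    rw [perpGroup, MonoidHom.map_closure, ← hg]
    exact congrArg Subgroup.closure (image_nbr (class_conjClosed hD) a g)
  let φ : ↥(perpGroup D a) ≃* ↥(perpGroup D d) :=
    ((perpGroup D a).equivMapOfInjective _ (MulAut.conj g).injective).trans (MulEquiv.subgroupCongr heq)
  intro x hx
  have hx' : φ.symm x ∈ Cfsg.pCore p ↥(perpGroup D a) :=
    Fitting.le_pCore ((Fitting.pCore_normal p).map φ.symm.toMonoidHom φ.symm.surjective)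
      ((Fitting.pCore_isPGroup p).map _) ⟨x, hx, rfl⟩
  rw [Subgroup.mem_center_iff]
  intro y
  have := congrArg φ (Subgroup.mem_center_iff.mp (h hx') (φ.symm y))
  simpa using this

/-- A perp quotient with a commuting pair in the perp of some member is primitive. -/
theorem perpQuot_primitive (hD : IsThreeTranspositionClass D) (hprim : IsPrimitiveUnderConj D)
    (hsep : Sep D) {d : G} (hd : d ∈ D) (hne : ∃ x y : ↥(perpGroup D d), ¬ Commute x y)
    (h2 : Cfsg.pCore 2 ↥(perpGroup D d) ≤ Subgroup.center _)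
    (h3 : Cfsg.pCore 3 ↥(perpGroup D d) ≤ Subgroup.center _)
    {d' : PerpQuot D d} (hd' : d' ∈ perpImage D d)
    (hne' : ∃ x y : ↥(perpGroup (perpImage D d) d'), ¬ Commute x y) :
    IsPrimitiveUnderConj (perpImage D d) := by
  have hX := perpImage_isClass hD hprim hsep hd hne
  obtain ⟨y', hy', u', hu', hyu'⟩ := exists_not_commute_in_nbr hne'
  obtain ⟨y, hy, hye⟩ := hy'.1
  obtain ⟨u, hu, hue⟩ := hu'.1
  obtain ⟨a₀, ha₀, ha₀e⟩ := hd'
  have hyu : ¬ Commute (y : G) (u : G) := fun h =>
    hyu' (hye ▸ hue ▸ (show Commute y u from Subtype.ext h.eq).map (proj D d))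
  have hlift : ∀ {p q : ↥(perpGroup D d)}, (p : G) ∈ nbr D d → (q : G) ∈ nbr D d →
      Commute (proj D d p) (proj D d q) → Commute (p : G) (q : G) := by
    intro p q hp hq h
    by_contra hn
    have hset : IsThreeTranspositionSet {x : ↥(perpGroup D d) | (x : G) ∈ nbr D d} :=
      ⟨fun x hx => (restrict_set hD.1 (perpGroup D d)).1 x hx.1,
        fun x hx y hy => (restrict_set hD.1 (perpGroup D d)).2 x hx.1 y hy.1⟩
    rcases eq_or_commute_of_map_commute (proj D d) hset hp hq h with h' | h'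
    · exact hn (proj_injective hD hsep hd hp hq h' ▸ Commute.refl _)
    · exact hn (h'.map (perpGroup D d).subtype)
  have hay : Commute (a₀ : G) (y : G) := hlift ha₀ hy (by
    rw [show proj D d a₀ = d' from ha₀e, show proj D d y = y' from hye]; exact hy'.2.2)
  have hau : Commute (a₀ : G) (u : G) := hlift ha₀ hu (by
    rw [show proj D d a₀ = d' from ha₀e, show proj D d u = u' from hue]; exact hu'.2.2)
  -- the members commuting with both `y` and `u`
  set S : Set G := {x | x ∈ D ∧ Commute x (y : G) ∧ Commute x (u : G)}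
  have hdS : d ∈ S := ⟨hd, hy.2.2, hu.2.2⟩
  have haS : (a₀ : G) ∈ S := ⟨ha₀.1, hay, hau⟩
  have hneigh : ∀ s ∈ S, ∃ t ∈ S, t ≠ s ∧ Commute t s := by
    intro s hs
    rcases eq_or_ne s d with rfl | hsd
    · exact ⟨_, haS, ha₀.2.1, ha₀.2.2.symm⟩
    by_cases hc : Commute s d
    · exact ⟨d, hdS, hsd.symm, hc.symm⟩
    refine ⟨(d * s) * (a₀ : G) * (d * s)⁻¹, ⟨hD.1 |> fun _ => class_conjClosed hD _ _ haS.1, ?_, ?_⟩, ?_, ?_⟩
    · have hk : Commute (d * s) (y : G) := hdS.2.1.mul_left hs.2.1
      have := haS.2.1.map (MulAut.conj (d * s)).toMonoidHom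
      simpa only [MulEquiv.toMonoidHom_eq_coe, MonoidHom.coe_coe, MulAut.conj_apply, hk.eq,
        mul_inv_cancel_right] using this
    · have hk : Commute (d * s) (u : G) := hdS.2.2.mul_left hs.2.2
      have := haS.2.2.map (MulAut.conj (d * s)).toMonoidHom
      simpa only [MulEquiv.toMonoidHom_eq_coe, MonoidHom.coe_coe, MulAut.conj_apply, hk.eq,
        mul_inv_cancel_right] using this
    · intro h
      have h' := eq_conj_of_not_commute hD.1 hd hs.1 (fun h => hc h.symm)
      exact ha₀.2.1 (mul_left_cancel (mul_right_cancel (h.trans h')))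
    · have h' := eq_conj_of_not_commute hD.1 hd hs.1 (fun h => hc h.symm)
      have := ha₀.2.2.symm.map (MulAut.conj (d * s)).toMonoidHom
      simpa only [MulEquiv.toMonoidHom_eq_coe, MonoidHom.coe_coe, MulAut.conj_apply, ← h'] using this
  -- any two noncommuting members of the quotient have a common neighbour
  have hcommon : ∀ p ∈ perpImage D d, ∀ q ∈ perpImage D d, ¬ Commute p q →
      ∃ r ∈ perpImage D d, Commute p r ∧ Commute r q := by
    rintro _ ⟨p, hp, rfl⟩ _ ⟨q, hq, rfl⟩ hpq
    have hpq' : ¬ Commute (p : G) (q : G) := fun h =>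
      hpq ((show Commute p q from Subtype.ext h.eq).map (proj D d))
    obtain ⟨g₁, hg₁⟩ := class_exists_conj hD hy.1 hp.1
    have hq₁ : g₁⁻¹ * (q : G) * g₁⁻¹⁻¹ ∈ D := class_conjClosed hD g₁⁻¹ _ hq.1
    have hyq₁ : ¬ Commute (y : G) (g₁⁻¹ * (q : G) * g₁⁻¹⁻¹) := fun h => hpq' (by
      have := h.map (MulAut.conj g₁)
      simpa [hg₁, mul_assoc] using this)
    obtain ⟨h, hh, hhq⟩ := transitive_not_commute (class_isGroup hD) hprim
      ⟨d, hd, _, hy.1, hy.2.1.symm, hy.2.2⟩ hy.1 hu.1 hq₁ hyu hyq₁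
    have hhy : Commute h (y : G) := (perp_closure_conj hD.1 (class_conjClosed hD) hh hy.1).1
    set g := g₁ * h
    have hgy : g * (y : G) * g⁻¹ = p := by
      rw [show g * (y : G) * g⁻¹ = g₁ * (h * y * h⁻¹) * g₁⁻¹ by simp [g, mul_assoc], hhy.eq,
        mul_inv_cancel_right, hg₁]
    have hgu : g * (u : G) * g⁻¹ = q := by
      rw [show g * (u : G) * g⁻¹ = g₁ * (h * u * h⁻¹) * g₁⁻¹ by simp [g, mul_assoc], hhq]
      group
    have hs : g⁻¹ * d * g⁻¹⁻¹ ∈ S := by
      refine ⟨class_conjClosed hD g⁻¹ d hd, ?_, ?_⟩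
      · have := hp.2.2.map (MulAut.conj g⁻¹)
        simpa [← hgy, mul_assoc] using this
      · have := hq.2.2.map (MulAut.conj g⁻¹)
        simpa [← hgu, mul_assoc] using this
    obtain ⟨t, ht, hts, htc⟩ := hneigh _ hs
    have hr : g * t * g⁻¹ ∈ nbr D d := by
      refine ⟨class_conjClosed hD g t ht.1, fun e => hts ?_, ?_⟩
      · rw [← e]; group
      · have := htc.symm.map (MulAut.conj g)
        simpa [mul_assoc] using this
    refine ⟨proj D d ⟨_, Subgroup.subset_closure hr⟩, ⟨_, hr, rfl⟩, ?_, ?_⟩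
    · refine (show Commute p ⟨_, Subgroup.subset_closure hr⟩ from Subtype.ext ?_).map (proj D d)
      have := ht.2.1.symm.map (MulAut.conj g)
      simpa [hgy] using this.eq
    · refine (show Commute (⟨_, Subgroup.subset_closure hr⟩ : ↥(perpGroup D d)) q from Subtype.ext ?_).map (proj D d)
      have := ht.2.2.map (MulAut.conj g)
      simpa [hgu] using this.eq
  have hconn : (commutingGraph (perpImage D d)).Connected := by
    haveI : Nonempty ↥(perpImage D d) := ⟨⟨_, ⟨_, ha₀, ha₀e⟩⟩⟩
    have adj : ∀ {p q : ↥(perpImage D d)}, Commute (p : PerpQuot D d) q →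
        (commutingGraph (perpImage D d)).Reachable p q := by
      intro p q h
      rcases eq_or_ne p q with rfl | hne
      · exact SimpleGraph.Reachable.refl _
      · refine SimpleGraph.Adj.reachable ?_
        simp only [commutingGraph, SimpleGraph.fromRel_adj]
        exact ⟨hne, Or.inl h⟩
    refine ⟨fun p q => ?_⟩
    by_cases h : Commute (p : PerpQuot D d) q
    · exact adj h
    · obtain ⟨r, hr, h1, h2⟩ := hcommon _ p.2 _ q.2 h
      exact (adj (q := ⟨r, hr⟩) h1).trans (adj h2)
  have hD2 : ∃ a ∈ perpImage D d, ∃ b ∈ perpImage D d, a ≠ b :=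
    ⟨y', hy'.1, u', hu'.1, fun e => hyu' (e ▸ Commute.refl _)⟩
  haveI : Fact (Nat.Prime 2) := ⟨Nat.prime_two⟩
  haveI : Fact (Nat.Prime 3) := ⟨Nat.prime_three⟩
  have h2' := (pCore_perpQuot hD h2 h3 2).trans_le (bot_le (a := Subgroup.center (PerpQuot D d)))
  have h3' := (pCore_perpQuot hD h2 h3 3).trans_le (bot_le (a := Subgroup.center (PerpQuot D d)))
  obtain ⟨hL, -, -⟩ := layer_structure hX hD2 h2' h3'
  haveI : (layer (PerpQuot D d)).Normal := Layer.layer_normal
  exact primitive_of_index_le_two hX hD2 h2' h3' hL (index_le_two_of_connected hX hL hconn)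

/-- Type M(22): the 2-core is trivial. -/
theorem pCore_two_of_typeM22 (hD : IsThreeTranspositionClass D) (h : IsOfTypeM22 G D) :
    Cfsg.pCore 2 G = ⊥ := by
  obtain ⟨hZ, d, hd, c, hc, -, ⟨F, iF, iFt, hF, ⟨e⟩⟩, -⟩ := h
  obtain ⟨K⟩ := CfsgLib.Classical.Herm.exists_conj_of_card (F := F) (q := 2) (by rw [hF]; norm_num)
  haveI : IsSimpleGroup (PSU 6 F 2) := by
    obtain ⟨p, _⟩ := CharP.exists F
    obtain ⟨k, hp, -⟩ := FiniteField.card F p
    have := Fact.mk hp
    exact CfsgLib.Classical.Herm.isSimpleGroup K p (by norm_num) (by norm_num)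
  haveI : Nontrivial (PerpQuot D d) := e.toEquiv.nontrivial
  haveI : IsSimpleGroup (PerpQuot D d) :=
    IsSimpleGroup.isSimpleGroup_of_surjective e.symm.toMonoidHom e.symm.surjective
  have hne : ∃ x y : ↥(perpGroup D d), ¬ Commute x y := not_commutative_of_simple_quotient
  refine pCore_two_eq_bot hD hZ hd (pCore_two_eq_bot_of_simple ?_) hne
  by_contra! hcomm
  -- a commutative central quotient forces a nilpotent, hence abelian, perp group
  obtain ⟨x, y, hxy⟩ := hne
  have hcyc : IsCyclic (PerpQuot D d) :=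
    letI : CommGroup (PerpQuot D d) := { (inferInstance : Group (PerpQuot D d)) with mul_comm := fun a b => (hcomm a b).eq }
    IsSimpleGroup.isCyclic
  exact hxy (commutative_of_cyclic_center_quotient (QuotientGroup.mk' _) (le_of_eq (QuotientGroup.ker_mk' _)) x y)

end CfsgLib.ThreeTransp.Relations
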