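import Mathlib
import Cfsg.Agent.Lib.ThreeTransp.Main
import Cfsg.Agent.Lib.Transfer.Basic

/-!
A member `x` of a primitive class of 3-transpositions with two non-commuting neighbours having the
same neighbours inside the neighbourhood of `x`: then no three members commute pairwise, and every
member has exactly three neighbours.
-/

set_option autoImplicit false
set_option linter.style.haveILetI false

namespace CfsgLib.ThreeTransp.StarPairs

open Cfsg

variable {G : Type*} [Group G] {D : Set G}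

/-- The other members commuting with `x`. -/
def nbr (D : Set G) (x : G) : Set G := {y : G | y ∈ D ∧ y ≠ x ∧ Commute x y}

theorem nbr_symm {x y : G} (hx : x ∈ D) (hy : y ∈ nbr D x) : x ∈ nbr D y :=
  ⟨hx, hy.2.1.symm, hy.2.2.symm⟩

theorem nbr_conj (hc : IsConjClosed D) (g : G) {x y : G} (hy : y ∈ nbr D x) :
    g * y * g⁻¹ ∈ nbr D (g * x * g⁻¹) :=
  ⟨hc g y hy.1, fun h => hy.2.1 (mul_left_cancel (mul_right_cancel h)),
    commute_conj.mpr hy.2.2⟩

theorem nbr_image (hc : IsConjClosed D) (g x : G) :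
    nbr D (g * x * g⁻¹) = (fun y => g * y * g⁻¹) '' nbr D x := by
  ext y
  refine ⟨fun hy => ⟨g⁻¹ * y * g⁻¹⁻¹, ?_, by group⟩, ?_⟩
  · simpa [mul_assoc] using nbr_conj hc g⁻¹ hy
  · rintro ⟨z, hz, rfl⟩
    exact nbr_conj hc g hz

theorem nbr_flip (hS : IsThreeTranspositionSet D) (hc : IsConjClosed D) {p x y : G} (hp : p ∈ D)
    (hy : y ∈ nbr D x) : p * y * p ∈ nbr D (p * x * p) := by
  have := nbr_conj hc p hy
  rwa [conj_eq hS hp, conj_eq hS hp] at this

theorem nbr_flip_fix (hS : IsThreeTranspositionSet D) (hc : IsConjClosed D) {p x y : G}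
    (hp : p ∈ nbr D x) (hy : y ∈ nbr D x) : p * y * p ∈ nbr D x := by
  have := nbr_flip hS hc hp.1 hy
  rwa [← hp.2.2.eq, mul_assoc, mul_self_eq_one hS hp.1, mul_one] at this

theorem conj_injective (g : G) : Function.Injective (fun y : G => g * y * g⁻¹) :=
  fun p q e => by simpa using e

/-- Two non-commuting neighbours of `x` commuting with the same other neighbours of `x`. -/
structure Pair (D : Set G) (x a b : G) : Prop where
  left : a ∈ nbr D x
  right : b ∈ nbr D x
  ncomm : ¬ Commute a b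
  same : ∀ e ∈ nbr D x, e ≠ a → e ≠ b → (Commute a e ↔ Commute b e)

theorem Pair.conj (hc : IsConjClosed D) {x a b : G} (h : Pair D x a b) (g : G) :
    Pair D (g * x * g⁻¹) (g * a * g⁻¹) (g * b * g⁻¹) := by
  refine ⟨nbr_conj hc g h.left, nbr_conj hc g h.right, fun h' => h.ncomm (commute_conj.mp h'),
    fun e he hea heb => ?_⟩
  rw [nbr_image hc] at he
  obtain ⟨e, he, rfl⟩ := he
  rw [commute_conj, commute_conj]
  exact h.same e he (fun h' => hea (by rw [h'])) (fun h' => heb (by rw [h']))

/-- The string argument: a symmetric group of degree five produces a further common neighbour. -/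
theorem string_false (hS : IsThreeTranspositionSet D) (hc : IsConjClosed D) {x a b c z : G}
    (hx : x ∈ D) (h : Pair D x a b) (hcx : c ∈ nbr D x) (hca : c ≠ a) (hac : Commute a c)
    (hz : z ∈ D) (haz : Commute a z) (hxz : ¬ Commute x z) (hzc : ¬ Commute z c)
    (hzb : ¬ Commute z b) : False := by
  obtain ⟨haD, hax, cxa⟩ := h.left
  obtain ⟨hbD, hbx, cxb⟩ := h.right
  have hcb : c ≠ b := fun e => h.ncomm (e ▸ hac)
  have cbc : Commute b c := (h.same c hcx hca hcb).mp hac
  have hcw : Commute (z * x * z) (z * b * z) := (commute_conj_iff hS hz x b).mpr cxb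
  have hzz := mul_self_eq_one hS hz
  set w := z * (x * b) * z with hw
  have hxb2 : x * b * (x * b) = 1 := by
    calc x * b * (x * b) = x * (b * x) * b := by group
      _ = x * (x * b) * b := by rw [cxb.eq]
      _ = (x * x) * (b * b) := by group
      _ = 1 := by rw [mul_self_eq_one hS hx, mul_self_eq_one hS hbD, one_mul]
  have hww : w * w = 1 := by
    calc w * w = z * (x * b) * (z * z) * (x * b) * z := by rw [hw]; group
      _ = z * (x * b * (x * b)) * z := by rw [hzz]; group
      _ = 1 := by rw [hxb2, mul_one, hzz]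
  have hwinv : w⁻¹ = w := inv_eq_of_mul_eq_one_right hww
  -- conjugation by `w` interchanges `x` and `b`
  have hwx : w * x * w⁻¹ = b := by
    have e1 : z * x * z = x * z * x := braid hS hz hx fun e => hxz e.symm
    have e2 : z * b * z = b * z * b := braid hS hz hbD hzb
    rw [hwinv]
    calc w * x * w = z * x * b * (z * x * z) * (x * b) * z := by rw [hw]; group
      _ = z * x * b * (x * z * x) * (x * b) * z := by rw [e1]
      _ = z * x * (b * x) * z * (x * x) * b * z := by group
      _ = z * x * (x * b) * z * b * z := by rw [cxb.eq, mul_self_eq_one hS hx]; group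
      _ = z * (x * x) * b * (z * b * z) := by group
      _ = z * b * (b * z * b) := by rw [mul_self_eq_one hS hx, e2]; group
      _ = z * (b * b) * z * b := by group
      _ = b := by rw [mul_self_eq_one hS hbD, mul_one, hzz, one_mul]
  have hwb : w * b * w⁻¹ = x := by
    rw [← hwx, hwinv]
    calc w * (w * x * w) * w = (w * w) * x * (w * w) := by group
      _ = x := by rw [hww, one_mul, mul_one]
  -- the new common neighbour
  set e := w * c * w⁻¹ with he
  have heb : Commute b e := by
    rw [← hwx]; exact commute_conj.mpr hcx.2.2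
  have hex : Commute x e := by
    rw [← hwb]; exact commute_conj.mpr cbc
  have henx : e ≠ x := fun h' => hcb (conj_injective w (h'.trans hwb.symm))
  have henb : e ≠ b := fun h' => hcx.2.1 (conj_injective w (h'.trans hwx.symm))
  have hae : Commute a e := by
    by_cases hea : e = a
    · rw [hea]
    · exact (h.same e ⟨hc _ _ hcx.1, henx, hex⟩ hea henb).mpr heb
  -- transported back by `w`
  have h1 : Commute (w * a * w⁻¹) c := by
    have := (commute_conj (g := w)).mpr hae
    have e3 : w * e * w⁻¹ = c := by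
      rw [he, hwinv]
      calc w * (w * c * w) * w = (w * w) * c * (w * w) := by group
        _ = c := by rw [hww, one_mul, mul_one]
    rwa [e3] at this
  have h2 : w * a * w⁻¹ = (a * b * a) * z * (a * b * a) := by
    have haa := mul_self_eq_one hS haD
    have hcaz : a * z * a = z := conj_eq_of_commute hS haD haz
    have hzaz : z * a * z = a := conj_eq_of_commute hS hz haz.symm
    rw [hwinv]
    calc w * a * w = z * x * b * (z * a * z) * x * b * z := by rw [hw]; group
      _ = z * x * (b * (a * x)) * b * z := by rw [hzaz]; group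
      _ = z * x * (b * (x * a)) * b * z := by rw [cxa.symm.eq]
      _ = z * x * (b * x) * (a * b * z) := by group
      _ = z * x * (x * b) * (a * b * z) := by rw [cxb.eq]
      _ = z * (x * x) * (b * a * b) * z := by group
      _ = z * (a * b * a) * z := by
          rw [mul_self_eq_one hS hx, mul_one, braid hS hbD haD fun e => h.ncomm e.symm]
      _ = z * a * b * (a * z) := by group
      _ = (a * z) * b * (z * a) := by rw [show z * a = a * z from haz.symm.eq]
      _ = a * (z * b * z) * a := by group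
      _ = a * (b * z * b) * a := by rw [braid hS hz hbD hzb]
      _ = a * b * (a * z * a) * b * a := by rw [hcaz]; group
      _ = (a * b * a) * z * (a * b * a) := by group
  have hu : a * b * a ∈ D := conj_mem hS hc haD hbD
  have hcu : Commute (a * b * a) c := (hac.mul_left cbc).mul_left hac
  rw [h2, ← conj_eq_of_commute hS hu hcu, commute_conj_iff hS hu] at h1
  exact hzc h1

variable [Finite G]

/-- Every pair of commuting members has such a pair. -/
theorem exists_pair (hD : IsThreeTranspositionGroup D) (hprim : IsPrimitiveUnderConj D)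
    (hw : ∃ a ∈ D, ∃ b ∈ D, a ≠ b ∧ Commute a b) {x a b : G} (hx : x ∈ D) (h : Pair D x a b)
    {y c : G} (hy : y ∈ D) (hcy : c ∈ nbr D y) : ∃ d, Pair D y c d := by
  obtain ⟨g, rfl⟩ := hprim.1 x hx y hy
  have h' := h.conj hD.2.1 g
  obtain ⟨k, hk, hkc⟩ := transitive_commute hD hprim hw hy h'.left.1 hcy.1 h'.left.2.1 hcy.2.1
    h'.left.2.2 hcy.2.2
  have h'' := h'.conj hD.2.1 k
  have hky : k * (g * x * g⁻¹) * k⁻¹ = g * x * g⁻¹ := by
    have hle : Subgroup.closure {z : G | z ∈ D ∧ z ≠ g * x * g⁻¹ ∧ Commute (g * x * g⁻¹) z} ≤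
        Subgroup.centralizer ({g * x * g⁻¹} : Set G) :=
      (Subgroup.closure_le _).mpr fun z hz =>
        Subgroup.mem_centralizer_singleton_iff.mpr hz.2.2.symm.eq
    rw [Subgroup.mem_centralizer_singleton_iff.mp (hle hk), mul_inv_cancel_right]
  rw [hky, hkc] at h''
  exact ⟨_, h''⟩

/-- The common neighbours of two commuting members. -/
def common (D : Set G) (x a : G) : Set G := {c | c ∈ nbr D x ∧ c ∈ nbr D a}

theorem common_ncard (hD : IsThreeTranspositionGroup D) (hprim : IsPrimitiveUnderConj D)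
    (hw : ∃ a ∈ D, ∃ b ∈ D, a ≠ b ∧ Commute a b) {x a y c : G} (hx : x ∈ D) (ha : a ∈ nbr D x)
    (hy : y ∈ D) (hcy : c ∈ nbr D y) : (common D x a).ncard = (common D y c).ncard := by
  have him : ∀ (g p q : G), common D (g * p * g⁻¹) (g * q * g⁻¹) =
      (fun z => g * z * g⁻¹) '' common D p q := by
    intro g p q
    show nbr D _ ∩ nbr D _ = _ '' (nbr D p ∩ nbr D q)
    rw [nbr_image hD.2.1, nbr_image hD.2.1, Set.image_inter (conj_injective g)]
  obtain ⟨g, rfl⟩ := hprim.1 x hx y hy
  have ha' := nbr_conj hD.2.1 g ha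
  obtain ⟨k, hk, rfl⟩ := transitive_commute hD hprim hw hy ha'.1 hcy.1 ha'.2.1 hcy.2.1
    ha'.2.2 hcy.2.2
  have hle : Subgroup.closure {z : G | z ∈ D ∧ z ≠ g * x * g⁻¹ ∧ Commute (g * x * g⁻¹) z} ≤
      Subgroup.centralizer ({g * x * g⁻¹} : Set G) :=
    (Subgroup.closure_le _).mpr fun z hz =>
      Subgroup.mem_centralizer_singleton_iff.mpr hz.2.2.symm.eq
  conv_rhs => rw [← show k * (g * x * g⁻¹) * k⁻¹ = g * x * g⁻¹ by
    rw [Subgroup.mem_centralizer_singleton_iff.mp (hle hk), mul_inv_cancel_right]]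
  rw [him, him, Set.ncard_image_of_injective _ (conj_injective _),
    Set.ncard_image_of_injective _ (conj_injective _)]

theorem nbr_ncard (hD : IsThreeTranspositionGroup D) (hprim : IsPrimitiveUnderConj D) {x y : G}
    (hx : x ∈ D) (hy : y ∈ D) : (nbr D x).ncard = (nbr D y).ncard := by
  obtain ⟨g, rfl⟩ := hprim.1 x hx y hy
  rw [nbr_image hD.2.1, Set.ncard_image_of_injective _ (conj_injective g)]

/-- Two distinct members do not have the same neighbours. -/
theorem eq_of_starEq (hD : IsThreeTranspositionGroup D) (hprim : IsPrimitiveUnderConj D)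
    (hw : ∃ a ∈ D, ∃ b ∈ D, a ≠ b ∧ Commute a b) {a b : G} (ha : a ∈ D) (hb : b ∈ D)
    (h : StarEq D a b) : a = b := by
  rcases eq_or_full_of_primitive hD.2.1 hprim (starEq_isInvariantEquiv hD.2.1) ha with h' | h'
  · exact (h' b hb h).symm
  · exfalso
    obtain ⟨p, hp, q, hq, hpq, hcomm⟩ := hw
    have hR := starEq_isInvariantEquiv (D := D) hD.2.1
    exact not_commute_of_starEq hD.1 hq hpq (hR.trans (hR.symm (h' p hp)) (h' q hq)) hcomm

omit [Finite G] in
theorem starEq_of_nbr {a b : G} (h : nbr D a = nbr D b) : StarEq D a b := by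
  intro y hy
  have := Set.ext_iff.mp h y
  exact ⟨fun h1 => (this.mp ⟨hy, h1⟩).2, fun h1 => (this.mpr ⟨hy, h1⟩).2⟩

/-- Two members of the neighbourhood of `x` have a common non-neighbour in it. -/
theorem exists_common_not_commute (hD : IsThreeTranspositionGroup D) (hprim : IsPrimitiveUnderConj D)
    (hw : ∃ a ∈ D, ∃ b ∈ D, a ≠ b ∧ Commute a b) {x a c : G} (hx : x ∈ D) (ha : a ∈ nbr D x)
    (hc : c ∈ nbr D x) (hca : c ≠ a) (hac : Commute a c) :
    ∃ d ∈ nbr D x, ¬ Commute d a ∧ ¬ Commute d c := by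
  obtain ⟨hS, hcl, -⟩ := id hD
  set R : G → Prop := fun c => c ∈ nbr D x ∧
    (c = a ∨ ¬ Commute a c ∨ ∃ d ∈ nbr D x, ¬ Commute d a ∧ ¬ Commute d c)
  have step : ∀ g ∈ nbr D x, ∀ c, R c → R (g * c * g) := by
    intro g hg c hRc
    obtain ⟨hc, hR⟩ := hRc
    refine ⟨nbr_flip_fix hS hcl hg hc, ?_⟩
    by_cases hgc : Commute g c
    · rw [conj_eq_of_commute hS hg.1 hgc]; exact hR
    -- `g * c * g` does not commute with `g`
    have hgg : ¬ Commute g (g * c * g) := fun h => hgc (by
      have := (commute_conj_iff hS hg.1 g (g * c * g)).mpr h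
      rwa [mul_self_eq_one hS hg.1, one_mul, conj_conj hS hg.1] at this)
    by_cases hga : Commute g a
    · have hfix : g * a * g = a := conj_eq_of_commute hS hg.1 hga
      rcases hR with rfl | hR | ⟨d, hd, hda, hdc⟩
      · exact absurd hga hgc
      · refine Or.inr (Or.inl fun h => hR ?_)
        rwa [← hfix, commute_conj_iff hS hg.1] at h
      · refine Or.inr (Or.inr ⟨g * d * g, nbr_flip_fix hS hcl hg hd, fun h => hda ?_,
          fun h => hdc ?_⟩)
        · rwa [← hfix, commute_conj_iff hS hg.1] at h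
        · rwa [commute_conj_iff hS hg.1] at h
    · exact Or.inr (Or.inr ⟨g, hg, hga, hgg⟩)
  obtain ⟨g, hg, rfl⟩ := transitive_commute hD hprim hw hx ha.1 hc.1 ha.2.1 hc.2.1 ha.2.2 hc.2.2
  have key : ∀ u, R u → R (g * u * g⁻¹) := by
    clear hc hca hac
    induction hg using Subgroup.closure_induction'' with
    | mem p hp => intro u hu; rw [conj_eq hS hp.1]; exact step p hp u hu
    | inv_mem p hp => intro u hu; rw [inv_eq_self hS hp.1, conj_eq hS hp.1]; exact step p hp u hu
    | one => intro u hu; simpa using hu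
    | mul p q _ _ h1 h2 => intro u hu; simpa [mul_assoc] using h1 _ (h2 u hu)
  rcases (key a ⟨ha, Or.inl rfl⟩).2 with h | h | h
  exacts [absurd h hca, absurd hac h, h]

/-- No three members commute pairwise. -/
theorem no_triangle (hD : IsThreeTranspositionGroup D) (hprim : IsPrimitiveUnderConj D)
    (hw : ∃ a ∈ D, ∃ b ∈ D, a ≠ b ∧ Commute a b) {x₀ a₀ b₀ : G} (hx₀ : x₀ ∈ D)
    (h₀ : Pair D x₀ a₀ b₀) {x a c : G} (hx : x ∈ D) (ha : a ∈ nbr D x) (hc : c ∈ nbr D x)
    (hac : Commute a c) : a = c := by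
  by_contra hne
  obtain ⟨hS, hcl, -⟩ := id hD
  obtain ⟨b, h⟩ := exists_pair hD hprim hw hx₀ h₀ hx ha
  have hab : a ≠ b := fun e => h.ncomm (e ▸ Commute.refl a)
  by_cases hall : ∀ z ∈ nbr D a, Commute z b
  · -- the neighbours of `a` and of `b` coincide
    have hsub : nbr D a ⊆ nbr D b := fun z hz =>
      ⟨hz.1, fun e => h.ncomm (e ▸ hz.2.2), (hall z hz).symm⟩
    exact hab (eq_of_starEq hD hprim hw h.left.1 h.right.1 (starEq_of_nbr
      (Set.eq_of_subset_of_ncard_le hsub (nbr_ncard hD hprim h.right.1 h.left.1).le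
        (Set.toFinite _))))
  simp only [not_forall] at hall
  obtain ⟨z, hz, hzb⟩ := hall
  have hxz : ¬ Commute x z := by
    intro hxz
    rcases eq_or_ne z x with rfl | hzx
    · exact hzb h.right.2.2
    · exact hzb ((h.same z ⟨hz.1, hzx, hxz⟩ hz.2.1
        (fun e => h.ncomm (e ▸ hz.2.2))).mp hz.2.2).symm
  -- so `z` commutes with all common neighbours of `a` and `x`
  have hzall : ∀ e ∈ nbr D x, e ≠ a → Commute a e → Commute z e := fun e he hea hae =>
    by_contra fun hze => string_false hS hcl hx h he hea hae hz.1 hz.2.2 hxz hze hzb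
  have hsub : common D a x ⊆ common D a z := fun e he =>
    ⟨he.1, he.2.1, fun e' => hxz (e' ▸ he.2.2.2), hzall e he.2 he.1.2.1 he.1.2.2⟩
  have heq : common D a x = common D a z := Set.eq_of_subset_of_ncard_le hsub
    (common_ncard hD hprim hw ha.1 hz ha.1 (nbr_symm hx ha)).le (Set.toFinite _)
  have h' : Pair D a x z := by
    refine ⟨nbr_symm hx ha, hz, hxz, fun e he hex hez => ⟨fun h1 => ?_, fun h1 => ?_⟩⟩
    · exact (Set.ext_iff.mp heq e).mp ⟨he, he.1, hex, h1⟩ |>.2.2.2
    · exact ((Set.ext_iff.mp heq e).mpr ⟨he, he.1, hez, h1⟩).2.2.2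
  obtain ⟨d, hd, hda, hdc⟩ := exists_common_not_commute hD hprim hw hx ha hc (Ne.symm hne) hac
  have hcb : c ≠ b := fun e => h.ncomm (e ▸ hac)
  have cbc : Commute b c := (h.same c hc (Ne.symm hne) hcb).mp hac
  have hcan : c ∈ nbr D a := ⟨hc.1, Ne.symm hne, hac⟩
  have hda' : d ≠ a := fun e => hda (e ▸ Commute.refl d)
  have hdb' : d ≠ b := fun e => hdc (e ▸ cbc)
  have hdb : ¬ Commute d b := fun h1 => hda ((h.same d hd hda' hdb').mpr h1.symm).symm
  have hdz : Commute d z := by_contra fun h1 =>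
    string_false hS hcl ha.1 h' hcan hc.2.1 hc.2.2 hd.1 hd.2.2
      (fun h2 => hda h2.symm) hdc h1
  -- the image of `d` under `b`
  set e := b * d * b with he
  have hen : e ∈ nbr D x := nbr_flip_fix hS hcl h.right hd
  have hec : ¬ Commute e c := fun h1 => hdc (by
    rwa [he, ← conj_eq_of_commute hS h.right.1 cbc, commute_conj_iff hS h.right.1] at h1)
  have hea : ¬ Commute e a := by
    intro h1
    have h2 : Commute d (a * b * a) := by
      have h3 := (commute_conj_iff hS h.right.1 e a).mpr h1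
      rwa [he, conj_conj hS h.right.1, braid hS h.right.1 h.left.1 fun e' => h.ncomm e'.symm] at h3
    have h3 : Commute (a * d * a) b := by
      have h3 := (commute_conj_iff hS h.left.1 d (a * b * a)).mpr h2
      rwa [conj_conj hS h.left.1] at h3
    have hn : a * d * a ∈ nbr D x := nbr_flip_fix hS hcl h.left hd
    have hna : a * d * a ≠ a := fun e' => hda' (by
      rw [← conj_conj hS h.left.1 d, e', mul_self_eq_one hS h.left.1, one_mul])
    have hnb : a * d * a ≠ b := by
      intro e'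
      refine hdc ?_
      rw [← conj_conj hS h.left.1 d, e']
      exact (hac.mul_left cbc).mul_left hac
    have h4 := (h.same _ hn hna hnb).mpr h3.symm
    have h5 := (commute_conj_iff hS h.left.1 _ _).mpr h4
    rw [mul_self_eq_one hS h.left.1, one_mul, conj_conj hS h.left.1] at h5
    exact hda h5.symm
  have hez : Commute e z := by_contra fun h1 =>
    string_false hS hcl ha.1 h' hcan hc.2.1 hc.2.2 hen.1 hen.2.2
      (fun h2 => hea h2.symm) hec h1
  have h6 := (commute_conj_iff hS h.right.1 e z).mpr hez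
  rw [he, conj_conj hS h.right.1, braid hS h.right.1 hz.1 fun e' => hzb e'.symm,
    ← conj_eq_of_commute hS hz.1 hdz.symm, commute_conj_iff hS hz.1] at h6
  exact hdb h6

/-! ### Counting when no three members commute pairwise -/

omit [Finite G] in
theorem closure_conj (hS : IsThreeTranspositionSet D) {S : Set G} (hSD : S ⊆ D)
    (hcl : ∀ a ∈ S, ∀ b ∈ S, a * b * a ∈ S) {g : G} (hg : g ∈ Subgroup.closure S) :
    ∀ y ∈ S, g * y * g⁻¹ ∈ S := by
  induction hg using Subgroup.closure_induction'' with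
  | mem p hp => intro y hy; rw [conj_eq hS (hSD hp)]; exact hcl p hp y hy
  | inv_mem p hp => intro y hy; rw [inv_eq_self hS (hSD hp), conj_eq hS (hSD hp)]; exact hcl p hp y hy
  | one => intro y hy; simpa using hy
  | mul p q _ _ h1 h2 => intro y hy; simpa [mul_assoc] using h1 _ (h2 y hy)

/-- A closed set of pairwise non-commuting members generates a group with a normal 3-subgroup
containing all products of two of them. -/
theorem exists_three_subgroup (hS : IsThreeTranspositionSet D) {S : Set G} (hSD : S ⊆ D)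
    (hcl : ∀ a ∈ S, ∀ b ∈ S, a * b * a ∈ S) (hnc : ∀ a ∈ S, ∀ b ∈ S, Commute a b → a = b) :
    ∃ O : Subgroup G, IsPGroup 3 O ∧ O ≤ Subgroup.closure S ∧
      Subgroup.closure S ≤ Subgroup.normalizer (O : Set G) ∧ ∀ a ∈ S, ∀ b ∈ S, a * b ∈ O := by
  haveI : Fact (Nat.Prime 3) := ⟨Nat.prime_three⟩
  set E := Subgroup.closure S
  set T : Set E := {h : E | (h : G) ∈ S}
  have hS' : IsThreeTranspositionSet S :=
    ⟨fun d hd => hS.1 d (hSD hd), fun d hd e he => hS.2 d (hSD hd) e (hSD he)⟩
  have hTc : IsConjClosed T := fun g d hd => by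
    simpa [T] using closure_conj hS hSD hcl g.2 (d : G) hd
  have hTgen : Subgroup.closure T = ⊤ := Subgroup.closure_closure_coe_preimage
  have hTw : ∀ a ∈ T, ∀ b ∈ T, Commute a b → a = b := fun a ha b hb h =>
    Subtype.ext (hnc _ ha _ hb (h.map E.subtype))
  refine ⟨(Cfsg.pCore 3 E).map E.subtype, (Fitting.pCore_isPGroup 3).map _,
    Subgroup.map_subtype_le _, ?_, fun a ha b hb => ?_⟩
  · intro g hg
    haveI := Fitting.pCore_normal (G := E) 3
    refine Subgroup.mem_normalizer_fintype fun y hy => ?_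
    obtain ⟨z, hz, rfl⟩ := hy
    exact ⟨⟨g, hg⟩ * z * ⟨g, hg⟩⁻¹, Subgroup.Normal.conj_mem inferInstance z hz _, rfl⟩
  · exact ⟨_, mul_mem_pCore_three (restrict_set hS' E) hTc hTgen hTw
      (a := ⟨a, Subgroup.subset_closure ha⟩) (b := ⟨b, Subgroup.subset_closure hb⟩) ha hb, rfl⟩

/-- The size of an orbit under conjugation divides the order of the acting subgroup. -/
theorem image_conj_ncard_dvd (M : Subgroup G) (y : G) :
    ((fun g => g * y * g⁻¹) '' (M : Set G)).ncard ∣ Nat.card M := by
  classical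
  set C := (Subgroup.centralizer ({y} : Set G)).subgroupOf M
  let f : M ⧸ C → G := fun q => Quotient.liftOn' q (fun m => (m : G) * y * (m : G)⁻¹)
    (fun m n hmn => by
      rw [QuotientGroup.leftRel_apply, Subgroup.mem_subgroupOf,
        Subgroup.mem_centralizer_singleton_iff] at hmn
      simp only [Subgroup.coe_mul, Subgroup.coe_inv] at hmn
      calc (m : G) * y * (m : G)⁻¹ = (m : G) * (y * ((m : G)⁻¹ * n)) * (n : G)⁻¹ := by group
        _ = (m : G) * (((m : G)⁻¹ * n) * y) * (n : G)⁻¹ := by rw [hmn]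
        _ = (n : G) * y * (n : G)⁻¹ := by group)
  have hf : Function.Injective f := by
    intro a b hab
    induction a using QuotientGroup.induction_on with | _ m => ?_
    induction b using QuotientGroup.induction_on with | _ n => ?_
    rw [QuotientGroup.eq, Subgroup.mem_subgroupOf, Subgroup.mem_centralizer_singleton_iff]
    have h1 : (m : G) * y * (m : G)⁻¹ = (n : G) * y * (n : G)⁻¹ := hab
    simp only [Subgroup.coe_mul, Subgroup.coe_inv]
    calc (m : G)⁻¹ * n * y = (m : G)⁻¹ * ((n : G) * y * (n : G)⁻¹) * n := by group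
      _ = (m : G)⁻¹ * ((m : G) * y * (m : G)⁻¹) * n := by rw [h1]
      _ = y * ((m : G)⁻¹ * n) := by group
  have himg : (fun g => g * y * g⁻¹) '' (M : Set G) = Set.range f := by
    ext z
    constructor
    · rintro ⟨g, hg, rfl⟩
      exact ⟨QuotientGroup.mk ⟨g, hg⟩, rfl⟩
    · rintro ⟨q, rfl⟩
      induction q using QuotientGroup.induction_on with | _ m => ?_
      exact ⟨m, m.2, rfl⟩
  rw [himg, Set.ncard_range_of_injective hf, ← Subgroup.index_eq_card]
  exact C.index_dvd_card

theorem ncard_pow_three (hS : IsThreeTranspositionSet D) {S : Set G} (hSD : S ⊆ D) (hne : S.Nonempty)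
    (hcl : ∀ a ∈ S, ∀ b ∈ S, a * b * a ∈ S) (hnc : ∀ a ∈ S, ∀ b ∈ S, Commute a b → a = b) :
    ∃ j, S.ncard = 3 ^ j := by
  haveI : Fact (Nat.Prime 3) := ⟨Nat.prime_three⟩
  obtain ⟨O, hO, hOE, -, hprod⟩ := exists_three_subgroup hS hSD hcl hnc
  obtain ⟨d, hd⟩ := hne
  have himg : (fun g => g * d * g⁻¹) '' (O : Set G) = S := by
    refine Set.Subset.antisymm ?_ fun s hs => ?_
    · rintro _ ⟨g, hg, rfl⟩
      exact closure_conj hS hSD hcl (hOE hg) d hd
    · by_cases h : Commute d s
      · exact ⟨1, O.one_mem, by simpa using hnc d hd s hs h⟩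
      · exact ⟨d * s, hprod d hd s hs, (eq_conj_of_not_commute hS (hSD hd) (hSD hs) h).symm⟩
  obtain ⟨n, hn⟩ := IsPGroup.iff_card.mp hO
  have h := image_conj_ncard_dvd O d
  rw [himg, hn] at h
  obtain ⟨j, -, hj⟩ := (Nat.dvd_prime_pow Nat.prime_three).mp h
  exact ⟨j, hj⟩

/-- The subgroup generated by the perp of a member without commuting neighbours has order dividing
four times a power of three. -/
theorem perp_card_dvd (hD : IsThreeTranspositionGroup D) {x a : G} (hx : x ∈ D) (ha : a ∈ nbr D x)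
    (hnc : ∀ p ∈ nbr D x, ∀ q ∈ nbr D x, Commute p q → p = q) :
    ∃ m, Nat.card (Subgroup.closure {y : G | y ∈ D ∧ Commute x y}) ∣ 4 * 3 ^ m := by
  haveI : Fact (Nat.Prime 3) := ⟨Nat.prime_three⟩
  obtain ⟨hS, hcl, -⟩ := id hD
  set M := Subgroup.closure {y : G | y ∈ D ∧ Commute x y}
  obtain ⟨O, hO, hOE, hEO, hprod⟩ := exists_three_subgroup hS (S := nbr D x) (fun p hp => hp.1)
    (fun p hp q hq => nbr_flip_fix hS hcl hp hq) hnc
  have hxE : x ∈ Subgroup.centralizer (Subgroup.closure (nbr D x) : Set G) := by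
    rw [Subgroup.centralizer_closure]
    exact Subgroup.mem_centralizer_iff.mpr fun y hy => hy.2.2.symm.eq
  have hMN : M ≤ Subgroup.normalizer (O : Set G) := by
    refine (Subgroup.closure_le _).mpr fun y hy => ?_
    by_cases hyx : y = x
    · subst hyx
      refine Subgroup.mem_normalizer_fintype fun z hz => ?_
      rw [← Subgroup.mem_centralizer_iff.mp hxE z (hOE hz), mul_inv_cancel_right]
      exact hz
    · exact hEO (Subgroup.subset_closure ⟨hy.1, hyx, hy.2⟩)
  haveI : (O.subgroupOf M).Normal := Subgroup.normal_subgroupOf_of_le_normalizer hMN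
  set π := QuotientGroup.mk' (O.subgroupOf M)
  set xm : M := ⟨x, Subgroup.subset_closure ⟨hx, Commute.refl x⟩⟩
  set am : M := ⟨a, Subgroup.subset_closure ⟨ha.1, ha.2.2⟩⟩
  have hxa : Commute (π xm) (π am) :=
    (show Commute xm am from Subtype.ext ha.2.2.eq).map π
  set φ := MonoidHom.noncommCoprod (Subgroup.zpowers (π xm)).subtype
    (Subgroup.zpowers (π am)).subtype (by
      rintro ⟨u, hu⟩ ⟨v, hv⟩
      obtain ⟨i, rfl⟩ := Subgroup.mem_zpowers_iff.mp hu
      obtain ⟨j, rfl⟩ := Subgroup.mem_zpowers_iff.mp hv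
      exact hxa.zpow_zpow i j)
  have hsurj : Function.Surjective φ := by
    rw [← MonoidHom.range_eq_top, eq_top_iff]
    intro q _
    obtain ⟨g, rfl⟩ := QuotientGroup.mk'_surjective (O.subgroupOf M) q
    suffices h : (⊤ : Subgroup M) ≤ φ.range.comap π from h (Subgroup.mem_top g)
    rw [← Subgroup.closure_closure_coe_preimage (k := {y : G | y ∈ D ∧ Commute x y}),
      Subgroup.closure_le]
    intro p hp
    show π p ∈ φ.range
    by_cases hpx : (p : G) = x
    · rw [show p = xm from Subtype.ext hpx]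
      exact ⟨(⟨_, Subgroup.mem_zpowers _⟩, 1), by simp [φ, MonoidHom.noncommCoprod_apply]⟩
    · have h1 : π am = π p := by
        refine QuotientGroup.eq.mpr (Subgroup.mem_subgroupOf.mpr ?_)
        show a⁻¹ * (p : G) ∈ O
        rw [inv_eq_self hS ha.1]
        exact hprod a ha _ ⟨hp.1, hpx, hp.2⟩
      rw [← h1]
      exact ⟨(1, ⟨_, Subgroup.mem_zpowers _⟩), by simp [φ, MonoidHom.noncommCoprod_apply]⟩
  have h2 : ∀ p : M, (p : G) * p = 1 → orderOf (π p) ∣ 2 := fun p hp =>
    orderOf_dvd_of_pow_eq_one (by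
      rw [← map_pow, pow_two, show p * p = 1 from Subtype.ext hp, map_one])
  have hq : Nat.card (M ⧸ O.subgroupOf M) ∣ 4 := by
    refine (Subgroup.card_dvd_of_surjective φ hsurj).trans ?_
    rw [Nat.card_prod, Nat.card_zpowers, Nat.card_zpowers]
    exact Nat.mul_dvd_mul (h2 xm (mul_self_eq_one hS hx)) (h2 am (mul_self_eq_one hS ha.1))
  obtain ⟨m, hm⟩ := IsPGroup.iff_card.mp hO
  refine ⟨m, ?_⟩
  rw [← (O.subgroupOf M).card_mul_index, mul_comm 4]
  refine Nat.mul_dvd_mul ?_ hq
  rw [← hm]
  exact Subgroup.card_comap_dvd_of_injective O M.subtype M.subtype_injective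

/-- Without three pairwise commuting members there are exactly three neighbours. -/
theorem three_neighbours (hD : IsThreeTranspositionGroup D) (hprim : IsPrimitiveUnderConj D)
    (hw : ∃ a ∈ D, ∃ b ∈ D, a ≠ b ∧ Commute a b) {x a b : G} (hx : x ∈ D) (ha : a ∈ nbr D x)
    (hb : b ∈ nbr D x) (hab : a ≠ b)
    (hno : ∀ x ∈ D, ∀ p ∈ nbr D x, ∀ q ∈ nbr D x, Commute p q → p = q) :
    (nbr D x).ncard = 3 := by
  classical
  obtain ⟨hS, hcl, hgen⟩ := id hD
  obtain ⟨hclass, hD2⟩ := class_of_primitive hD hprim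
  obtain ⟨j, hj⟩ := ncard_pow_three hS (S := nbr D x) (fun p hp => hp.1) ⟨a, ha⟩
    (fun p hp q hq => nbr_flip_fix hS hcl hp hq) (hno x hx)
  set A : Set G := {z | z ∈ D ∧ ¬ Commute x z}
  obtain ⟨y, hy, hxy⟩ := exists_not_commute hclass hD2 hx
  have hfix : ∀ g ∈ Subgroup.closure {z : G | z ∈ D ∧ Commute x z}, g * x * g⁻¹ = x := by
    intro g hg
    rw [(perp_closure_conj hS hcl hg hx).1.eq, mul_inv_cancel_right]
  have hA : (fun g => g * y * g⁻¹) '' (Subgroup.closure {z : G | z ∈ D ∧ Commute x z} : Set G) = A := by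
    refine Set.Subset.antisymm ?_ fun z hz => ?_
    · rintro _ ⟨g, hg, rfl⟩
      refine ⟨hcl g y hy, fun h => hxy ?_⟩
      rwa [← hfix g hg, commute_conj] at h
    · obtain ⟨g, hg, hgz⟩ := transitive_not_commute hD hprim hw hx hy hz.1 hxy hz.2
      exact ⟨g, hg, hgz⟩
  obtain ⟨m, hm⟩ := perp_card_dvd hD hx ha (hno x hx)
  have hN : A.ncard ∣ 4 * 3 ^ m := hA ▸ (image_conj_ncard_dvd _ y).trans hm
  -- the common neighbours of `x` and a member not commuting with it
  have hμ : ∀ z ∈ A, {p | p ∈ nbr D x ∧ p ∈ nbr D z}.ncard =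
      {p | p ∈ nbr D x ∧ p ∈ nbr D y}.ncard := by
    intro z hz
    rw [← hA] at hz
    obtain ⟨g, hg, rfl⟩ := hz
    show (nbr D x ∩ nbr D (g * y * g⁻¹)).ncard = (nbr D x ∩ nbr D y).ncard
    nth_rw 1 [← hfix g hg]
    rw [nbr_image hcl, nbr_image hcl, ← Set.image_inter (conj_injective g),
      Set.ncard_image_of_injective _ (conj_injective g)]
  have hcount : A.ncard * {p | p ∈ nbr D x ∧ p ∈ nbr D y}.ncard =
      (nbr D x).ncard * ((nbr D x).ncard - 1) := by
    set sA := (Set.toFinite A).toFinset with hsA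
    set sK := (Set.toFinite (nbr D x)).toFinset with hsK
    rw [Set.ncard_eq_toFinset_card A, Set.ncard_eq_toFinset_card (nbr D x), ← hsA, ← hsK]
    refine Finset.card_mul_eq_card_mul (fun z p => p ∈ nbr D z) (s := sA) (t := sK)
      (fun z hz => ?_) (fun p hp => ?_)
    · rw [Set.Finite.mem_toFinset] at hz
      rw [← hμ z hz, ← Set.ncard_coe_finset]
      congr 1
      ext p
      simp [Finset.bipartiteAbove, sK]
    · rw [Set.Finite.mem_toFinset] at hp
      have hk : (nbr D p).ncard = sK.card := by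
        rw [nbr_ncard hD hprim hp.1 hx, Set.ncard_eq_toFinset_card]
      have hxp := nbr_symm hx hp
      rw [← hk, ← Set.ncard_diff_singleton_of_mem hxp, ← Set.ncard_coe_finset]
      congr 1
      ext z
      simp only [Finset.bipartiteBelow, Finset.coe_filter, sA, Set.Finite.mem_toFinset,
        Set.mem_setOf_eq, Set.mem_diff, Set.mem_singleton_iff]
      constructor
      · rintro ⟨hz, hpz⟩
        exact ⟨nbr_symm hz.1 hpz, fun h => hz.2 (h ▸ Commute.refl x)⟩
      · rintro ⟨hz, hzx⟩
        exact ⟨⟨hz.1, fun h => hzx (hno p hp.1 x hxp z hz h).symm⟩, nbr_symm hp.1 hz⟩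
  have hμne : {p | p ∈ nbr D x ∧ p ∈ nbr D y}.Nonempty := by
    by_contra h
    rw [Set.not_nonempty_iff_eq_empty] at h
    rw [h, Set.ncard_empty, mul_zero] at hcount
    have h2 : 2 ≤ (nbr D x).ncard :=
      (Set.one_lt_ncard_iff (Set.toFinite _)).mpr ⟨a, b, ha, hb, hab⟩
    rcases Nat.mul_eq_zero.mp hcount.symm with h' | h' <;> omega
  obtain ⟨i, hi⟩ := ncard_pow_three hS (S := {p | p ∈ nbr D x ∧ p ∈ nbr D y})
    (fun p hp => hp.1.1) hμne
    (fun p hp q hq => ⟨nbr_flip_fix hS hcl hp.1 hq.1, nbr_flip_fix hS hcl hp.2 hq.2⟩)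
    (fun p hp q hq => hno x hx p hp.1 q hq.1)
  rw [hj, hi] at hcount
  have hj1 : 1 ≤ j := by
    rcases Nat.eq_zero_or_pos j with rfl | h
    · have : 2 ≤ (nbr D x).ncard := (Set.one_lt_ncard_iff (Set.toFinite _)).mpr ⟨a, b, ha, hb, hab⟩
      omega
    · exact h
  have hdvd : 3 ^ j - 1 ∣ 4 := by
    have h1 : 3 ^ j - 1 ∣ 4 * 3 ^ (m + i) := by
      rw [pow_add, ← mul_assoc]
      exact (Dvd.intro_left _ hcount.symm).trans (Nat.mul_dvd_mul_right hN _)
    refine (Nat.Coprime.pow_right _ ?_).dvd_of_dvd_mul_right h1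
    refine (Nat.prime_three.coprime_iff_not_dvd.mpr fun h => ?_).symm
    have h3 : 3 ∣ 3 ^ j := dvd_pow_self 3 (by omega)
    have h4 : 1 ≤ 3 ^ j := Nat.one_le_pow _ _ (by norm_num)
    omega
  have hle := Nat.le_of_dvd (by norm_num) hdvd
  have : j < 2 := by
    by_contra! h
    have := Nat.pow_le_pow_right (by norm_num : 1 ≤ 3) h
    omega
  rw [hj, show j = 1 by omega, pow_one]

end CfsgLib.ThreeTransp.StarPairs
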