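import Mathlib
import Cfsg.Agent.Lib.ThreeTransp.Basic
import Cfsg.Agent.Lib.ThreeTransp.StringHom

/-!
Fischer spaces: the involutions attached to their points, and the Fischer space of a set of
3-transpositions.
-/

set_option autoImplicit false

namespace CfsgLib.ThreeTransp

open Cfsg Cfsg.LineSystem

variable {X : Type*} {L : Set (Set X)}

theorem exists_third (h3 : ∀ l ∈ L, l.ncard = 3) {l : Set X} (hl : l ∈ L) {x y : X} (hx : x ∈ l)
    (hy : y ∈ l) (hxy : x ≠ y) : ∃ z, l = {x, y, z} ∧ z ≠ x ∧ z ≠ y := by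
  obtain ⟨a, b, c, hab, hac, hbc, rfl⟩ := Set.ncard_eq_three.mp (h3 l hl)
  rcases hx with rfl | rfl | rfl <;> rcases hy with rfl | rfl | rfl
  all_goals first
    | exact absurd rfl hxy
    | exact ⟨c, rfl, hac.symm, hbc.symm⟩
    | exact ⟨b, by ext; simp; tauto, hab.symm, hbc⟩
    | exact ⟨c, by ext; simp; tauto, hbc.symm, hac.symm⟩
    | exact ⟨a, by ext; simp; tauto, hab, hac⟩
    | exact ⟨b, by ext; simp; tauto, hbc, hab.symm⟩
    | exact ⟨a, by ext; simp; tauto, hac, hab⟩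

theorem lineMap_eq (hP : IsPartialLinear L) {x y z : X} (hl : ({x, y, z} : Set X) ∈ L)
    (hxy : x ≠ y) (hzx : z ≠ x) (hzy : z ≠ y) : lineMap L x y = z := by
  have h : ∃ w : X, w ≠ x ∧ w ≠ y ∧ x ≠ y ∧ ({x, y, w} : Set X) ∈ L := ⟨z, hzx, hzy, hxy, hl⟩
  have hdef : lineMap L x y = h.choose := by
    simp only [lineMap]
    rw [dif_pos h]
  rw [hdef]
  obtain ⟨h1, h2, -, h4⟩ := h.choose_spec
  have := hP _ h4 _ hl x y hxy (by simp) (by simp) (by simp) (by simp)
  have hmem : h.choose ∈ ({x, y, z} : Set X) := this ▸ (by simp)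
  rcases hmem with e | e | e
  exacts [absurd e h1, absurd e h2, e]

theorem lineMap_self (x : X) : lineMap L x x = x := by
  simp only [lineMap]
  rw [dif_neg]
  rintro ⟨z, -, -, h, -⟩
  exact h rfl

theorem lineMap_of_not_collinear {x y : X} (h : ¬ Collinear L x y) : lineMap L x y = y := by
  simp only [lineMap]
  rw [dif_neg]
  rintro ⟨z, -, -, hxy, hl⟩
  exact h ⟨hxy, _, hl, by simp, by simp⟩

theorem lineMap_lineMap (hP : IsPartialLinear L) (h3 : ∀ l ∈ L, l.ncard = 3) (x y : X) :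
    lineMap L x (lineMap L x y) = y := by
  by_cases h : Collinear L x y
  · obtain ⟨hxy, l, hl, hx, hy⟩ := h
    obtain ⟨z, rfl, hzx, hzy⟩ := exists_third h3 hl hx hy hxy
    rw [lineMap_eq hP hl hxy hzx hzy]
    refine lineMap_eq hP ?_ hzx.symm hxy.symm hzy.symm
    rwa [show ({x, z, y} : Set X) = {x, y, z} by ext; simp; tauto]
  · rw [lineMap_of_not_collinear h, lineMap_of_not_collinear h]

theorem span_isSubspace (S : Set X) : IsSubspace L (span L S) := by
  intro l hl x hx y hy hxy hxl hyl z hz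
  exact Set.mem_sInter.mpr fun T hT =>
    hT.2 l hl x (Set.mem_sInter.mp hx T hT) y (Set.mem_sInter.mp hy T hT) hxy hxl hyl hz

theorem subset_span (S : Set X) : S ⊆ span L S :=
  fun _ hx => Set.mem_sInter.mpr fun _ hT => hT.1 hx

/-- A model space all of whose point maps carry lines to lines. -/
def IsMapClosed {P : Type*} (M : Set (Set P)) : Prop :=
  IsPartialLinear M ∧ (∀ l ∈ M, l.ncard = 3) ∧ ∀ a : P, ∀ l ∈ M, lineMap M a '' l ∈ M

theorem lineMap_restrict {S : Set X} (hP : IsPartialLinear L) (h3 : ∀ l ∈ L, l.ncard = 3)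
    (hS : IsSubspace L S) {P : Type*} {M : Set (Set P)} (hM : IsMapClosed M) {e : S ≃ P}
    (he : IsIso (restrict L S) M e) (x y : S) :
    lineMap L (x : X) y = (e.symm (lineMap M (e x) (e y)) : X) := by
  rcases eq_or_ne x y with rfl | hxy
  · rw [lineMap_self, lineMap_self, e.symm_apply_apply]
  have hxy' : (x : X) ≠ y := fun h => hxy (Subtype.ext h)
  by_cases hc : Collinear L (x : X) y
  · obtain ⟨-, l, hl, hx, hy⟩ := hc
    have hlS := hS l hl x x.2 y y.2 hxy' hx hy
    obtain ⟨z, rfl, hzx, hzy⟩ := exists_third h3 hl hx hy hxy'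
    have hz : z ∈ S := hlS (by simp)
    have hm : e '' {w : S | (w : X) ∈ ({(x : X), (y : X), z} : Set X)} ∈ M :=
      (he _).mp ⟨_, hl, hlS, rfl⟩
    have heq : e '' {w : S | (w : X) ∈ ({(x : X), (y : X), z} : Set X)}
        = {e x, e y, e ⟨z, hz⟩} := by
      ext p
      constructor
      · rintro ⟨w, hw, rfl⟩
        rcases hw with h | h | h
        · exact Or.inl (congrArg e (Subtype.ext h))
        · exact Or.inr (Or.inl (congrArg e (Subtype.ext h)))
        · exact Or.inr (Or.inr (congrArg e (Subtype.ext h)))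
      · rintro (rfl | rfl | rfl)
        exacts [⟨x, by simp, rfl⟩, ⟨y, by simp, rfl⟩, ⟨⟨z, hz⟩, by simp, rfl⟩]
    rw [lineMap_eq hP hl hxy' hzx hzy,
      lineMap_eq hM.1 (heq ▸ hm) (e.injective.ne hxy)
        (e.injective.ne fun h => hzx (congrArg Subtype.val h))
        (e.injective.ne fun h => hzy (congrArg Subtype.val h)),
      e.symm_apply_apply]
  · rw [lineMap_of_not_collinear hc, lineMap_of_not_collinear, e.symm_apply_apply]
    rintro ⟨-, m, hm, hxm, hym⟩
    have h1 : e '' (e ⁻¹' m) ∈ M := by rwa [Set.image_preimage_eq _ e.surjective]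
    obtain ⟨l, hl, -, hlm⟩ := (he _).mpr h1
    refine hc ⟨hxy', l, hl, ?_, ?_⟩
    · exact (hlm ▸ hxm : x ∈ {w : S | (w : X) ∈ l})
    · exact (hlm ▸ hym : y ∈ {w : S | (w : X) ∈ l})

theorem lineMap_image_line {S : Set X} (hP : IsPartialLinear L) (h3 : ∀ l ∈ L, l.ncard = 3)
    (hS : IsSubspace L S) {P : Type*} {M : Set (Set P)} (hM : IsMapClosed M)
    (hiso : Isomorphic (restrict L S) M) {x : X} (hx : x ∈ S) {l : Set X} (hl : l ∈ L)
    (hlS : l ⊆ S) : lineMap L x '' l ∈ L := by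
  obtain ⟨e, he⟩ := hiso
  have hm : e '' {w : S | (w : X) ∈ l} ∈ M := (he _).mp ⟨l, hl, hlS, rfl⟩
  have hm' := hM.2.2 (e ⟨x, hx⟩) _ hm
  have h1 : e '' (e ⁻¹' (lineMap M (e ⟨x, hx⟩) '' (e '' {w : S | (w : X) ∈ l}))) ∈ M := by
    rwa [Set.image_preimage_eq _ e.surjective]
  obtain ⟨k, hk, hkS, hkeq⟩ := (he _).mpr h1
  suffices h : lineMap L x '' l = k from h ▸ hk
  ext p
  constructor
  · rintro ⟨y, hy, rfl⟩
    have h2 := lineMap_restrict hP h3 hS hM he ⟨x, hx⟩ ⟨y, hlS hy⟩
    rw [h2]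
    have h5 : e.symm (lineMap M (e ⟨x, hx⟩) (e ⟨y, hlS hy⟩)) ∈ {w : S | (w : X) ∈ k} := by
      rw [← hkeq, Set.mem_preimage, e.apply_symm_apply]
      exact ⟨_, ⟨⟨y, hlS hy⟩, hy, rfl⟩, rfl⟩
    exact h5
  · intro hp
    have h2 : (⟨p, hkS hp⟩ : S) ∈ e ⁻¹' (lineMap M (e ⟨x, hx⟩) '' (e '' {w : S | (w : X) ∈ l})) :=
      hkeq.symm ▸ hp
    obtain ⟨_, ⟨y, hy, rfl⟩, hq⟩ := h2
    refine ⟨y, hy, ?_⟩
    have h3' := lineMap_restrict hP h3 hS hM he ⟨x, hx⟩ y
    rw [hq, e.symm_apply_apply] at h3'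
    exact h3'

/-! ### The affine plane of order three -/

theorem affine_lineMap (a b : Fin 2 → ZMod 3) : a ≠ b →
    ({a, b, -a - b} : Set (Fin 2 → ZMod 3)) ∈ affinePlaneThree ∧ -a - b ≠ a ∧ -a - b ≠ b := by
  intro hab
  refine ⟨⟨a, b - a, sub_ne_zero.mpr hab.symm, ?_⟩, ?_, ?_⟩
  · ext p
    constructor
    · rintro (rfl | rfl | rfl)
      · exact ⟨0, by simp⟩
      · exact ⟨1, by simp⟩
      · refine ⟨2, funext fun i => ?_⟩
        have : ∀ u v : ZMod 3, -u - v = u + 2 * (v - u) := by decide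
        simpa using this (a i) (b i)
    · rintro ⟨c, rfl⟩
      rcases (show ∀ c : ZMod 3, c = 0 ∨ c = 1 ∨ c = 2 by decide) c with rfl | rfl | rfl
      · exact Or.inl (by simp)
      · exact Or.inr (Or.inl (by simp))
      · refine Or.inr (Or.inr (funext fun i => ?_))
        have : ∀ u v : ZMod 3, u + 2 * (v - u) = -u - v := by decide
        simpa using this (a i) (b i)
  · intro h
    refine hab (funext fun i => ?_)
    have : ∀ u v : ZMod 3, -u - v = u → u = v := by decide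
    exact this _ _ (congrFun h i)
  · intro h
    refine hab (funext fun i => ?_)
    have : ∀ u v : ZMod 3, -u - v = v → u = v := by decide
    exact this _ _ (congrFun h i)

theorem affine_line_eq {l : Set (Fin 2 → ZMod 3)} (hl : l ∈ affinePlaneThree)
    {a b : Fin 2 → ZMod 3} (ha : a ∈ l) (hb : b ∈ l) (hab : a ≠ b) : l = {a, b, -a - b} := by
  obtain ⟨v, w, hw, rfl⟩ := hl
  obtain ⟨c, rfl⟩ := ha
  obtain ⟨d, rfl⟩ := hb
  have hcd : c ≠ d := fun h => hab (by rw [h])
  ext p
  constructor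
  · rintro ⟨k, rfl⟩
    rcases (show ∀ c d k : ZMod 3, c ≠ d → k = c ∨ k = d ∨ k = -c - d by decide) c d k hcd with
      rfl | rfl | rfl
    · exact Or.inl rfl
    · exact Or.inr (Or.inl rfl)
    · refine Or.inr (Or.inr (funext fun i => ?_))
      have : ∀ v w c d : ZMod 3, v + (-c - d) * w = -(v + c * w) - (v + d * w) := by decide
      simpa using this (v i) (w i) c d
  · rintro (rfl | rfl | rfl)
    · exact ⟨c, rfl⟩
    · exact ⟨d, rfl⟩
    · refine ⟨-c - d, funext fun i => ?_⟩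
      have : ∀ v w c d : ZMod 3, -(v + c * w) - (v + d * w) = v + (-c - d) * w := by decide
      simpa using this (v i) (w i) c d

theorem affine_mapClosed : IsMapClosed affinePlaneThree := by
  have h3 : ∀ l ∈ affinePlaneThree, l.ncard = 3 := by
    intro l hl
    obtain ⟨v, w, hw, rfl⟩ := id hl
    have hne : v ≠ v + w := fun h => hw (by simpa using h.symm)
    rw [affine_line_eq hl (a := v) (b := v + w) ⟨0, by simp⟩ ⟨1, by simp⟩ hne]
    obtain ⟨-, h1, h2⟩ := affine_lineMap v (v + w) hne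
    exact Set.ncard_eq_three.mpr ⟨_, _, _, hne, h1.symm, h2.symm, rfl⟩
  have hP : IsPartialLinear affinePlaneThree := fun l hl m hm x y hxy h1 h2 h3 h4 =>
    (affine_line_eq hl h1 h2 hxy).trans (affine_line_eq hm h3 h4 hxy).symm
  refine ⟨hP, h3, fun a l hl => ?_⟩
  have hmap : ∀ b, lineMap affinePlaneThree a b = -a - b := by
    intro b
    rcases eq_or_ne a b with rfl | hab
    · rw [lineMap_self]
      funext i
      have : ∀ u : ZMod 3, u = -u - u := by decide
      simpa using this (a i)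
    · obtain ⟨h1, h2, h3⟩ := affine_lineMap a b hab
      exact lineMap_eq hP h1 hab h2 h3
  obtain ⟨v, w, hw, rfl⟩ := hl
  refine ⟨-a - v, -w, neg_ne_zero.mpr hw, ?_⟩
  ext p
  constructor
  · rintro ⟨_, ⟨c, rfl⟩, rfl⟩
    exact ⟨c, by rw [hmap]; module⟩
  · rintro ⟨c, rfl⟩
    exact ⟨v + c • w, ⟨c, rfl⟩, by rw [hmap]; module⟩

/-! ### The dual affine plane of order two -/

/-- The image of a two-element set under the transposition given by another one. -/
def dualMap (a b : DualAffinePoint) : DualAffinePoint :=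
  if h : (b.1.image fun k => if k ∈ a.1 then (∑ i ∈ a.1, i) - k else k).card = 2 then ⟨_, h⟩ else b

set_option synthInstance.maxSize 2000 in
set_option maxRecDepth 20000 in
theorem dual_line_cases : ∀ a b : DualAffinePoint, a ≠ b →
    ((∀ i, i ∈ a.1 ∨ i ∈ b.1) → dualMap a b = b) ∧
    (∀ i, i ∉ a.1 → i ∉ b.1 → (∀ s : DualAffinePoint, i ∉ s.1 ↔ s = a ∨ s = b ∨ s = dualMap a b) ∧
      dualMap a b ≠ a ∧ dualMap a b ≠ b ∧ ∀ j, j ∉ a.1 → j ∉ b.1 → j = i) := by
  decide

theorem dual_map_line : ∀ (a : DualAffinePoint) (i : Fin 4), ∃ j, ∀ s : DualAffinePoint,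
    i ∉ s.1 ↔ j ∉ (dualMap a s).1 := by
  decide

theorem dual_map_self : ∀ a : DualAffinePoint, dualMap a a = a := by decide

theorem dual_map_map : ∀ a b : DualAffinePoint, dualMap a (dualMap a b) = b := by decide

theorem dual_line_card : ∀ i : Fin 4, ∃ a b c : DualAffinePoint, a ≠ b ∧ a ≠ c ∧ b ≠ c ∧
    ∀ s : DualAffinePoint, i ∉ s.1 ↔ s = a ∨ s = b ∨ s = c := by
  decide

theorem dual_mapClosed : IsMapClosed dualAffinePlaneTwo := by
  have h3 : ∀ l ∈ dualAffinePlaneTwo, l.ncard = 3 := by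
    rintro l ⟨i, rfl⟩
    obtain ⟨a, b, c, hab, hac, hbc, h⟩ := dual_line_card i
    exact Set.ncard_eq_three.mpr ⟨a, b, c, hab, hac, hbc, Set.ext fun s => h s⟩
  have hP : IsPartialLinear dualAffinePlaneTwo := by
    rintro l ⟨i, rfl⟩ m ⟨j, rfl⟩ x y hxy hx hy hx' hy'
    rw [((dual_line_cases x y hxy).2 i hx hy).2.2.2 j hx' hy']
  refine ⟨hP, h3, fun a l hl => ?_⟩
  have hmap : ∀ b, lineMap dualAffinePlaneTwo a b = dualMap a b := by
    intro b
    rcases eq_or_ne a b with rfl | hab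
    · rw [lineMap_self, dual_map_self]
    by_cases h : ∀ i, i ∈ a.1 ∨ i ∈ b.1
    · rw [(dual_line_cases a b hab).1 h, lineMap_of_not_collinear]
      rintro ⟨-, _, ⟨i, rfl⟩, ha, hb⟩
      exact (h i).elim ha hb
    · push_neg at h
      obtain ⟨i, ha, hb⟩ := h
      obtain ⟨h1, h2, h3', -⟩ := (dual_line_cases a b hab).2 i ha hb
      refine lineMap_eq hP ⟨i, ?_⟩ hab h2 h3'
      ext s
      exact (h1 s).symm
  obtain ⟨i, rfl⟩ := hl
  obtain ⟨j, hj⟩ := dual_map_line a i
  refine ⟨j, Set.ext fun s => ⟨?_, fun hs => ?_⟩⟩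
  · rintro ⟨b, hb, rfl⟩
    show j ∉ _
    rw [hmap]
    exact (hj b).mp hb
  · refine ⟨dualMap a s, (hj _).mpr ?_, ?_⟩
    · rw [dual_map_map]
      exact hs
    · rw [hmap, dual_map_map]

/-! ### The point involutions of a Fischer space -/

theorem fischer_lineMap_image (hL : IsFischerSpace L) (x : X) {l : Set X} (hl : l ∈ L) :
    lineMap L x '' l ∈ L := by
  obtain ⟨hP, h3, hplane⟩ := hL
  by_cases hx : x ∈ l
  · suffices h : lineMap L x '' l = l from h.symm ▸ hl
    have hmap : ∀ y ∈ l, lineMap L x y ∈ l := by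
      intro y hy
      rcases eq_or_ne x y with rfl | hxy
      · rwa [lineMap_self]
      · obtain ⟨z, rfl, hzx, hzy⟩ := exists_third h3 hl hx hy hxy
        rw [lineMap_eq hP hl hxy hzx hzy]
        simp
    exact Set.Subset.antisymm (by rintro _ ⟨y, hy, rfl⟩; exact hmap y hy)
      fun y hy => ⟨_, hmap y hy, lineMap_lineMap hP h3 x y⟩
  by_cases hc : ∃ u ∈ l, Collinear L x u
  · obtain ⟨u, hu, hxu, k, hk, hxk, huk⟩ := hc
    have hkl : k ≠ l := fun h => hx (h ▸ hxk)
    have hxS : x ∈ span L (k ∪ l) := subset_span _ (Or.inl hxk)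
    have hlS : l ⊆ span L (k ∪ l) := fun y hy => subset_span _ (Or.inr hy)
    rcases hplane k hk l hl hkl ⟨u, huk, hu⟩ with h | h
    · exact lineMap_image_line hP h3 (span_isSubspace _) dual_mapClosed h hxS hl hlS
    · exact lineMap_image_line hP h3 (span_isSubspace _) affine_mapClosed h hxS hl hlS
  · suffices h : lineMap L x '' l = l from h.symm ▸ hl
    push_neg at hc
    exact Set.Subset.antisymm
      (by rintro _ ⟨y, hy, rfl⟩; rwa [lineMap_of_not_collinear (hc y hy)])
      fun y hy => ⟨y, hy, lineMap_of_not_collinear (hc y hy)⟩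

/-- The involution attached to a point of a Fischer space. -/
noncomputable def pointPerm (hL : IsFischerSpace L) (x : X) : Equiv.Perm X :=
  (Function.Involutive.toPerm (lineMap L x) (lineMap_lineMap hL.1 hL.2.1 x))

theorem pointPerm_apply (hL : IsFischerSpace L) (x y : X) :
    pointPerm hL x y = lineMap L x y := rfl

theorem pointPerm_sq (hL : IsFischerSpace L) (x : X) : pointPerm hL x * pointPerm hL x = 1 :=
  Equiv.ext fun y => lineMap_lineMap hL.1 hL.2.1 x y

theorem lineMap_conj (hL : IsFischerSpace L) (x y z : X) :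
    lineMap L x (lineMap L y (lineMap L x z)) = lineMap L (lineMap L x y) z := by
  obtain ⟨hP, h3, -⟩ := id hL
  have hinv := lineMap_lineMap hP h3 x
  have hinj : Function.Injective (lineMap L x) := Function.Involutive.injective hinv
  suffices h : ∀ w, lineMap L x (lineMap L y w) = lineMap L (lineMap L x y) (lineMap L x w) by
    rw [h, hinv]
  intro w
  rcases eq_or_ne y w with rfl | hyw
  · rw [lineMap_self, lineMap_self]
  by_cases hc : Collinear L y w
  · obtain ⟨-, l, hl, hy, hw⟩ := hc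
    obtain ⟨u, rfl, huy, huw⟩ := exists_third h3 hl hy hw hyw
    rw [lineMap_eq hP hl hyw huy huw]
    refine (lineMap_eq hP ?_ (hinj.ne hyw) (hinj.ne huy) (hinj.ne huw)).symm
    have h := fischer_lineMap_image hL x hl
    rwa [Set.image_insert_eq, Set.image_insert_eq, Set.image_singleton] at h
  · rw [lineMap_of_not_collinear hc]
    refine (lineMap_of_not_collinear ?_).symm
    rintro ⟨-, l, hl, h1, h2⟩
    exact hc ⟨hyw, _, fischer_lineMap_image hL x hl, ⟨_, h1, hinv y⟩, ⟨_, h2, hinv w⟩⟩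

/-! ### The Fischer space of a set of 3-transpositions -/

section Lines

variable {G : Type*} [Group G] {D : Set G}

theorem line_conj {x y : G} (hS : IsThreeTranspositionSet D) (hy : y ∈ D) :
    y * x * y⁻¹ = y * x * y := conj_eq hS hy x

theorem mem_lines_iff (hS : IsThreeTranspositionSet D) (hc : IsConjClosed D) {l : Set D} :
    l ∈ threeTranspositionLines D ↔ ∃ x y z : D, ¬ Commute (x : G) y ∧
      (z : G) = (y : G) * x * y ∧ l = {x, y, z} := by
  constructor
  · rintro ⟨x, y, hxy, rfl⟩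
    exact ⟨x, y, ⟨_, conj_mem hS hc y.2 x.2⟩, hxy, rfl,
      by ext w; simp [Subtype.ext_iff, line_conj hS y.2]⟩
  · rintro ⟨x, y, z, hxy, hz, rfl⟩
    exact ⟨x, y, hxy, by ext w; simp [Subtype.ext_iff, line_conj hS y.2, hz]⟩

end Lines

end CfsgLib.ThreeTransp
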