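import Mathlib
import Cfsg.Agent.Lib.ThreeTransp.FischerSpace

/-!
The planes of the line system of a set of 3-transpositions.
-/

set_option autoImplicit false

namespace CfsgLib.ThreeTransp

open Cfsg Cfsg.LineSystem

theorem isomorphic_of_param {X P : Type*} {L : Set (Set X)} {M : Set (Set P)} {A : Set X}
    (h3 : ∀ l ∈ L, l.ncard = 3) (p : P → X) (hp : Function.Injective p) (hA : A ⊆ Set.range p)
    (hgen : ∀ T, A ⊆ T → IsSubspace L T → Set.range p ⊆ T)
    (hM : ∀ k ∈ M, p '' k ∈ L)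
    (hL : ∀ l ∈ L, ∀ a ∈ l, ∀ b ∈ l, a ≠ b → a ∈ Set.range p → b ∈ Set.range p →
      ∃ k ∈ M, p '' k = l) :
    Isomorphic (restrict L (span L A)) M := by
  have hsub : IsSubspace L (Set.range p) := fun l hl a ha b hb hab hal hbl => by
    obtain ⟨k, -, rfl⟩ := hL l hl a hal b hbl hab ha hb
    exact Set.image_subset_range _ _
  have hspan : span L A = Set.range p :=
    Set.Subset.antisymm (Set.sInter_subset_of_mem ⟨hA, hsub⟩)
      (Set.subset_sInter fun T hT => hgen T hT.1 hT.2)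
  rw [hspan]
  refine ⟨(Equiv.ofInjective p hp).symm, fun m => ⟨?_, fun hm => ?_⟩⟩
  · rintro ⟨l, hl, hlS, rfl⟩
    obtain ⟨a, b, c, hab, -, -, hl3⟩ := Set.ncard_eq_three.mp (h3 l hl)
    · have ha : a ∈ l := hl3 ▸ Or.inl rfl
      have hb : b ∈ l := hl3 ▸ Or.inr (Or.inl rfl)
      obtain ⟨k, hk, rfl⟩ := hL l hl a ha b hb hab (hlS ha) (hlS hb)
      convert hk using 1
      ext i
      constructor
      · rintro ⟨⟨w, j, rfl⟩, ⟨j', hj', hjj'⟩, rfl⟩
        rw [Equiv.ofInjective_symm_apply hp]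
        rwa [← hp hjj']
      · intro hi
        exact ⟨⟨p i, i, rfl⟩, ⟨i, hi, rfl⟩, Equiv.ofInjective_symm_apply hp i⟩
  · refine ⟨_, hM _ hm, Set.image_subset_range _ _, ?_⟩
    ext ⟨w, j, rfl⟩
    constructor
    · intro hw
      exact ⟨j, ⟨_, hw, Equiv.ofInjective_symm_apply hp j⟩, rfl⟩
    · rintro ⟨i, ⟨⟨w', j', rfl⟩, hw', hi⟩, hij⟩
      rw [Equiv.ofInjective_symm_apply hp] at hi
      subst hi
      have := hp hij
      subst this
      exact hw'

variable {G : Type*} [Group G] {D : Set G}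

/-- The line through two non-commuting members. -/
theorem line_eq (hS : IsThreeTranspositionSet D) (hc : IsConjClosed D) {l : Set D}
    (hl : l ∈ threeTranspositionLines D) {a b : D} (ha : a ∈ l) (hb : b ∈ l) (hab : a ≠ b) :
    ¬ Commute (a : G) b ∧ ∀ w : D, w ∈ l ↔
      w = a ∨ w = b ∨ (w : G) = (b : G) * a * b := by
  obtain ⟨x, y, z, hxy, hz, rfl⟩ := (mem_lines_iff hS hc).mp hl
  have swap' : ∀ {u v w : D}, ¬ Commute (u : G) v → (w : G) = (v : G) * u * v →
      ¬ Commute (v : G) u ∧ (w : G) = (u : G) * v * u := fun {u v w} h hw =>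
    ⟨fun h' => h h'.symm, hw.trans (braid hS v.2 u.2 fun h' => h h'.symm)⟩
  have rot : ∀ {u v w : D}, ¬ Commute (u : G) v → (w : G) = (v : G) * u * v →
      ¬ Commute (v : G) w ∧ (u : G) = (w : G) * v * w := by
    intro u v w h hw
    have e : (v : G) * w * v = u := by rw [hw, conj_conj hS v.2]
    have hvw : ¬ Commute (v : G) w := fun h' => h (by
      rw [conj_eq_of_commute hS v.2 h'] at e
      exact (commute_of_conj_eq hS v.2 (hw.symm.trans e)).symm)
    exact ⟨hvw, (e.symm.trans (braid hS v.2 w.2 hvw))⟩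
  obtain ⟨hyz, hx⟩ := rot hxy hz
  obtain ⟨hzx, hy⟩ := rot hyz hx
  obtain ⟨hyx, hz'⟩ := swap' hxy hz
  obtain ⟨hzy, hx'⟩ := swap' hyz hx
  obtain ⟨hxz, hy'⟩ := swap' hzx hy
  rcases ha with rfl | rfl | rfl <;> rcases hb with rfl | rfl | rfl
  all_goals first
    | exact absurd rfl hab
    | (refine ⟨by assumption, fun w => ?_⟩
       simp only [Set.mem_insert_iff, Set.mem_singleton_iff, Subtype.ext_iff, ← hz, ← hz', ← hx,
         ← hx', ← hy, ← hy']
       try tauto)

theorem lines_partialLinear (hS : IsThreeTranspositionSet D) (hc : IsConjClosed D) :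
    IsPartialLinear (threeTranspositionLines D) := by
  intro l hl m hm a b hab ha hb ha' hb'
  ext w
  rw [(line_eq hS hc hl ha hb hab).2 w, (line_eq hS hc hm ha' hb' hab).2 w]

theorem third_mem_of_subspace (hS : IsThreeTranspositionSet D) {T : Set D}
    (hT : IsSubspace (threeTranspositionLines D) T) {a b w : D} (ha : a ∈ T) (hb : b ∈ T)
    (hab : ¬ Commute (a : G) b) (hw : (w : G) = (b : G) * a * b) : w ∈ T :=
  hT _ ⟨a, b, hab, rfl⟩ a ha b hb (fun h => hab (h ▸ Commute.refl _)) (Or.inl rfl)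
    (Or.inr (Or.inl rfl)) (Or.inr (Or.inr (hw.trans (conj_eq hS b.2 _).symm)))

theorem lines_ncard (hS : IsThreeTranspositionSet D) (hc : IsConjClosed D) :
    ∀ l ∈ threeTranspositionLines D, l.ncard = 3 := by
  intro l hl
  obtain ⟨x, y, z, hxy, hz, rfl⟩ := (mem_lines_iff hS hc).mp hl
  refine Set.ncard_eq_three.mpr ⟨x, y, z, fun h => hxy (h ▸ Commute.refl _), fun h => ?_,
    fun h => ?_, rfl⟩
  · have h1 : (y : G) * x * y = x := by rw [← hz, ← h]
    exact hxy (commute_of_conj_eq hS y.2 h1).symm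
  · have h1 : (y : G) * x * y = y := by rw [← hz, ← h]
    have h2 : (x : G) = y := by
      rw [← conj_conj hS y.2 (x : G), h1, mul_self_eq_one hS y.2, one_mul]
    exact hxy (h2 ▸ Commute.refl _)

set_option synthInstance.maxSize 4000 in
set_option synthInstance.maxHeartbeats 200000 in
set_option maxRecDepth 20000 in
theorem plane_dual (hS : IsThreeTranspositionSet D) (hc : IsConjClosed D) {x y z y' z' : D}
    (hxy : ¬ Commute (x : G) y) (hxz : ¬ Commute (x : G) z) (hyz : Commute (y : G) z) (hne : y ≠ z)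
    (hy' : (y' : G) = (y : G) * x * y) (hz' : (z' : G) = (z : G) * x * z) :
    Isomorphic (restrict (threeTranspositionLines D)
      (span (threeTranspositionLines D) ({x, y, y'} ∪ {x, z, z'}))) dualAffinePlaneTwo := by
  obtain ⟨φ, p0, p1, p2⟩ := exists_hom_perm_four (mul_self_eq_one hS y.2) (mul_self_eq_one hS x.2)
    (mul_self_eq_one hS z.2) (braid hS y.2 x.2 fun h => hxy h.symm)
    (braid hS x.2 z.2 hxz) hyz.eq
  have hswaps : ∀ σ : Equiv.Perm (Fin 4), σ.IsSwap → φ σ ∈ D := by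
    rintro σ ⟨i, j, hij, rfl⟩
    obtain ⟨g, hg⟩ := isConj_iff.mp
      (Equiv.Perm.isConj_swap (α := Fin 4) (show (0 : Fin 4) ≠ 1 by decide) hij)
    rw [← hg, map_mul, map_mul, map_inv, p0]
    exact hc _ _ y.2
  -- the transposition attached to a two-element set
  let τ : DualAffinePoint → Equiv.Perm (Fin 4) := fun s =>
    if h : ∃ i, i ∈ s.1 then
      Equiv.swap (Fin.find (fun i => i ∈ s.1) h)
        ((∑ i ∈ s.1, i) - Fin.find (fun i => i ∈ s.1) h) else 1
  have hτ : ∀ s, (τ s).IsSwap := by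
    have h : ∀ s : DualAffinePoint, ∃ i j : Fin 4, i ≠ j ∧ τ s = Equiv.swap i j := by decide
    exact fun s => h s
  let p : DualAffinePoint → D := fun s => ⟨φ (τ s), hswaps _ (hτ s)⟩
  have hinjφ : Function.Injective φ := by
    rw [← MonoidHom.ker_eq_bot_iff, Subgroup.eq_bot_iff_forall]
    intro w hw
    by_contra hw1
    have key : ∀ x : Equiv.Perm (Fin 4), x ≠ 1 → ∃ u v w : Equiv.Perm (Fin 4),
        u * ((v * x * v⁻¹ * x⁻¹) * (w * (v * x * v⁻¹ * x⁻¹) * w⁻¹)) * u⁻¹
          = Equiv.swap 0 1 * Equiv.swap 2 3 ∨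
        u * (v * x * v⁻¹ * x⁻¹) * u⁻¹ = Equiv.swap 0 1 * Equiv.swap 2 3 := by decide +kernel
    obtain ⟨u, v, r, h⟩ := key w hw1
    have hN : ∀ (y g : Equiv.Perm (Fin 4)), y ∈ φ.ker → g * y * g⁻¹ ∈ φ.ker :=
      fun y g hy => (inferInstance : φ.ker.Normal).conj_mem y hy g
    have h2 := mul_mem (hN w v hw) (inv_mem hw)
    have hmem : Equiv.swap 0 1 * Equiv.swap 2 3 ∈ φ.ker := by
      rcases h with h | h
      · exact h ▸ hN _ u (mul_mem h2 (hN _ r h2))
      · exact h ▸ hN _ u h2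
    rw [MonoidHom.mem_ker, map_mul, p0, p2] at hmem
    exact hne (Subtype.ext (by rw [eq_inv_of_mul_eq_one_left hmem, inv_eq_self hS z.2]))
  have hτinj : ∀ s t, τ s = τ t → s = t := by decide
  have hp : Function.Injective p := fun s t h => hτinj s t (hinjφ (congrArg Subtype.val h))
  have hyv : (y : G) = φ (Equiv.swap 0 1) := p0.symm
  have hxv : (x : G) = φ (Equiv.swap 1 2) := p1.symm
  have hzv : (z : G) = φ (Equiv.swap 2 3) := p2.symm
  have hy'v : (y' : G) = φ (Equiv.swap 0 2) := by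
    rw [hy', hyv, hxv, ← map_mul, ← map_mul]
    congr 1
    decide
  have hz'v : (z' : G) = φ (Equiv.swap 1 3) := by
    rw [hz', hzv, hxv, ← map_mul, ← map_mul]
    congr 1
    decide
  have hcover : ∀ i j : Fin 4, i ≠ j → ∃ s, τ s = Equiv.swap i j := by decide
  refine isomorphic_of_param (lines_ncard hS hc) p hp ?_ ?_ ?_ ?_
  · have hmem : ∀ w : D, ∀ i j, i ≠ j → (w : G) = φ (Equiv.swap i j) → w ∈ Set.range p := by
      intro w i j hij hw
      obtain ⟨s, hs⟩ := hcover i j hij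
      exact ⟨s, Subtype.ext (by rw [hw, ← hs])⟩
    rintro w ((rfl | rfl | rfl) | (rfl | rfl | rfl))
    exacts [hmem _ _ _ (by decide) hxv, hmem _ _ _ (by decide) hyv, hmem _ _ _ (by decide) hy'v,
      hmem _ _ _ (by decide) hxv, hmem _ _ _ (by decide) hzv, hmem _ _ _ (by decide) hz'v]
  · intro T hA hT w hw
    obtain ⟨s, rfl⟩ := hw
    have hx' : x ∈ T := hA (Or.inl (Or.inl rfl))
    have hy : y ∈ T := hA (Or.inl (Or.inr (Or.inl rfl)))
    have hy'' : y' ∈ T := hA (Or.inl (Or.inr (Or.inr rfl)))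
    have hz : z ∈ T := hA (Or.inr (Or.inr (Or.inl rfl)))
    have hz'' : z' ∈ T := hA (Or.inr (Or.inr (Or.inr rfl)))
    have hcases : ∀ s, τ s = Equiv.swap 0 1 ∨ τ s = Equiv.swap 1 2 ∨ τ s = Equiv.swap 2 3 ∨
        τ s = Equiv.swap 0 2 ∨ τ s = Equiv.swap 1 3 ∨
        τ s = Equiv.swap 1 3 * Equiv.swap 0 1 * Equiv.swap 1 3 := by decide
    rcases hcases s with h | h | h | h | h | h
    · rwa [show p s = y from Subtype.ext (by simp [p, h, hyv])]
    · rwa [show p s = x from Subtype.ext (by simp [p, h, hxv])]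
    · rwa [show p s = z from Subtype.ext (by simp [p, h, hzv])]
    · rwa [show p s = y' from Subtype.ext (by simp [p, h, hy'v])]
    · rwa [show p s = z' from Subtype.ext (by simp [p, h, hz'v])]
    · refine third_mem_of_subspace hS hT hy hz'' ?_ (by simp [p, h, hyv, hz'v])
      rw [hyv, hz'v]
      intro hcm
      have := hinjφ (by simpa using hcm.eq : φ (Equiv.swap 0 1 * Equiv.swap 1 3)
        = φ (Equiv.swap 1 3 * Equiv.swap 0 1))
      exact absurd this (by decide)
  · rintro k ⟨i, rfl⟩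
    have h : ∀ i : Fin 4, ∃ a b c : DualAffinePoint, τ a * τ b ≠ τ b * τ a ∧
        τ c = τ b * τ a * τ b ∧ ∀ s : DualAffinePoint, i ∉ s.1 ↔ s = a ∨ s = b ∨ s = c := by
      decide
    obtain ⟨a, b, c, hab, hcab, hs⟩ := h i
    rw [mem_lines_iff hS hc]
    refine ⟨p a, p b, p c, fun h => hab (hinjφ ?_), ?_, ?_⟩
    · simpa [p] using h.eq
    · simp [p, hcab]
    · rw [show {s : DualAffinePoint | i ∉ s.1} = {a, b, c} from Set.ext hs, Set.image_insert_eq,
        Set.image_insert_eq, Set.image_singleton]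
  · intro l hl a ha b hb hab hap hbp
    obtain ⟨s, rfl⟩ := hap
    obtain ⟨t, rfl⟩ := hbp
    obtain ⟨hcm, hmem⟩ := line_eq hS hc hl ha hb hab
    have h : ∀ s t : DualAffinePoint, τ s * τ t ≠ τ t * τ s → ∃ i : Fin 4, ∀ u : DualAffinePoint,
        i ∉ u.1 ↔ u = s ∨ u = t ∨ τ u = τ t * τ s * τ t := by decide
    obtain ⟨i, hi⟩ := h s t fun e => hcm (by
      show φ (τ s) * φ (τ t) = φ (τ t) * φ (τ s)
      rw [← map_mul, ← map_mul, e])
    refine ⟨_, ⟨i, rfl⟩, ?_⟩
    ext w
    rw [hmem w]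
    constructor
    · rintro ⟨u, hu, rfl⟩
      rcases (hi u).mp hu with rfl | rfl | hu'
      · exact Or.inl rfl
      · exact Or.inr (Or.inl rfl)
      · exact Or.inr (Or.inr (by simp [p, hu']))
    · rintro (rfl | rfl | hw)
      · exact ⟨s, (hi s).mpr (Or.inl rfl), rfl⟩
      · exact ⟨t, (hi t).mpr (Or.inr (Or.inl rfl)), rfl⟩
      · have hsw : (τ t * τ s * τ t).IsSwap := by
          obtain ⟨i₀, j₀, hne₀, h₀⟩ := hτ s
          refine ⟨τ t i₀, τ t j₀, (τ t).injective.ne hne₀, ?_⟩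
          rw [h₀, Equiv.mul_swap_eq_swap_mul, mul_assoc]
          obtain ⟨i₁, j₁, -, h₁⟩ := hτ t
          rw [h₁, Equiv.swap_mul_self, mul_one]
        obtain ⟨i₂, j₂, hne₂, h₂⟩ := hsw
        obtain ⟨u, hu⟩ := hcover i₂ j₂ hne₂
        refine ⟨u, (hi u).mpr (Or.inr (Or.inr (hu.trans h₂.symm))), ?_⟩
        refine Subtype.ext ?_
        rw [hw]
        simp [p, hu, ← h₂]

theorem plane_affine (hS : IsThreeTranspositionSet D) (hc : IsConjClosed D) {x y z y' z' : D}
    (hxy : ¬ Commute (x : G) y) (hxz : ¬ Commute (x : G) z)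
    (hyz : ¬ Commute (y : G) z) (hy'z : ¬ Commute (y' : G) z)
    (hne : z ≠ y ∧ z ≠ y')
    (hy' : (y' : G) = (y : G) * x * y) (hz' : (z' : G) = (z : G) * x * z) :
    Isomorphic (restrict (threeTranspositionLines D)
      (span (threeTranspositionLines D) ({x, y, y'} ∪ {x, z, z'}))) affinePlaneThree := by
  classical
  set A : G := (x : G) * y with hA
  set B : G := (x : G) * z with hB
  have xx := mul_self_eq_one hS x.2
  have hy'' : (y' : G) = (x : G) * y * x := hy'.trans (braid hS x.2 y.2 hxy).symm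
  have hz'' : (z' : G) = (x : G) * z * x := hz'.trans (braid hS x.2 z.2 hxz).symm
  have cube : ∀ {a b : G}, a ∈ D → b ∈ D → ¬ Commute a b → (a * b) * (a * b) * (a * b) = 1 :=
    fun ha hb h => by
      rw [← mul_pow_three_of_not_commute hS ha hb h]
      simp only [pow_succ, pow_zero, one_mul]
  have hA3 : A * A * A = 1 := cube x.2 y.2 hxy
  have hB3 : B * B * B = 1 := cube x.2 z.2 hxz
  have hAi : A⁻¹ = A * A := inv_eq_of_mul_eq_one_right (by rw [← mul_assoc]; exact hA3)
  have hBi : B⁻¹ = B * B := inv_eq_of_mul_eq_one_right (by rw [← mul_assoc]; exact hB3)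
  have hAB : A * B = (y' : G) * z := by rw [hA, hB, hy'']; group
  have hAB3 : A * B * (A * B) * (A * B) = 1 := by rw [hAB]; exact cube y'.2 z.2 hy'z
  have hA'B : A⁻¹ * B = (y : G) * z := by
    rw [hA, hB, mul_inv_rev, inv_eq_self hS x.2, inv_eq_self hS y.2,
      show (y : G) * x * ((x : G) * z) = y * ((x : G) * x) * z by group, xx, mul_one]
  have hA'B3 : A⁻¹ * B * (A⁻¹ * B) * (A⁻¹ * B) = 1 := by rw [hA'B]; exact cube y.2 z.2 hyz
  -- the translations and their commutator
  set u := A⁻¹ * B with hu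
  set v := B * A⁻¹ with hv
  have huv : u * v = v * u := by
    have h1 : B * A * B = A⁻¹ * B⁻¹ * A⁻¹ := by
      apply mul_left_cancel (a := A)
      apply mul_right_cancel (b := A)
      rw [show A * (B * A * B) * A = A * B * (A * B) * A by group,
        show A * (A⁻¹ * B⁻¹ * A⁻¹) * A = B⁻¹ by group]
      apply mul_right_cancel (b := B)
      rw [show A * B * (A * B) * A * B = A * B * (A * B) * (A * B) by group, hAB3, inv_mul_cancel]
    calc u * v = A⁻¹ * (B * B) * A⁻¹ := by rw [hu, hv]; group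
      _ = A⁻¹ * B⁻¹ * A⁻¹ := by rw [hBi]
      _ = B * A * B := h1.symm
      _ = B * (A * A * A) * (A * A)⁻¹ * (A * A * A) * (A * A * A)⁻¹ * B := by group
      _ = B * A * B := by group
      _ = B * (A⁻¹ * A⁻¹) * B := by rw [show A⁻¹ * A⁻¹ = A by
            rw [← mul_inv_rev, ← hAi, inv_inv]]
      _ = v * u := by rw [hu, hv]; group
  have u3 : u * u * u = 1 := hA'B3
  have v3 : v * v * v = 1 := by
    rw [hv, show B * A⁻¹ * (B * A⁻¹) * (B * A⁻¹) = B * (A⁻¹ * B * (A⁻¹ * B) * (A⁻¹ * B)) * B⁻¹ by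
      group, hA'B3, mul_one, mul_inv_cancel]
  have cvA : A⁻¹ * v * A = u := by rw [hu, hv]; group
  -- the central element
  set c := u * v⁻¹ with hcdef
  have xA : (x : G) * A * x = A⁻¹ := by
    rw [hA, mul_inv_rev, inv_eq_self hS x.2, inv_eq_self hS y.2,
      show (x : G) * (x * y) * x = (x : G) * x * (y * x) by group, xx, one_mul]
  have xB : (x : G) * B * x = B⁻¹ := by
    rw [hB, mul_inv_rev, inv_eq_self hS x.2, inv_eq_self hS z.2,
      show (x : G) * (x * z) * x = (x : G) * x * (z * x) by group, xx, one_mul]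
  have cuA : A⁻¹ * u * A = u⁻¹ * v⁻¹ := by
    apply mul_left_cancel (a := u)
    rw [mul_inv_cancel_left]
    apply mul_left_cancel (a := v)
    rw [mul_inv_cancel]
    rw [hu, hv, show B * A⁻¹ * (A⁻¹ * B * (A⁻¹ * (A⁻¹ * B) * A))
      = B * (A⁻¹ * A⁻¹) * B * (A⁻¹ * A⁻¹) * B * A by group,
      show A⁻¹ * A⁻¹ = A by rw [← mul_inv_rev, ← hAi, inv_inv]]
    calc B * A * B * A * B * A = A⁻¹ * (A * B * (A * B) * (A * B)) * A := by group
      _ = 1 := by rw [hAB3]; group
  have hcuv : Commute u v := huv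
  have cA : A * c = c * A := by
    have h : A⁻¹ * c * A = c := by
      rw [hcdef, show A⁻¹ * (u * v⁻¹) * A = (A⁻¹ * u * A) * (A⁻¹ * v * A)⁻¹ by group, cuA, cvA,
        show u⁻¹ * v⁻¹ * u⁻¹ = u⁻¹ * (v⁻¹ * u⁻¹) by group,
        ← (hcuv.inv_inv).eq,
        show u⁻¹ * (u⁻¹ * v⁻¹) = (u * u)⁻¹ * v⁻¹ by group,
        show (u * u)⁻¹ = u from inv_eq_of_mul_eq_one_right u3]
    calc A * c = A * (A⁻¹ * c * A) := by rw [h]
      _ = c * A := by group
  have cu : u * c = c * u := ((Commute.refl u).mul_right hcuv.inv_right).eq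
  have cB : B * c = c * B := by
    have hBu : B = A * u := by rw [hu]; group
    rw [hBu, mul_assoc, cu, ← mul_assoc, cA, mul_assoc]
  have hBA : B * A = A * B * c := by
    apply mul_left_cancel (a := (A * B)⁻¹)
    rw [inv_mul_cancel_left, show (A * B)⁻¹ * (B * A) = u⁻¹ * (A⁻¹ * u * A) by rw [hu]; group,
      cuA, ← mul_assoc, show u⁻¹ * u⁻¹ = (u * u)⁻¹ by group,
      show (u * u)⁻¹ = u from inv_eq_of_mul_eq_one_right u3]
  have xc : (x : G) * c = c * x := by
    have h : (x : G) * c * x = c := by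
      have e : ∀ p q : G, (x : G) * (p * q) * x = (x * p * x) * (x * q * x) := fun p q => by
        rw [show (x : G) * p * x * (x * q * x) = x * p * ((x : G) * x) * q * x by group, xx]; group
      have hxu : (x : G) * u * x = A * B⁻¹ := by
        rw [hu, e, xB, hAi, e, xA]
        rw [show A⁻¹ * A⁻¹ = A by rw [← mul_inv_rev, ← hAi, inv_inv]]
      have hxv : (x : G) * v⁻¹ * x = A⁻¹ * B := by
        rw [hv, mul_inv_rev, inv_inv, e, xA, hBi, e, xB]
        rw [show B⁻¹ * B⁻¹ = B by rw [← mul_inv_rev, ← hBi, inv_inv]]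
      rw [hcdef, e, hxu, hxv]
      have hv' : A * B⁻¹ = v⁻¹ := by rw [hv]; group
      rw [hv', ← hu]
      exact (hcuv.inv_right.eq).symm
    calc (x : G) * c = (x * c * x) * x := by
          rw [mul_assoc, xx, mul_one]
      _ = c * x := by rw [h]
  -- normal forms
  set C := Subgroup.zpowers c
  have hCA : ∀ k ∈ C, Commute k A ∧ Commute k B ∧ Commute k (x : G) := by
    intro k hk
    obtain ⟨n, rfl⟩ := Subgroup.mem_zpowers_iff.mp hk
    exact ⟨(Commute.zpow_left (cA.symm : Commute c A) n), Commute.zpow_left (cB.symm : Commute c B) n,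
      Commute.zpow_left (xc.symm : Commute c (x : G)) n⟩
  have hAZ : ∀ m : ℕ, A ^ (m % 3) = A ^ m := fun m => by
    conv_rhs => rw [← Nat.mod_add_div m 3, pow_add, pow_mul,
      show A ^ 3 = 1 by rw [← hA3]; simp only [pow_succ, pow_zero, one_mul], one_pow, mul_one]
  have hBZ : ∀ m : ℕ, B ^ (m % 3) = B ^ m := fun m => by
    conv_rhs => rw [← Nat.mod_add_div m 3, pow_add, pow_mul,
      show B ^ 3 = 1 by rw [← hB3]; simp only [pow_succ, pow_zero, one_mul], one_pow, mul_one]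
  let nf : (Fin 2 → ZMod 3) → G := fun w => A ^ (w 0).val * B ^ (w 1).val
  have hnfC : ∀ w, ∀ k ∈ C, Commute k (nf w) := fun w k hk =>
    (((hCA k hk).1).pow_right _).mul_right (((hCA k hk).2.1).pow_right _)
  have hswap : ∀ i j : ℕ, ∃ k ∈ C, B ^ j * A ^ i = A ^ i * B ^ j * k := by
    intro i j
    induction j with
    | zero => exact ⟨1, C.one_mem, by simp⟩
    | succ j ihj =>
      obtain ⟨k, hk, hjk⟩ := ihj
      obtain ⟨k', hk', hk''⟩ : ∃ k ∈ C, B * A ^ i = A ^ i * B * k := by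
        clear hjk
        induction i with
        | zero => exact ⟨1, C.one_mem, by simp⟩
        | succ i ihi =>
          obtain ⟨k, hk, h⟩ := ihi
          refine ⟨c * k, C.mul_mem (Subgroup.mem_zpowers c) hk, ?_⟩
          rw [pow_succ, ← mul_assoc, h, mul_assoc _ k, (hCA k hk).1.eq,
            show A ^ i * B * (A * k) = A ^ i * (B * A) * k by group, hBA]
          group
      refine ⟨k' * k, C.mul_mem hk' hk, ?_⟩
      rw [pow_succ', mul_assoc B, hjk,
        show B * (A ^ i * B ^ j * k) = (B * A ^ i) * B ^ j * k by group, hk'',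
        mul_assoc (A ^ i * B) k', ((hCA k' hk').2.1.pow_right j).eq]
      group
  have hnfmul : ∀ w w', ∃ k ∈ C, nf w * nf w' = nf (w + w') * k := by
    intro w w'
    obtain ⟨k, hk, h⟩ := hswap (w' 0).val (w 1).val
    refine ⟨k, hk, ?_⟩
    show A ^ (w 0).val * B ^ (w 1).val * (A ^ (w' 0).val * B ^ (w' 1).val)
      = A ^ ((w + w') 0).val * B ^ ((w + w') 1).val * k
    rw [show A ^ (w 0).val * B ^ (w 1).val * (A ^ (w' 0).val * B ^ (w' 1).val)
      = A ^ (w 0).val * (B ^ (w 1).val * A ^ (w' 0).val) * B ^ (w' 1).val by group, h,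
      Pi.add_apply, Pi.add_apply, ZMod.val_add, ZMod.val_add, hAZ, hBZ, pow_add, pow_add]
    have hk1 := ((hCA k hk).2.1.pow_right (w' 1).val).eq
    calc A ^ (w 0).val * (A ^ (w' 0).val * B ^ (w 1).val * k) * B ^ (w' 1).val
        = A ^ (w 0).val * A ^ (w' 0).val * B ^ (w 1).val * (k * B ^ (w' 1).val) := by group
      _ = _ := by rw [hk1]; group
  have hnf0 : nf 0 = 1 := by simp [nf]
  have hnfinv : ∀ w, ∃ k ∈ C, (nf w)⁻¹ = nf (-w) * k := by
    intro w
    obtain ⟨k, hk, h⟩ := hnfmul w (-w)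
    rw [add_neg_cancel, hnf0, one_mul] at h
    refine ⟨k⁻¹, C.inv_mem hk, inv_eq_of_mul_eq_one_right ?_⟩
    rw [← mul_assoc, h, mul_inv_cancel]
  have hxnf : ∀ w, ∃ k ∈ C, (x : G) * nf w * x = nf (-w) * k := by
    intro w
    have epow : ∀ {P : G}, (x : G) * P * x = P⁻¹ → ∀ m : ℕ, (x : G) * P ^ m * x = (P ^ m)⁻¹ := by
      intro P hP m
      have := congrArg (fun g => g ^ m) hP
      have h2 : ((x : G) * P * x) ^ m = x * P ^ m * x := by
        nth_rw 2 [← inv_eq_self hS x.2]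
        rw [conj_pow, inv_eq_self hS x.2]
      rw [← h2, hP, inv_pow]
    refine ⟨1, C.one_mem, ?_⟩
    rw [mul_one]
    show (x : G) * (A ^ (w 0).val * B ^ (w 1).val) * x = A ^ ((-w) 0).val * B ^ ((-w) 1).val
    rw [show (x : G) * (A ^ (w 0).val * B ^ (w 1).val) * x
      = (x * A ^ (w 0).val * x) * (x * B ^ (w 1).val * x) by
        rw [show (x : G) * A ^ (w 0).val * x * (x * B ^ (w 1).val * x)
          = x * A ^ (w 0).val * ((x : G) * x) * B ^ (w 1).val * x by group, xx]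
        group,
      epow xA, epow xB]
    have hneg : ∀ {P : G}, P ^ 3 = 1 → (∀ m, P ^ (m % 3) = P ^ m) → ∀ t : ZMod 3,
        (P ^ t.val)⁻¹ = P ^ (-t).val := by
      intro P hP hPm t
      refine inv_eq_of_mul_eq_one_right ?_
      rw [← pow_add, ← hPm, ← ZMod.val_add, add_neg_cancel, ZMod.val_zero, pow_zero]
    rw [hneg (by rw [← hA3]; simp only [pow_succ, pow_zero, one_mul]) hAZ,
      hneg (by rw [← hB3]; simp only [pow_succ, pow_zero, one_mul]) hBZ]
    rfl
  -- the points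
  let P : (Fin 2 → ZMod 3) → D := fun w => ⟨nf w * x * (nf w)⁻¹, hc _ _ x.2⟩
  have hPk : ∀ w, ∀ k ∈ C, (nf w * k) * x * (nf w * k)⁻¹ = (P w : G) := fun w k hk => by
    show _ = nf w * x * (nf w)⁻¹
    rw [show nf w * k * x * (nf w * k)⁻¹ = nf w * (k * x * k⁻¹) * (nf w)⁻¹ by group,
      (hCA k hk).2.2.eq, mul_inv_cancel_right]
  have hthird : ∀ w w', (P w : G) * P w' * P w = P (-w - w') := by
    intro w w'
    obtain ⟨k₁, hk₁, h₁⟩ := hnfinv w
    obtain ⟨k₂, hk₂, h₂⟩ := hnfmul (-w) w'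
    obtain ⟨k₃, hk₃, h₃⟩ := hxnf (-w + w')
    obtain ⟨k₄, hk₄, h₄⟩ := hnfmul w (-(-w + w'))
    set m := (nf w)⁻¹ * nf w'
    have hm : m = nf (-w + w') * (k₂ * k₁) := by
      show (nf w)⁻¹ * nf w' = _
      rw [h₁, mul_assoc, (hnfC w' k₁ hk₁).eq, ← mul_assoc, h₂, mul_assoc]
    have hxm : (x : G) * m * x = nf (-(-w + w')) * (k₃ * (k₂ * k₁)) := by
      rw [hm, show (x : G) * (nf (-w + w') * (k₂ * k₁)) * x
        = x * nf (-w + w') * ((k₂ * k₁) * x) by group, (hCA _ (C.mul_mem hk₂ hk₁)).2.2.eq,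
        ← mul_assoc, h₃]
      group
    have xx' : ∀ t : G, (x : G) * ((x : G) * t) = t := fun t => by rw [← mul_assoc, xx, one_mul]
    calc (P w : G) * P w' * P w
        = (nf w * (x * m * x)) * x * (nf w * (x * m * x))⁻¹ := by
          show nf w * x * (nf w)⁻¹ * (nf w' * x * (nf w')⁻¹) * (nf w * x * (nf w)⁻¹) = _
          simp only [m, mul_inv_rev, inv_inv, inv_eq_self hS x.2, mul_assoc, xx']
      _ = (nf (w + -(-w + w')) * (k₄ * (k₃ * (k₂ * k₁)))) * x *
            (nf (w + -(-w + w')) * (k₄ * (k₃ * (k₂ * k₁))))⁻¹ := by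
          rw [hxm, ← mul_assoc (nf w), h₄, mul_assoc (nf _) k₄]
      _ = P (w + -(-w + w')) := hPk _ _ (C.mul_mem hk₄ (C.mul_mem hk₃ (C.mul_mem hk₂ hk₁)))
      _ = P (-w - w') := by
          congr 2
          funext i
          have : ∀ s t : ZMod 3, s + -(-s + t) = -s - t := by decide
          exact this (w i) (w' i)
  -- the five generating points
  have hP0 : P 0 = x := Subtype.ext (by show nf 0 * (x : G) * (nf 0)⁻¹ = x; simp [hnf0])
  have hv1 : (1 : ZMod 3).val = 1 := rfl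
  have hPa : P ![1, 0] = y ∧ P ![2, 0] = y' := by
    have h1 : P ![1, 0] = y := Subtype.ext (by
      show nf ![1, 0] * (x : G) * (nf ![1, 0])⁻¹ = y
      simp only [nf, Matrix.cons_val_zero, Matrix.cons_val_one, ZMod.val_zero, hv1, pow_zero,
        pow_one, mul_one]
      rw [hA, mul_inv_rev, inv_eq_self hS x.2, inv_eq_self hS y.2,
        show (x : G) * y * x * (y * x) = x * (y * x * y) * x by group,
        braid hS y.2 x.2 (fun h => hxy h.symm), conj_conj hS x.2])
    refine ⟨h1, Subtype.ext ?_⟩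
    have h := hthird 0 ![1, 0]
    rw [hP0, h1] at h
    rw [show (![2, 0] : Fin 2 → ZMod 3) = -0 - ![1, 0] by decide, ← h, hy'']
  have hPb : P ![0, 1] = z ∧ P ![0, 2] = z' := by
    have h1 : P ![0, 1] = z := Subtype.ext (by
      show nf ![0, 1] * (x : G) * (nf ![0, 1])⁻¹ = z
      simp only [nf, Matrix.cons_val_zero, Matrix.cons_val_one, ZMod.val_zero, hv1, pow_zero,
        pow_one, one_mul]
      rw [hB, mul_inv_rev, inv_eq_self hS x.2, inv_eq_self hS z.2,
        show (x : G) * z * x * (z * x) = x * (z * x * z) * x by group,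
        braid hS z.2 x.2 (fun h => hxz h.symm), conj_conj hS x.2])
    refine ⟨h1, Subtype.ext ?_⟩
    have h := hthird 0 ![0, 1]
    rw [hP0, h1] at h
    rw [show (![0, 2] : Fin 2 → ZMod 3) = -0 - ![0, 1] by decide, ← h, hz'']
  have hPinj : Function.Injective P := by
    -- the kernel of translation is a subgroup
    have htrans : ∀ w w', P w = P w' → P (w' - w) = P 0 := by
      intro w w' h
      obtain ⟨k₁, hk₁, h₁⟩ := hnfinv w
      obtain ⟨k₂, hk₂, h₂⟩ := hnfmul (-w) w'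
      refine Subtype.ext ?_
      rw [← hPk (w' - w) _ (C.mul_mem hk₂ hk₁)]
      have hm : (nf w)⁻¹ * nf w' = nf (w' - w) * (k₂ * k₁) := by
        rw [h₁, mul_assoc, (hnfC w' k₁ hk₁).eq, ← mul_assoc, h₂, mul_assoc, neg_add_eq_sub]
      rw [← hm, hP0,
        show (nf w)⁻¹ * nf w' * x * ((nf w)⁻¹ * nf w')⁻¹ = (nf w)⁻¹ * (P w' : G) * nf w by
          show _ = (nf w)⁻¹ * (nf w' * x * (nf w')⁻¹) * nf w
          group, ← h]
      show (nf w)⁻¹ * (nf w * x * (nf w)⁻¹) * nf w = x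
      group
    have hyy' : y ≠ y' := fun h => by
      have h1 : (y : G) * x * y = y := by rw [← hy', ← h]
      have h2 : (x : G) = y := by
        rw [← conj_conj hS y.2 (x : G), h1, mul_self_eq_one hS y.2, one_mul]
      exact hxy (h2 ▸ Commute.refl _)
    have hxne : ∀ {t : D}, ¬ Commute (x : G) t → x ≠ t := fun h e => h (e ▸ Commute.refl _)
    have hxy' : x ≠ y' := fun h => by
      have h1 : (y : G) * x * y = x := by rw [← hy', ← h]
      exact hxy (commute_of_conj_eq hS y.2 h1).symm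
    have hxz' : x ≠ z' := fun h => by
      have h1 : (z : G) * x * z = x := by rw [← hz', ← h]
      exact hxz (commute_of_conj_eq hS z.2 h1).symm
    have hz'y : z' ≠ y' ∧ z' ≠ y := by
      constructor
      · intro h
        have := congrArg (fun t : D => (x : G) * t * x) h
        simp only [hy'', hz'', conj_conj hS x.2] at this
        exact hne.1 (Subtype.ext this)
      · intro h
        have := congrArg (fun t : D => (x : G) * t * x) h
        simp only [hz'', conj_conj hS x.2] at this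
        rw [← hy''] at this
        exact hne.2 (Subtype.ext this)
    have hshift : ∀ v w, P w = P 0 → P (v + w) = P v := by
      intro v w h
      obtain ⟨k, hk, hk'⟩ := hnfmul v w
      refine Subtype.ext ?_
      rw [← hPk (v + w) k hk, ← hk']
      have h' : nf w * (x : G) * (nf w)⁻¹ = x := by
        have := congrArg Subtype.val (h.trans hP0)
        exact this
      show nf v * nf w * x * (nf v * nf w)⁻¹ = nf v * x * (nf v)⁻¹
      rw [show nf v * nf w * (x : G) * (nf v * nf w)⁻¹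
        = nf v * (nf w * x * (nf w)⁻¹) * (nf v)⁻¹ by group, h']
    have hzero : ∀ w, P w = P 0 → w = 0 := by
      intro w hw
      have hcases : ∀ w : Fin 2 → ZMod 3, w = 0 ∨ w = ![1, 0] ∨ w = ![2, 0] ∨ w = ![0, 1] ∨
          w = ![0, 2] ∨ w = ![1, 1] ∨ w = ![1, 2] ∨ w = ![2, 1] ∨ w = ![2, 2] := by decide
      rw [hP0] at hw
      rcases hcases w with rfl | rfl | rfl | rfl | rfl | rfl | rfl | rfl | rfl
      · rfl
      · exact absurd (hPa.1 ▸ hw).symm (hxne hxy)
      · exact absurd (hPa.2 ▸ hw).symm hxy'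
      · exact absurd (hPb.1 ▸ hw).symm (hxne hxz)
      · exact absurd (hPb.2 ▸ hw).symm hxz'
      all_goals exfalso
      · exact hne.2 (hPb.1.symm.trans ((show P ![0, 1] = P (![2, 0] + ![1, 1]) by
          congr 1; decide).trans ((hshift _ _ (hw.trans hP0.symm)).trans hPa.2)))
      · exact hz'y.1 (hPb.2.symm.trans ((show P ![0, 2] = P (![2, 0] + ![1, 2]) by
          congr 1; decide).trans ((hshift _ _ (hw.trans hP0.symm)).trans hPa.2)))
      · exact hne.1 (hPb.1.symm.trans ((show P ![0, 1] = P (![1, 0] + ![2, 1]) by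
          congr 1; decide).trans ((hshift _ _ (hw.trans hP0.symm)).trans hPa.1)))
      · exact hz'y.2 (hPb.2.symm.trans ((show P ![0, 2] = P (![1, 0] + ![2, 2]) by
          congr 1; decide).trans ((hshift _ _ (hw.trans hP0.symm)).trans hPa.1)))
    intro w w' h
    exact (sub_eq_zero.mp (hzero _ (htrans w w' h))).symm
  refine isomorphic_of_param (lines_ncard hS hc) P hPinj ?_ ?_ ?_ ?_
  · rintro w ((rfl | rfl | rfl) | (rfl | rfl | rfl))
    exacts [⟨_, hP0⟩, ⟨_, hPa.1⟩, ⟨_, hPa.2⟩, ⟨_, hP0⟩, ⟨_, hPb.1⟩, ⟨_, hPb.2⟩]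
  · intro T hA hT w hw
    obtain ⟨i, rfl⟩ := hw
    have hgen : P 0 ∈ T ∧ P ![1, 0] ∈ T ∧ P ![2, 0] ∈ T ∧ P ![0, 1] ∈ T ∧ P ![0, 2] ∈ T := by
      rw [hP0, hPa.1, hPa.2, hPb.1, hPb.2]
      exact ⟨hA (by simp), hA (by simp), hA (by simp), hA (by simp), hA (by simp)⟩
    obtain ⟨g0, g1, g2, g3, g4⟩ := hgen
    have step : ∀ a b : Fin 2 → ZMod 3, a ≠ b → P a ∈ T → P b ∈ T → P (-a - b) ∈ T := by
      intro a b hab ha hb
      refine third_mem_of_subspace hS hT hb ha (fun h => hab (hPinj ?_).symm) (hthird a b).symm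
      have h1 := hthird a b
      rw [conj_eq_of_commute hS (P a).2 h.symm] at h1
      have h2 : b = -a - b := hPinj (Subtype.ext h1)
      exfalso
      refine hab (funext fun j => ?_)
      have : ∀ s t : ZMod 3, t = -s - t → s = t := by decide
      exact this _ _ (congrFun h2 j)
    have hcases : ∀ w : Fin 2 → ZMod 3, w = 0 ∨ w = ![1, 0] ∨ w = ![2, 0] ∨ w = ![0, 1] ∨
        w = ![0, 2] ∨ w = -![2, 0] - ![0, 2] ∨ w = -![2, 0] - ![0, 1] ∨ w = -![1, 0] - ![0, 2] ∨
        w = -![1, 0] - ![0, 1] := by decide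
    rcases hcases i with rfl | rfl | rfl | rfl | rfl | rfl | rfl | rfl | rfl
    exacts [g0, g1, g2, g3, g4, step _ _ (by decide) g2 g4, step _ _ (by decide) g2 g3,
      step _ _ (by decide) g1 g4, step _ _ (by decide) g1 g3]
  · intro k hk
    obtain ⟨v₀, w₀, hw₀, hkeq⟩ := id hk
    have hne' : v₀ ≠ v₀ + w₀ := fun h => hw₀ (by simpa using h.symm)
    have hk' : k = {v₀, v₀ + w₀, -v₀ - (v₀ + w₀)} :=
      affine_line_eq hk (hkeq ▸ ⟨0, by simp⟩) (hkeq ▸ ⟨1, by simp⟩) hne'
    rw [hk', Set.image_insert_eq, Set.image_insert_eq, Set.image_singleton, mem_lines_iff hS hc]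
    refine ⟨P v₀, P (v₀ + w₀), P (-v₀ - (v₀ + w₀)), fun h => hne' ?_, ?_, rfl⟩
    · have h1 := hthird v₀ (v₀ + w₀)
      rw [conj_eq_of_commute hS (P v₀).2 h] at h1
      funext j
      have : ∀ s t : ZMod 3, t = -s - t → s = t := by decide
      exact this _ _ (congrFun (hPinj (Subtype.ext h1)) j)
    · rw [hthird, neg_sub_left, add_comm, ← neg_sub_left]
  · intro l hl a ha b hb hab hap hbp
    obtain ⟨i, rfl⟩ := hap
    obtain ⟨j, rfl⟩ := hbp
    obtain ⟨-, hmem⟩ := line_eq hS hc hl ha hb hab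
    refine ⟨{i, j, -i - j}, (affine_lineMap i j fun h => hab (congrArg P h)).1, ?_⟩
    ext w
    rw [hmem w, Set.image_insert_eq, Set.image_insert_eq, Set.image_singleton]
    simp only [Set.mem_insert_iff, Set.mem_singleton_iff, Subtype.ext_iff]
    rw [hthird, neg_sub_left j, add_comm i j, ← neg_sub_left]

end CfsgLib.ThreeTransp
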