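import Cfsg.Agent.Lib.ThreeTransp.Relations

/-!
Two classes of 3-transpositions acting on an elementary abelian 2-group such that, within each
class, commuting members centralize each other's commutator spaces and non-commuting members act
freely on them. The commutator spaces of distinct members meet trivially, and comparing them across
the classes shows that the classes coincide. A similar argument shows that a lifting of a class is
unique up to the commutator spaces.
-/

set_option autoImplicit false
set_option linter.unusedSectionVars false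

namespace CfsgLib.ThreeTransp.Module

open Cfsg CfsgLib.ThreeTransp CfsgLib.ThreeTransp.Relations

variable {Q : Type*} [Group Q] {M : Type*} [AddCommGroup M] [DistribMulAction Q M]

/-- `v ↦ v + g • v`. -/
def beta (g : Q) : M →+ M where
  toFun v := v + g • v
  map_zero' := by rw [smul_zero, add_zero]
  map_add' a b := by rw [smul_add]; abel

theorem beta_apply (g : Q) (v : M) : beta g v = v + g • v := rfl

/-- The commutator space of `g`. -/
abbrev W (M : Type*) [AddCommGroup M] [DistribMulAction Q M] (g : Q) : AddSubgroup M :=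
  (beta g : M →+ M).range

variable (M) in
/-- The hypotheses on one class. -/
structure Data (D : Set Q) : Prop where
  two : ∀ v : M, v + v = 0
  cls : IsThreeTranspositionClass D
  sep : Sep D
  fix : ∀ d ∈ D, ∀ f ∈ D, Commute d f → ∀ v : M, f • beta d v = beta d v
  free : ∀ d ∈ D, ∀ f ∈ D, ¬ Commute d f → ∀ v : M, f • beta d v = beta d v → beta d v = 0
  nontrivial : ∀ d ∈ D, ∃ v : M, beta d v ≠ 0

variable {D E : Set Q}

theorem Data.add_left_cancel_two (hD : Data M D) (a b : M) : a + (a + b) = b := by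
  rw [← add_assoc, hD.two, zero_add]

theorem Data.eq_of_add_eq_zero (hD : Data M D) {a b : M} (h : a + b = 0) : a = b := by
  rw [← hD.add_left_cancel_two a b, h, add_zero]

theorem Data.fix' (hD : Data M D) {d f : Q} (hd : d ∈ D) (hf : f ∈ D) (h : Commute d f) {w : M}
    (hw : w ∈ W M d) : f • w = w := by
  obtain ⟨v, rfl⟩ := hw
  exact hD.fix d hd f hf h v

theorem Data.free' (hD : Data M D) {d f : Q} (hd : d ∈ D) (hf : f ∈ D) (h : ¬ Commute d f) {w : M}
    (hw : w ∈ W M d) (hfw : f • w = w) : w = 0 := by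
  obtain ⟨v, rfl⟩ := hw
  exact hD.free d hd f hf h v hfw

/-- Distinct members have disjoint spaces. -/
theorem Data.eq_of_mem (hD : Data M D) {d f : Q} (hd : d ∈ D) (hf : f ∈ D) {w : M} (hw : w ∈ W M d)
    (hw' : w ∈ W M f) (h0 : w ≠ 0) : d = f := by
  refine hD.sep d hd f hf fun g hg => ⟨fun h => ?_, fun h => ?_⟩
  · by_contra hn
    exact h0 (hD.free' hf hg hn hw' (hD.fix' hd hg h hw))
  · by_contra hn
    exact h0 (hD.free' hd hg hn hw (hD.fix' hf hg h hw'))

theorem smul_mem_W (g : Q) {d : Q} {w : M} (hw : w ∈ W M d) : g • w ∈ W M (g * d * g⁻¹) := by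
  obtain ⟨v, rfl⟩ := hw
  refine ⟨g • v, ?_⟩
  simp only [beta_apply, smul_add, mul_smul, inv_smul_smul]

theorem Data.smul_mem (hD : Data M D) {g : Q} (hg : g ∈ D) {d : Q} {w : M} (hw : w ∈ W M d) :
    g • w ∈ W M (g * d * g) := by
  have h := smul_mem_W g hw
  rwa [inv_eq_self hD.cls.1 hg] at h

theorem Data.conj (hD : Data M D) {g : Q} (hg : g ∈ D) {d : Q} (hd : d ∈ D) : g * d * g ∈ D :=
  conj_mem hD.cls.1 (class_conjClosed hD.cls) hg hd

theorem Data.smul_self (hD : Data M D) {d : Q} (hd : d ∈ D) {w : M} (hw : w ∈ W M d) : d • w = w :=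
  hD.fix' hd hd (Commute.refl d) hw

/-- The map between the spaces of two non-commuting members and its inverse. -/
theorem Data.round (hD : Data M D) {d f : Q} (hd : d ∈ D) (hf : f ∈ D) (h : ¬ Commute d f) {x : M}
    (hx : x ∈ W M d) : beta d (beta f x) = x := by
  have h1 : d • f • x ∈ W M f := by
    have h' := hD.smul_mem hd (hD.smul_mem hf hx)
    rwa [show f * d * f = d * f * d from (braid hD.cls.1 hd hf h).symm, conj_conj hD.cls.1 hd] at h'
  have h2 : beta d (beta f x) = d • f • x + beta f x + x := by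
    simp only [beta_apply, smul_add, hD.smul_self hd hx]
    abel
  have hz : beta d (beta f x) + x = d • f • x + beta f x := by
    rw [h2, add_assoc, hD.two, add_zero]
  refine hD.eq_of_add_eq_zero ?_
  by_contra h0
  refine h ?_
  have := hD.eq_of_mem hd hf (w := beta d (beta f x) + x) (add_mem ⟨_, rfl⟩ hx)
    (hz ▸ add_mem h1 ⟨_, rfl⟩) h0
  exact this ▸ Commute.refl d

/-- Three members, pairwise non-commuting and not on a line. -/
theorem Data.triangle (hD : Data M D) {d k m : Q} (hd : d ∈ D) (hk : k ∈ D) (hm : m ∈ D)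
    (hdk : ¬ Commute d k) (hdm : ¬ Commute d m) (hkm : ¬ Commute k m)
    (hdl : ¬ Commute d (k * m * k)) {x y : M} (hx : x ∈ W M k) (hy : y ∈ W M m)
    (hv : x + y ∈ W M d) : x + y = 0 := by
  have hmk : ¬ Commute m k := fun h => hkm h.symm
  have hkd : ¬ Commute k d := fun h => hdk h.symm
  have hmd : ¬ Commute m d := fun h => hdm h.symm
  set v := x + y with hvdef
  have hkv : beta k v = beta k y := by
    rw [hvdef, map_add, beta_apply k x, hD.smul_self hk hx, hD.two, zero_add]
  have hmv : beta m v = beta m x := by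
    rw [hvdef, map_add, beta_apply m y, hD.smul_self hm hy, hD.two, add_zero]
  have hy' : y = beta m (beta k v) := by rw [hkv, hD.round hm hk hmk hy]
  have hx' : x = beta k (beta m v) := by rw [hmv, hD.round hk hm hkm hx]
  have hdv : beta d (beta m (beta k v)) = beta d (beta k (beta m v)) := by
    rw [← hy', ← hx']
    refine hD.eq_of_add_eq_zero ?_
    rw [← map_add, add_comm, ← hvdef, beta_apply, hD.smul_self hd hv, hD.two]
  have hCC : ∀ u ∈ W M d, beta d (beta m (beta k (beta d (beta k (beta m u))))) = u := fun u hu => by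
    rw [hD.round hk hd hkd ⟨_, rfl⟩, hD.round hm hk hmk ⟨_, rfl⟩, hD.round hd hm hdm hu]
  by_contra h0
  obtain ⟨s, hs, hs0, hsC⟩ : ∃ s ∈ W M d, s ≠ 0 ∧ beta d (beta m (beta k s)) = s := by
    by_cases h : v + beta d (beta m (beta k v)) = 0
    · exact ⟨v, hv, h0, (hD.eq_of_add_eq_zero h).symm⟩
    · refine ⟨_, add_mem hv ⟨_, rfl⟩, h, ?_⟩
      conv_lhs => rw [map_add, map_add, map_add, hdv, hCC v hv, add_comm, ← hdv]
  have hl : m • beta k s ∈ W M (m * k * m) := hD.smul_mem hm ⟨_, rfl⟩
  rw [← braid hD.cls.1 hk hm hkm] at hl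
  have hfix : d • (m • beta k s) = m • beta k s := by
    refine (hD.eq_of_add_eq_zero ?_).symm
    calc m • beta k s + d • m • beta k s = beta d (m • beta k s) := rfl
      _ = beta d (beta k s + beta m (beta k s)) := by
          rw [beta_apply m, hD.add_left_cancel_two]
      _ = 0 := by rw [map_add, hsC, hD.round hd hk hdk hs, hD.two]
  have h2 := hD.free' (hD.conj hk hm) hd (fun h => hdl h.symm) hl hfix
  rw [smul_eq_zero_iff_eq] at h2
  exact hs0 (by rw [← hD.round hd hk hdk hs, h2, map_zero])

/-- The spaces of conjugate elements have equal order. -/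
theorem card_W_eq [Finite M] {d f g : Q} (h : g * d * g⁻¹ = f) :
    Nat.card (W M d) ≤ Nat.card (W M f) :=
  Nat.card_le_card_of_injective (fun w => ⟨g • (w : M), h ▸ smul_mem_W g w.2⟩) fun a b hab =>
    Subtype.ext (MulAction.injective g (congrArg Subtype.val hab))

theorem Data.card_eq [Finite M] (hD : Data M D) {d f : Q} (hd : d ∈ D) (hf : f ∈ D) :
    Nat.card (W M d) = Nat.card (W M f) := by
  obtain ⟨g, hg⟩ := class_exists_conj hD.cls hd hf
  obtain ⟨g', hg'⟩ := class_exists_conj hD.cls hf hd
  exact le_antisymm (card_W_eq hg) (card_W_eq hg')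

theorem Data.beta_injOn (hD : Data M D) (hE : Data M E) {e d : Q} (he : e ∈ E) (hd : d ∈ D)
    (hne : e * d * e ≠ d) {a b : M} (ha : a ∈ W M d) (hb : b ∈ W M d) (h : beta e a = beta e b) :
    a = b := by
  have h0 : beta e (a + b) = 0 := by rw [map_add, h, hD.two]
  refine hD.eq_of_add_eq_zero ?_
  by_contra hab
  have hfix : e • (a + b) = a + b := (hD.eq_of_add_eq_zero h0).symm
  have h1 : e • (a + b) ∈ W M (e * d * e) := hE.smul_mem he (add_mem ha hb)
  rw [hfix] at h1
  have hd' : e * d * e ∈ D := by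
    have := class_conjClosed hD.cls e d hd
    rwa [inv_eq_self hE.cls.1 he] at this
  exact hne (hD.eq_of_mem hd hd' (add_mem ha hb) h1 hab).symm

/-- Some member of the other class is moved. -/
theorem exists_moved (hD : Data M D) (hE : Data M E)
    (hc : ∀ u : Q, u * u = 1 → u ∈ Subgroup.center Q → u = 1) {e : Q} (he : e ∈ E) :
    ∃ d ∈ D, e * d * e ≠ d := by
  by_contra hno
  push Not at hno
  refine ne_one_of_mem hE.cls.1 he (hc e (mul_self_eq_one hE.cls.1 he) ?_)
  exact le_center_of_forall hD.cls.2.2 (H := Subgroup.zpowers e) (fun x hx d hd => by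
    obtain ⟨i, rfl⟩ := Subgroup.mem_zpowers_iff.mp hx
    exact (commute_of_conj_eq hE.cls.1 he (hno d hd)).symm.zpow_right i) (Subgroup.mem_zpowers e)

/-- A member of one class equals a member of the other. -/
theorem mem_of_mem [Finite M] (hD : Data M D) (hE : Data M E)
    (hc : ∀ u : Q, u * u = 1 → u ∈ Subgroup.center Q → u = 1) {e : Q} (he : e ∈ E) : e ∈ D := by
  have hee : e * e = 1 := mul_self_eq_one hE.cls.1 he
  have hconj : ∀ {g : Q}, g ∈ D → e * g * e ∈ D := fun {g} hg => by
    have := class_conjClosed hD.cls e g hg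
    rwa [inv_eq_self hE.cls.1 he] at this
  -- the spaces have equal orders and `W d → W e` is onto for moved `d`
  have hle : ∀ {D E : Set Q}, Data M D → Data M E → ∀ e ∈ E, ∀ d ∈ D, e * d * e ≠ d →
      Nat.card (W M d) ≤ Nat.card (W M e) := by
    intro D E hD hE e he d hd hne
    exact Nat.card_le_card_of_injective
      (fun a => (⟨beta e (a : M), ⟨_, rfl⟩⟩ : W M e))
      fun a b h => Subtype.ext (hD.beta_injOn hE he hd hne a.2 b.2 (congrArg Subtype.val h))
  have honto : ∀ d ∈ D, e * d * e ≠ d → ∀ w ∈ W M e, ∃ a ∈ W M d, beta e a = w := by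
    intro d hd hne w hw
    let φ : W M d → W M e := fun a => ⟨beta e (a : M), ⟨_, rfl⟩⟩
    have hinj : Function.Injective φ := fun a b h =>
      Subtype.ext (hD.beta_injOn hE he hd hne a.2 b.2 (congrArg Subtype.val h))
    obtain ⟨f, hf, hfd⟩ := exists_moved hE hD hc hd
    have hcard : Nat.card (W M d) = Nat.card (W M e) := le_antisymm (hle hD hE e he d hd hne)
      ((hE.card_eq he hf).le.trans (hle hE hD d hd f hf hfd))
    obtain ⟨a, ha⟩ := ((Nat.bijective_iff_injective_and_card φ).mpr ⟨hinj, hcard⟩).2 ⟨w, hw⟩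
    exact ⟨a, a.2, congrArg Subtype.val ha⟩
  obtain ⟨w₀, hw₀⟩ := hE.nontrivial e he
  -- moved members are not orthogonal to their images
  have hnc : ∀ d ∈ D, e * d * e ≠ d → ¬ Commute d (e * d * e) := by
    intro d hd hne hcom
    obtain ⟨a, ha, hae⟩ := honto d hd hne (beta e w₀) ⟨_, rfl⟩
    have hfix : d • beta e w₀ = beta e w₀ := by
      rw [← hae, beta_apply, smul_add, hD.smul_self hd ha,
        hD.fix' (hconj hd) hd hcom.symm (hE.smul_mem he ha)]
    have hmem := smul_mem_W (M := M) d (d := e) (w := beta e w₀) ⟨_, rfl⟩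
    rw [hfix] at hmem
    have hf := hE.eq_of_mem he (class_conjClosed hE.cls d e he) ⟨_, rfl⟩ hmem hw₀
    have hde : Commute d e := (mul_inv_eq_iff_eq_mul.mp hf.symm)
    exact hne (conj_eq_of_commute hE.cls.1 he hde.symm)
  -- the members whose space meets that of `e`
  let S : Q → Prop := fun m => m ∈ D ∧ ∃ w ∈ W M e, w ∈ W M m ∧ w ≠ 0
  have hS1 : ∀ {m : Q}, S m → Commute e m := by
    rintro m ⟨hm, w, hwe, hwm, hw⟩
    by_contra hn
    have h1 : e • w ∈ W M (e * m * e) := hE.smul_mem he hwm
    rw [hE.smul_self he hwe] at h1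
    exact hn (commute_of_conj_eq hE.cls.1 he (hD.eq_of_mem hm (hconj hm) hwm h1 hw).symm)
  have hS2 : ∀ {m g : Q}, S m → g ∈ D → Commute g m → e * g * e = g := by
    rintro m g ⟨hm, w, hwe, hwm, hw⟩ hg hgm
    by_contra hne
    obtain ⟨a, ha, rfl⟩ := honto g hg hne w hwe
    have h1 := hD.fix' hm hg hgm.symm hwm
    rw [beta_apply, smul_add, hD.smul_self hg ha, add_right_inj] at h1
    have h2 := hD.free' (hconj hg) hg (fun h => hnc g hg hne h.symm) (hE.smul_mem he ha) h1
    rw [smul_eq_zero_iff_eq] at h2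
    exact hw (by rw [h2, map_zero])
  have hS3 : ∀ {m g : Q}, S m → g ∈ D → e * g * e = g → ¬ Commute m g → S g := by
    rintro m g ⟨hm, w, hwe, hwm, hw⟩ hg hge hn
    refine ⟨hg, beta g w, ?_, ⟨w, rfl⟩, fun h0 => hw ?_⟩
    · refine add_mem hwe ?_
      have h1 := smul_mem_W (M := M) g hwe
      rwa [show g * e * g⁻¹ = e by
        rw [mul_inv_eq_iff_eq_mul]; exact (commute_of_conj_eq hE.cls.1 he hge).symm.eq] at h1
    · exact hD.free' hm hg hn hwm (hD.eq_of_add_eq_zero h0).symm
  -- the third member of the line through a moved `d`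
  have hk : ∀ d ∈ D, e * d * e ≠ d → S (d * (e * d * e) * d) ∧
      ∀ m, S m → m = d * (e * d * e) * d := by
    intro d hd hne
    set d' := e * d * e with hd'
    have hd'D := hconj hd
    have hnc' := hnc d hd hne
    set k := d * d' * d with hkdef
    have hkD : k ∈ D := hD.conj hd hd'D
    have hkd' : k = d' * d * d' := braid hD.cls.1 hd hd'D hnc'
    have hkk := mul_self_eq_one hD.cls.1 hkD
    have hked : k * d' * k = d := by
      rw [hkdef, show d * d' * d * d' * (d * d' * d) = d * (d' * d * d') * (d * d' * d) by group,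
        ← braid hD.cls.1 hd hd'D hnc']
      calc d * (d * d' * d) * (d * d' * d) = (d * d) * d' * (d * d) * d' * d := by group
        _ = (d' * d') * d := by rw [mul_self_eq_one hD.cls.1 hd]; group
        _ = d := by rw [mul_self_eq_one hD.cls.1 hd'D, one_mul]
    have hek : e * k * e = k := by
      calc e * k * e = (e * d * e) * (e * d' * e) * (e * d * e) := by
            rw [hkdef, hd']; group
            simp only [zpow_two, hee, mul_one, one_mul, mul_assoc]
        _ = k := by rw [← hd', hkd', hd', conj_conj hE.cls.1 he]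
    have hkec : Commute e k := commute_of_conj_eq hE.cls.1 he hek
    have hkdk : ¬ Commute d k := fun h => hnc' ((commute_conj_iff hD.cls.1 hkD d d').mp (by
      have h' := conj_eq_of_commute hD.cls.1 hkD h.symm
      rw [hked, h']))
    have hu : ∀ {a : M}, a ∈ W M d → k • e • a ∈ W M d := fun ha => by
      have h := hD.smul_mem hkD (hE.smul_mem he ha)
      rwa [hked] at h
    have huu : ∀ a : M, k • e • k • e • a = a := fun a => by
      rw [smul_smul, smul_smul, smul_smul, show k * e * k * e = 1 by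
        rw [mul_assoc k e k, hkec.eq, ← mul_assoc k k, hkk, one_mul, hee], one_smul]
    obtain ⟨v₀, hv₀⟩ := hD.nontrivial d hd
    obtain ⟨a, ha, ha0, hfa⟩ : ∃ a ∈ W M d, a ≠ 0 ∧ k • e • a = a := by
      by_cases h : beta d v₀ + k • e • beta d v₀ = 0
      · exact ⟨_, ⟨_, rfl⟩, hv₀, (hD.eq_of_add_eq_zero h).symm⟩
      · exact ⟨_, add_mem ⟨_, rfl⟩ (hu ⟨_, rfl⟩), h, by
          simp only [smul_add, huu]; exact add_comm _ _⟩
    have hea : e • a = k • a := by
      conv_rhs => rw [← hfa, smul_smul, hkk, one_smul]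
    have hkS : S k := by
      refine ⟨hkD, beta e a, ⟨_, rfl⟩, ⟨a, ?_⟩, fun h0 => ?_⟩
      · rw [beta_apply, beta_apply, hea]
      · have h1 : e • a ∈ W M d' := hE.smul_mem he ha
        rw [← hD.eq_of_add_eq_zero h0] at h1
        exact hne (hD.eq_of_mem hd hd'D ha h1 ha0).symm
    refine ⟨hkS, fun m hm => ?_⟩
    by_contra hmk
    obtain ⟨hmD, w, hwe, hwm, hw⟩ := id hm
    obtain ⟨b, hb, hbw⟩ := honto d hd hne w hwe
    have hc : beta k (e • b) ∈ W M k := ⟨_, rfl⟩
    have hv : beta k (e • b) + w = b + k • e • b := by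
      rw [← hbw, beta_apply, beta_apply,
        show e • b + k • e • b + (b + e • b) = e • b + (e • b + (b + k • e • b)) by abel,
        hD.add_left_cancel_two]
    have hvd : beta k (e • b) + w ∈ W M d := hv ▸ add_mem hb (hu hb)
    have hv0 : beta k (e • b) + w = 0 := by
      by_cases hkm : Commute k m
      · refine hD.free' hd hkD hkdk hvd ?_
        rw [smul_add, hD.smul_self hkD hc, hD.fix' hmD hkD hkm.symm hwm]
      · refine hD.triangle hd hkD hmD hkdk (fun h => hne (hS2 hm hd h)) hkm
          (fun h => hne (hS2 ⟨hD.conj hkD hmD, k • w, ?_, hD.smul_mem hkD hwm, ?_⟩ hd h)) hc hwm hvd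
        · have h1 := smul_mem_W (M := M) k hwe
          rwa [mul_inv_eq_iff_eq_mul.mpr hkec.symm.eq] at h1
        · rwa [Ne, smul_eq_zero_iff_eq]
    exact hmk (hD.eq_of_mem hmD hkD hwm ((hD.eq_of_add_eq_zero hv0) ▸ hc) hw)
  obtain ⟨d₀, hd₀, hne₀⟩ := exists_moved hD hE hc he
  obtain ⟨hkS, hkU⟩ := hk d₀ hd₀ hne₀
  set k := d₀ * (e * d₀ * e) * d₀
  have hkk := mul_self_eq_one hD.cls.1 hkS.1
  have hall : ∀ g ∈ D, Commute g (e * k) := by
    intro g hg
    by_cases hge : e * g * e = g
    · by_cases hgk : Commute k g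
      · exact (commute_of_conj_eq hE.cls.1 he hge).symm.mul_right hgk.symm
      · exact absurd (hkU g (hS3 hkS hg hge hgk) ▸ Commute.refl k) hgk
    · obtain ⟨hS, -⟩ := hk g hg hge
      have hg' := hconj hg
      have hkg : g * (e * g * e) * g = k := hkU _ hS
      have h1 : k * g * k = e * g * e := by
        rw [← hkg, show g * (e * g * e) * g * g * (g * (e * g * e) * g)
            = g * (e * g * e) * (g * g) * g * (e * g * e) * g by group,
          mul_self_eq_one hD.cls.1 hg, mul_one,
          show g * (e * g * e) * g * (e * g * e) * g = g * ((e * g * e) * g * (e * g * e)) * g by group,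
          ← braid hD.cls.1 hg hg' (hnc g hg hge), conj_conj hD.cls.1 hg]
      show g * (e * k) = e * k * g
      calc g * (e * k) = e * (e * g * e) * k := by
            rw [show e * (e * g * e) * k = (e * e) * g * (e * k) by group, hee, one_mul]
        _ = e * k * g * (k * k) := by rw [← h1]; group
        _ = e * k * g := by rw [hkk, mul_one]
  have hcomm : Commute e k := hS1 hkS
  have h1 := hc (e * k)
    (by rw [← pow_two, hcomm.mul_pow, pow_two, pow_two, hee, hkk, one_mul])
    (le_center_of_forall hD.cls.2.2 (H := Subgroup.zpowers (e * k)) (fun x hx d hd => by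
      obtain ⟨i, rfl⟩ := Subgroup.mem_zpowers_iff.mp hx
      exact (hall d hd).zpow_right i) (Subgroup.mem_zpowers _))
  rw [eq_inv_of_mul_eq_one_left h1, inv_eq_self hD.cls.1 hkS.1]
  exact hkS.1

/-- Two such classes coincide. -/
theorem eq_of_data [Finite M] (hD : Data M D) (hE : Data M E)
    (hc : ∀ u : Q, u * u = 1 → u ∈ Subgroup.center Q → u = 1) : D = E :=
  Set.Subset.antisymm (fun _ h => mem_of_mem hE hD hc h) (fun _ h => mem_of_mem hD hE hc h)

/-- The norm of `d * g` on a vector fixed by `d`. -/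
def nrm (d g : Q) (v : M) : M := v + beta d (g • v)

/-- A lifting: `R d v` says that `d` shifted by `v` belongs to the lifted class. -/
structure Lift (D : Set Q) (R : Q → M → Prop) : Prop where
  exist : ∀ d ∈ D, ∃ v, R d v
  self : ∀ d ∈ D, ∀ v, R d v → d • v = v
  comm : ∀ d ∈ D, ∀ g ∈ D, d ≠ g → Commute d g → ∀ v v', R d v → R g v' → g • v + v' = d • v' + v
  order : ∀ d ∈ D, ∀ g ∈ D, ¬ Commute d g → ∀ v v', R d v → R g v' →
    (g • v + v') + (d * g) • (g • v + v') + (d * g) • (d * g) • (g • v + v') = 0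

/-- A lifting differs from the given one by elements of the commutator spaces. -/
theorem mem_W_of_lift (hD : Data M D) {R : Q → M → Prop} (hR : Lift D R)
    (hc : ∀ u : Q, u * u = 1 → u ∈ Subgroup.center Q → u = 1)
    (hfx : ∀ c : M, (∀ q : Q, q • c = c) → c = 0) {d : Q} (hd : d ∈ D) {v : M} (hv : R d v) :
    v ∈ W M d := by
  have hS := hD.cls.1
  have hperp : ∀ {d g : Q}, d ∈ D → g ∈ D → Commute d g → ∀ {v : M}, R d v → g • v = v := by
    intro d g hd hg hcom v hv
    rcases eq_or_ne d g with rfl | hne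
    · exact hR.self d hd v hv
    obtain ⟨v', hv'⟩ := hR.exist g hg
    have h := hR.comm d hd g hg hne hcom v v' hv hv'
    have h1 : beta g v = beta d v' := by
      rw [beta_apply, beta_apply]
      refine hD.eq_of_add_eq_zero ?_
      rw [show v + g • v + (v' + d • v') = (g • v + v') + (d • v' + v) by abel, h, hD.two]
    refine (hD.eq_of_add_eq_zero (a := v) (b := g • v) ?_).symm
    by_contra h0
    exact hne (hD.eq_of_mem hg hd ⟨v, rfl⟩ (h1 ▸ ⟨v', rfl⟩) h0).symm
  have hnrm : ∀ {d g : Q}, d ∈ D → g ∈ D → ¬ Commute d g → ∀ {v v' : M}, R d v → R g v' →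
      (g • nrm d g v = nrm d g v) ∧ nrm d g v + v ∈ W M d ∧ nrm d g v + v' ∈ W M g ∧
        nrm g d v' = nrm d g v := by
    intro d g hd hg hn v v' hv hv'
    have hdd := mul_self_eq_one hS hd
    have hgg := mul_self_eq_one hS hg
    have hdv := hR.self d hd v hv
    have hgv := hR.self g hg v' hv'
    have hb : g * d * g = d * g * d := (braid hS hd hg hn).symm
    have hfix : g • nrm d g v = nrm d g v := by
      have h : g • d • g • v = d • g • v := by
        rw [smul_smul, smul_smul, hb, mul_smul, hdv, ← mul_smul]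
      simp only [nrm, beta_apply, smul_add, smul_smul g g, hgg, one_smul, h]
      abel
    have hord := hR.order d hd g hg hn v v' hv hv'
    have e1 : (d * g) • g • v = v := by rw [smul_smul, mul_assoc, hgg, mul_one, hdv]
    have e2 : (d * g) • v' = d • v' := by rw [mul_smul, hgv]
    have e3 : (d * g) • v = d • g • v := mul_smul _ _ _
    have e4 : (d * g) • d • v' = g • d • v' := by
      rw [smul_smul, ← hb, mul_smul, hgv, mul_smul]
    simp only [smul_add, e1, e2, e3, e4] at hord
    have hcc : nrm g d v' = nrm d g v := by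
      refine hD.eq_of_add_eq_zero ?_
      rw [← hord]
      simp only [nrm, beta_apply]
      abel
    refine ⟨hfix, ⟨g • v, ?_⟩, ?_, hcc⟩
    · rw [nrm, add_comm v, add_assoc, hD.two, add_zero]
    · rw [← hcc]
      refine ⟨d • v', ?_⟩
      rw [nrm, add_comm v', add_assoc, hD.two, add_zero]
  obtain ⟨g, hg, hn⟩ : ∃ g ∈ D, ¬ Commute d g := by
    by_contra hno
    push Not at hno
    refine ne_one_of_mem hS hd (hc d (mul_self_eq_one hS hd) ?_)
    exact le_center_of_forall hD.cls.2.2 (H := Subgroup.zpowers d) (fun x hx f hf => by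
      obtain ⟨i, rfl⟩ := Subgroup.mem_zpowers_iff.mp hx
      exact (hno f hf).symm.zpow_right i) (Subgroup.mem_zpowers d)
  obtain ⟨v', hv'⟩ := hR.exist g hg
  obtain ⟨hgc, hcd, hcg, -⟩ := hnrm hd hg hn hv hv'
  set c := nrm d g v
  have hback : ∀ {a : Q}, c + v ∈ W M d → a • v = v → a • (c + v) = c + v → a • c = c := by
    intro a _ h1 h2
    rwa [smul_add, h1, add_left_inj] at h2
  have hA : ∀ a ∈ D, Commute d a → a • c = c := fun a ha hda =>
    hback hcd (hperp hd ha hda hv) (hD.fix' hd ha hda hcd)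
  have hall : ∀ a ∈ D, a • c = c := by
    intro a ha
    by_cases hda : Commute d a
    · exact hA a ha hda
    by_cases hga : Commute g a
    · have h1 := hD.fix' hg ha hga hcg
      rwa [smul_add, hperp hg ha hga hv', add_left_inj] at h1
    by_cases hdl : Commute d (g * a * g)
    · have h1 := hA _ (hD.conj hg ha) hdl
      rw [mul_smul, mul_smul, hgc] at h1
      calc a • c = g • g • a • c := by rw [smul_smul g g, mul_self_eq_one hS hg, one_smul]
        _ = c := by rw [h1, hgc]
    obtain ⟨v'', hv''⟩ := hR.exist a ha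
    obtain ⟨hac, hc'd, hc'a, -⟩ := hnrm hd ha hda hv hv''
    obtain ⟨-, h0g, h0a, -⟩ := hnrm hg ha hga hv' hv''
    set c' := nrm d a v
    set c₀ := nrm g a v'
    have hsum : (c + v' + (c₀ + v')) + (c₀ + v'' + (c' + v'')) = (c + v) + (c' + v) := by
      have h2 := hD.two
      calc (c + v' + (c₀ + v')) + (c₀ + v'' + (c' + v''))
          = c + c' + (v' + v') + (c₀ + c₀) + (v'' + v'') := by abel
        _ = c + c' + (v + v) := by rw [h2, h2, h2, h2]; abel
        _ = _ := by abel
    have h0 := hD.triangle hd hg ha hn hda hga hdl (add_mem hcg h0g) (add_mem h0a hc'a)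
      (hsum ▸ add_mem hcd hc'd)
    rw [hsum, show c + v + (c' + v) = c + c' + (v + v) by abel, hD.two, add_zero] at h0
    rw [hD.eq_of_add_eq_zero h0]
    exact hac
  have hc0 : c = 0 := hfx c fun q => by
    have hle : Subgroup.closure D ≤ MulAction.stabilizer Q c := (Subgroup.closure_le _).mpr hall
    rw [hD.cls.2.2] at hle
    exact hle (Subgroup.mem_top q)
  rwa [hc0, zero_add] at hcd

end CfsgLib.ThreeTransp.Module
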