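import Mathlib
import Cfsg.Agent.Lib.ThreeTransp.Classes
import Cfsg.Agent.Lib.ThreeTransp.WidthOne

/-!
Classes in which commuting members are congruent modulo the largest normal 2-subgroup: some Sylow
3-subgroup is normalised by a given member.
-/

set_option autoImplicit false
set_option linter.style.haveILetI false

namespace CfsgLib.ThreeTransp

open Cfsg
open scoped IsMulCommutative
open Pointwise

variable {G : Type*} [Group G] {D : Set G}

/-- The averaging step: a fixed point of an involution with trivial norm is a commutator. -/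
theorem exists_eq_mul_conj_of_prod_eq_one {A : Subgroup G} [A.Normal] [IsMulCommutative A]
    (h2 : ∀ x ∈ A, x * x = 1) {P : Subgroup G} [Fintype P] (hodd : Odd (Nat.card P))
    {y : G} (hy : y * y = 1) (hyP : y ∈ Subgroup.normalizer (P : Set G)) {a : G} (ha : a ∈ A)
    (hya : y * a * y = a)
    (hP0 : ∀ p ∈ P, y * p * y = p → ∃ b ∈ A, p * a * p⁻¹ * a = b * (y * b * y))
    (hnorm : ∀ f : P → A, (∀ p, (f p : G) = p * a * (p : G)⁻¹) → ∏ p, f p = 1) :
    ∃ b ∈ A, a = b * (y * b * y) := by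
  classical
  have hyinv : y⁻¹ = y := inv_eq_of_mul_eq_one_right hy
  have hconjA : ∀ x ∈ A, y * x * y ∈ A := fun x hx => by
    have := Subgroup.Normal.conj_mem inferInstance x hx y
    rwa [hyinv] at this
  -- the homomorphism `b ↦ b * b ^ y`
  let φ : A →* A :=
    { toFun := fun b => b * ⟨y * b * y, hconjA b b.2⟩
      map_one' := Subtype.ext (by simp [hy])
      map_mul' := fun b c => by
        refine Subtype.ext ?_
        show (b : G) * c * (y * ((b : G) * c) * y) = b * (y * b * y) * (c * (y * c * y))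
        have hsw : (c : G) * (y * b * y) = y * b * y * c :=
          congrArg Subtype.val (mul_comm c ⟨y * b * y, hconjA b b.2⟩)
        have hy' : y * ((b : G) * c) * y = y * b * y * (y * c * y) := by
          rw [show y * (b : G) * y * (y * c * y) = y * b * (y * y) * c * y by group, hy]
          group
        rw [hy', show (b : G) * c * (y * b * y * (y * c * y)) = b * (c * (y * b * y)) * (y * c * y) by
          group, hsw]
        group }
  set q := QuotientGroup.mk' φ.range
  let bar : P → P := fun p => ⟨y * p * y, by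
    have := (Subgroup.mem_normalizer_iff.mp hyP (p : G)).mp p.2
    rwa [hyinv] at this⟩
  let f : P → A := fun p => ⟨p * a * (p : G)⁻¹, Subgroup.Normal.conj_mem inferInstance a ha p⟩
  have hsq : ∀ z : A ⧸ φ.range, z * z = 1 := by
    intro z
    obtain ⟨x, rfl⟩ := QuotientGroup.mk'_surjective _ z
    rw [← map_mul, show x * x = 1 from Subtype.ext (h2 x x.2), map_one]
  have hpair : ∀ p : P, q (f p) * q (f (bar p)) = 1 := by
    intro p
    rw [← map_mul]
    refine (QuotientGroup.eq_one_iff _).mpr ⟨f p, ?_⟩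
    show f p * _ = f p * f (bar p)
    congr 1
    refine Subtype.ext ?_
    show y * ((p : G) * a * (p : G)⁻¹) * y = y * p * y * a * (y * p * y)⁻¹
    rw [mul_inv_rev, mul_inv_rev, hyinv]
    conv_rhs => rw [show y * (p : G) * y * a * (y * ((p : G)⁻¹ * y))
      = y * p * (y * a * y) * (p : G)⁻¹ * y by group, hya]
    group
  have hfix : ∀ p : P, bar p = p → q (f p) = q ⟨a, ha⟩ := by
    intro p hp
    obtain ⟨b, hb, hb'⟩ := hP0 p p.2 (congrArg Subtype.val hp)
    have h1 : q (f p * ⟨a, ha⟩) = 1 :=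
      (QuotientGroup.eq_one_iff _).mpr ⟨⟨b, hb⟩, Subtype.ext hb'.symm⟩
    rw [map_mul] at h1
    rw [eq_inv_of_mul_eq_one_left h1, inv_eq_of_mul_eq_one_right (hsq _)]
  have hbar : ∀ p, bar (bar p) = p := fun p => Subtype.ext (by
    show y * (y * p * y) * y = p
    rw [show y * (y * (p : G) * y) * y = (y * y) * p * (y * y) by group, hy, one_mul, mul_one])
  have hsplit := Finset.prod_filter_mul_prod_filter_not Finset.univ (fun p => bar p = p)
    (fun p => q (f p))
  have hmove : ∏ p ∈ Finset.univ.filter (fun p => ¬ bar p = p), q (f p) = 1 :=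
    Finset.prod_involution (fun p _ => bar p) (fun p _ => hpair p)
      (fun p hp _ => (Finset.mem_filter.mp hp).2)
      (fun p hp => Finset.mem_filter.mpr ⟨Finset.mem_univ _, fun h => (Finset.mem_filter.mp hp).2
        (by rw [hbar] at h; exact h.symm)⟩)
      (fun p _ => hbar p)
  have hfixed : ∏ p ∈ Finset.univ.filter (fun p => bar p = p), q (f p) = q ⟨a, ha⟩ := by
    rw [Finset.prod_congr rfl (fun p hp => hfix p (Finset.mem_filter.mp hp).2), Finset.prod_const]
    have hcardodd : Odd (Finset.univ.filter (fun p => bar p = p)).card := by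
      -- the fixed points form a subgroup
      let P₀ : Subgroup P :=
        { carrier := {p | bar p = p}
          one_mem' := Subtype.ext (by show y * 1 * y = 1; rw [mul_one, hy])
          mul_mem' := fun {p r} hp hr => Subtype.ext (by
            have e1 : y * (p : G) * y = p := congrArg Subtype.val hp
            have e2 : y * (r : G) * y = r := congrArg Subtype.val hr
            show y * ((p : G) * r) * y = p * r
            calc y * ((p : G) * r) * y = y * p * (y * y) * r * y := by rw [hy]; group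
              _ = (y * p * y) * (y * r * y) := by group
              _ = p * r := by rw [e1, e2])
          inv_mem' := fun {p} hp => Subtype.ext (by
            have e1 : y * (p : G) * y = p := congrArg Subtype.val hp
            show y * (p : G)⁻¹ * y = (p : G)⁻¹
            conv_rhs => rw [← e1]
            rw [mul_inv_rev, mul_inv_rev, hyinv, mul_assoc]) }
      have h3 : (Finset.univ.filter (fun p => bar p = p)).card = Nat.card P₀ := by
        rw [← Set.ncard_coe_finset, ← Nat.card_coe_set_eq]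
        exact Nat.card_congr (Equiv.setCongr (by ext p; simp [P₀]))
      rw [h3]
      exact hodd.of_dvd_nat (Subgroup.card_subgroup_dvd_card P₀)
    obtain ⟨k, hk⟩ := hcardodd
    rw [hk, pow_succ, pow_mul, pow_two, hsq, one_pow, one_mul]
  rw [hfixed, hmove, mul_one, ← map_prod, hnorm f (fun p => rfl), map_one] at hsplit
  obtain ⟨b, hb⟩ := (QuotientGroup.eq_one_iff _).mp hsplit
  exact ⟨b, b.2, (congrArg Subtype.val hb).symm⟩

theorem exists_invariant_sylow_three.{u} {G : Type u} [Group G] [Finite G] {D : Set G}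
    (hD : IsThreeTranspositionClass D)
    (hH : ∀ a ∈ D, ∀ b ∈ D, Commute a b → a * b ∈ Cfsg.pCore 2 G) {d : G} (hd : d ∈ D) :
    ∃ P : Sylow 3 G, d ∈ Subgroup.normalizer (P : Set G) := by
  haveI : Fact (Nat.Prime 2) := ⟨Nat.prime_two⟩
  haveI : Fact (Nat.Prime 3) := ⟨Nat.prime_three⟩
  obtain ⟨n, hn⟩ : ∃ n, Nat.card G = n := ⟨_, rfl⟩
  induction n using Nat.strong_induction_on generalizing G with
  | _ n IH =>
  have hS := hD.1
  have hc := class_conjClosed hD
  haveI := Fitting.pCore_normal (G := G) 2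
  haveI := Fitting.pCore_normal (G := G) 3
  by_cases hD2 : ∃ a ∈ D, ∃ b ∈ D, a ≠ b
  swap
  · push_neg at hD2
    obtain ⟨P⟩ : Nonempty (Sylow 3 G) := Sylow.nonempty
    have htop : (⊤ : Subgroup G) ≤ Subgroup.zpowers d := by
      rw [← hD.2.2, Subgroup.closure_le]
      exact fun e he => hD2 e he d hd ▸ Subgroup.mem_zpowers d
    refine ⟨P, Subgroup.mem_normalizer_fintype fun x hx => ?_⟩
    obtain ⟨k, rfl⟩ := Subgroup.mem_zpowers_iff.mp (htop (Subgroup.mem_top x))
    simpa [((Commute.refl d).zpow_right k).eq] using hx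
  rcases eq_or_ne (Cfsg.pCore 2 G) ⊥ with hbot | hbot
  · have hw : ∀ a ∈ D, ∀ b ∈ D, Commute a b → a = b := fun a ha b hb h => by
      have h1 := hH a ha b hb h
      rw [hbot, Subgroup.mem_bot] at h1
      rw [eq_inv_of_mul_eq_one_left h1, inv_eq_self hS hb]
    obtain ⟨P, hP⟩ := (Fitting.pCore_isPGroup (G := G) 3).exists_le_sylow
    refine ⟨P, ?_⟩
    have htop : (⊤ : Subgroup G) ≤ Subgroup.zpowers d ⊔ Cfsg.pCore 3 G := by
      rw [← hD.2.2, Subgroup.closure_le]
      intro e he
      rw [← mul_self_cancel hS hd e]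
      exact mul_mem (Subgroup.mem_sup_left (Subgroup.mem_zpowers d))
        (Subgroup.mem_sup_right (mul_mem_pCore_three hS hc hD.2.2 hw hd he))
    have heq : (P : Subgroup G) ≤ Cfsg.pCore 3 G := by
      intro x hx
      obtain ⟨z, hz, w, hw', rfl⟩ := Subgroup.mem_sup_of_normal_right.mp (htop (Subgroup.mem_top x))
      obtain ⟨k, rfl⟩ := Subgroup.mem_zpowers_iff.mp hz
      have hzP : d ^ k ∈ (P : Subgroup G) := by
        simpa using mul_mem hx (inv_mem (hP hw'))
      have h1 : orderOf (d ^ k) ∣ 2 := orderOf_dvd_of_pow_eq_one (by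
        rw [pow_two, ← (Commute.refl d).mul_zpow, mul_self_eq_one hS hd, one_zpow])
      obtain ⟨j, hj⟩ := P.isPGroup' ⟨_, hzP⟩
      have h2 : (d ^ k) ^ 3 ^ j = 1 := by simpa using congrArg Subtype.val hj
      have := Nat.dvd_gcd h1 (orderOf_dvd_of_pow_eq_one h2)
      rw [(Nat.Coprime.pow_right j (by norm_num : Nat.Coprime 2 3)).gcd_eq_one] at this
      rw [orderOf_eq_one_iff.mp (Nat.dvd_one.mp this), one_mul]
      exact hw'
    show d ∈ Subgroup.normalizer ((P : Subgroup G) : Set G)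
    rw [le_antisymm heq hP]
    rw [Subgroup.normalizer_eq_top_iff.mpr (Fitting.pCore_normal (G := G) 3)]
    exact Subgroup.mem_top d
  -- a minimal normal subgroup inside the centre of the 2-core
  set O := Cfsg.pCore 2 G
  have hOp : IsPGroup 2 O := Fitting.pCore_isPGroup 2
  haveI : Nontrivial O := (Subgroup.nontrivial_iff_ne_bot _).mpr hbot
  set Z := (Subgroup.center O).map O.subtype
  have hZ : Z ≠ ⊥ := fun h => by
    haveI := hOp.center_nontrivial
    rw [Subgroup.map_eq_bot_iff_of_injective _ O.subtype_injective] at h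
    exact (Subgroup.nontrivial_iff_ne_bot _).mp inferInstance h
  haveI : Finite (Subgroup G) := Finite.of_injective (fun H => (H : Set G)) SetLike.coe_injective
  obtain ⟨A, hA⟩ := exists_minimal_of_wellFoundedLT
    (fun B : Subgroup G => B.Normal ∧ B ≤ Z ∧ B ≠ ⊥) ⟨Z, inferInstance, le_rfl, hZ⟩
  obtain ⟨hAn, hAZ, hAne⟩ := hA.prop
  haveI := hAn
  have hAO : A ≤ O := hAZ.trans (Subgroup.map_subtype_le _)
  have hAp : IsPGroup 2 A := hOp.to_le hAO
  have hAc : ∀ x ∈ A, ∀ o ∈ O, x * o = o * x := by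
    intro x hx o ho
    obtain ⟨z, hz, rfl⟩ := hAZ hx
    exact (congrArg Subtype.val (Subgroup.mem_center_iff.mp hz ⟨o, ho⟩)).symm
  have habA : IsMulCommutative A := ⟨⟨fun x z => Subtype.ext (hAc x x.2 z (hAO z.2))⟩⟩
  have h2A : ∀ x ∈ A, x * x = 1 := by
    let B : Subgroup G :=
      { carrier := {x | x ∈ A ∧ x * x = 1}
        one_mem' := ⟨A.one_mem, one_mul 1⟩
        mul_mem' := fun {x z} hx hz => ⟨A.mul_mem hx.1 hz.1, by
          rw [show x * z * (x * z) = x * (z * x) * z by group, ← hAc x hx.1 z (hAO hz.1),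
            show x * (x * z) * z = (x * x) * (z * z) by group, hx.2, hz.2, one_mul]⟩
        inv_mem' := fun {x} hx => ⟨A.inv_mem hx.1, by rw [← mul_inv_rev, hx.2, inv_one]⟩ }
    haveI : B.Normal := ⟨fun x hx g => ⟨hAn.conj_mem x hx.1 g, by
      rw [show g * x * g⁻¹ * (g * x * g⁻¹) = g * (x * x) * g⁻¹ by group, hx.2]; group⟩⟩
    have hBne : B ≠ ⊥ := by
      haveI : Nontrivial A := (Subgroup.nontrivial_iff_ne_bot _).mpr hAne
      obtain ⟨k, hk, hcard⟩ := hAp.nontrivial_iff_card.mp inferInstance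
      obtain ⟨x, hx⟩ := exists_prime_orderOf_dvd_card' (G := A) 2 (by rw [hcard]; exact dvd_pow_self 2 hk.ne')
      intro h
      have hmem : (x : G) ∈ B := ⟨x.2, by
        have h3 := pow_orderOf_eq_one x
        rw [hx, pow_two] at h3
        simpa using congrArg Subtype.val h3⟩
      rw [h, Subgroup.mem_bot] at hmem
      rw [← Subgroup.orderOf_coe, hmem, orderOf_one] at hx
      norm_num at hx
    intro x hx
    have hBA : B ≤ A := fun z hz => hz.1
    exact ((hA.le_of_le ⟨inferInstance, hBA.trans hAZ, hBne⟩ hBA) hx).2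
  -- pass to the quotient by `A`
  set π := QuotientGroup.mk' A
  have hπ := QuotientGroup.mk'_surjective A
  have hne : ∀ e ∈ D, π e ≠ 1 := by
    intro e he h
    have heO : e ∈ O := hAO ((QuotientGroup.eq_one_iff e).mp h)
    obtain ⟨a, ha, b, hb, hab⟩ := hD2
    have hall : ∀ f ∈ D, f ∈ O := fun f hf => by
      obtain ⟨g, rfl⟩ := class_exists_conj hD he hf
      exact Subgroup.Normal.conj_mem inferInstance e heO g
    exact hab ((eq_of_forall_commute hD ha (fun f hf =>
      commute_of_mem_two_group hS hOp ha hf (hall a ha) (hall f hf)) ha).trans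
      (eq_of_forall_commute hD ha (fun f hf =>
        commute_of_mem_two_group hS hOp ha hf (hall a ha) (hall f hf)) hb).symm)
  have hlt : Nat.card (G ⧸ A) < n := by
    rw [← hn, Subgroup.card_eq_card_quotient_mul_card_subgroup A]
    exact lt_mul_of_one_lt_right Nat.card_pos (A.one_lt_card_iff_ne_bot.mpr hAne)
  have hH' : ∀ a ∈ π '' D, ∀ b ∈ π '' D, Commute a b → a * b ∈ Cfsg.pCore 2 (G ⧸ A) := by
    haveI := Fitting.pCore_normal (G := G ⧸ A) 2
    rintro _ ⟨a, ha, rfl⟩ _ ⟨b, hb, rfl⟩ hcomm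
    rcases eq_or_commute_of_map_commute π hS ha hb hcomm with h | h
    · rw [h, ← map_mul, mul_self_eq_one hS hb, map_one]; exact one_mem _
    · rw [← map_mul]
      exact Fitting.le_pCore (Subgroup.Normal.map inferInstance π hπ) (hOp.map π)
        ⟨_, hH a ha b hb h, rfl⟩
  obtain ⟨Pb, hPb⟩ := IH _ hlt (class_image π hπ hD hne) hH' ⟨d, hd, rfl⟩ rfl
  obtain ⟨P₁⟩ : Nonempty (Sylow 3 G) := Sylow.nonempty
  obtain ⟨gb, hgb⟩ := MulAction.exists_smul_eq (G ⧸ A) (P₁.mapSurjective hπ) Pb
  obtain ⟨g, rfl⟩ := hπ gb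
  set P := g • P₁
  have hPimg : (P : Subgroup G).map π = (Pb : Subgroup (G ⧸ A)) := by
    rw [← hgb]
    show ((g • P₁ : Sylow 3 G) : Subgroup G).map π
      = ((π g • P₁.mapSurjective hπ : Sylow 3 (G ⧸ A)) : Subgroup (G ⧸ A))
    rw [Sylow.coe_subgroup_smul, Sylow.coe_subgroup_smul, Sylow.coe_mapSurjective]
    ext z
    constructor
    · rintro ⟨_, ⟨x, hx, rfl⟩, rfl⟩
      exact ⟨π x, ⟨x, hx, rfl⟩, by simp [MulAut.conj, π]⟩
    · rintro ⟨_, ⟨x, hx, rfl⟩, rfl⟩
      exact ⟨g * x * g⁻¹, ⟨x, hx, rfl⟩, by simp [MulAut.conj, π]⟩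
  set Q := (P : Subgroup G) ⊔ A
  have hQ : Q = (Pb : Subgroup (G ⧸ A)).comap π := by
    rw [← hPimg, Subgroup.comap_map_eq, QuotientGroup.ker_mk']
  have hdQ : ∀ x ∈ Q, d * x * d⁻¹ ∈ Q := by
    intro x hx
    rw [hQ, Subgroup.mem_comap] at hx ⊢
    rw [map_mul, map_mul, map_inv]
    exact (Subgroup.mem_normalizer_iff.mp hPb _).mp hx
  -- a translate of `d` by an element of `A` normalises `P`
  obtain ⟨a₀, ha₀, hy₀⟩ : ∃ a ∈ A, d * a ∈ Subgroup.normalizer ((P : Subgroup G) : Set G) := by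
    set P' := MulAut.conj d • P
    have hP'Q : (P' : Subgroup G) ≤ Q := by
      show ((MulAut.conj d • P : Sylow 3 G) : Subgroup G) ≤ Q
      rintro x hx
      obtain ⟨z, hz, rfl⟩ := hx
      exact hdQ z (Subgroup.mem_sup_left hz)
    obtain ⟨k, hk⟩ := MulAction.exists_smul_eq Q (P'.subtype hP'Q) (P.subtype (le_sup_left : (P : Subgroup G) ≤ Q))
    obtain ⟨p, hp, c, hc', hkeq⟩ := Subgroup.mem_sup_of_normal_right.mp k.2
    have hkey : ∀ z ∈ (P : Subgroup G), (k : G) * (d * z * d⁻¹) * (k : G)⁻¹ ∈ (P : Subgroup G) := by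
      intro z hz
      have h1 : (⟨d * z * d⁻¹, hdQ z (Subgroup.mem_sup_left hz)⟩ : Q) ∈ P'.subtype hP'Q :=
        Subgroup.mem_subgroupOf.mpr ⟨z, hz, rfl⟩
      have h2 : k * ⟨d * z * d⁻¹, hdQ z (Subgroup.mem_sup_left hz)⟩ * k⁻¹ ∈ ((P.subtype (le_sup_left : (P : Subgroup G) ≤ Q) : Sylow 3 Q) : Subgroup Q) := by
        rw [← hk]
        show _ ∈ ((k • P'.subtype hP'Q : Sylow 3 Q) : Subgroup Q)
        rw [Sylow.coe_subgroup_smul]
        exact Subgroup.smul_mem_pointwise_smul _ (MulAut.conj k) _ h1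
      simpa using Subgroup.mem_subgroupOf.mp h2
    refine ⟨d⁻¹ * c * d, by simpa using hAn.conj_mem c hc' d⁻¹, ?_⟩
    refine Subgroup.mem_normalizer_fintype fun z hz => ?_
    have h1 := hkey z hz
    rw [← hkeq] at h1
    have h2 := mul_mem (mul_mem (inv_mem hp) h1) hp
    rw [show p⁻¹ * (p * c * (d * z * d⁻¹) * (p * c)⁻¹) * p = c * (d * z * d⁻¹) * c⁻¹ by group] at h2
    rw [show d * (d⁻¹ * c * d) * z * (d * (d⁻¹ * c * d))⁻¹ = c * (d * z * d⁻¹) * c⁻¹ by group]
    exact h2
  -- adjust so that the norm over `P` is trivial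
  classical
  letI : Fintype (P : Subgroup G) := Fintype.ofFinite _
  haveI := habA
  let cj : ↥(P : Subgroup G) → A →* A := fun p =>
    { toFun := fun x => ⟨p * x * (p : G)⁻¹, hAn.conj_mem x x.2 p⟩
      map_one' := Subtype.ext (by simp)
      map_mul' := fun x z => Subtype.ext (by
        show (p : G) * ((x : G) * z) * (p : G)⁻¹ = p * x * (p : G)⁻¹ * (p * z * (p : G)⁻¹)
        group) }
  set τ : A := ∏ p, cj p ⟨a₀, ha₀⟩
  have hτfix : ∀ r : (P : Subgroup G), cj r τ = τ := by
    intro r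
    rw [map_prod]
    refine Fintype.prod_equiv (Equiv.mulLeft r) _ _ fun p => Subtype.ext ?_
    show (r : G) * ((p : G) * a₀ * (p : G)⁻¹) * (r : G)⁻¹ = (r * p : G) * a₀ * (r * p : G)⁻¹
    group
  have hPodd : Odd (Nat.card (P : Subgroup G)) := by
    obtain ⟨k, hk⟩ := P.isPGroup'.exists_card_eq
    rw [hk]
    exact Odd.pow (by decide)
  have hA2 : ∀ x : A, x * x = 1 := fun x => Subtype.ext (h2A x x.2)
  set a : A := ⟨a₀, ha₀⟩ * τ
  have hnorm : ∏ p, cj p a = 1 := by
    simp only [a, map_mul, Finset.prod_mul_distrib, hτfix, Finset.prod_const, Finset.card_univ]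
    rw [← Nat.card_eq_fintype_card]
    obtain ⟨k, hk⟩ := hPodd
    rw [hk, pow_succ, pow_mul, pow_two, hA2, one_pow, one_mul]
    exact hA2 τ
  set y := d * (a : G)
  have hyN : y ∈ Subgroup.normalizer ((P : Subgroup G) : Set G) := by
    have hτN : (τ : G) ∈ Subgroup.normalizer ((P : Subgroup G) : Set G) := by
      refine Subgroup.mem_normalizer_fintype fun z hz => ?_
      have h1 := congrArg Subtype.val (hτfix ⟨z, hz⟩)
      change z * (τ : G) * z⁻¹ = τ at h1
      rw [show (τ : G) * z * (τ : G)⁻¹ = z by rw [← mul_inv_eq_iff_eq_mul.mp h1, mul_inv_cancel_right]]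
      exact hz
    rw [show y = d * a₀ * (τ : G) by simp [y, a, mul_assoc]]
    exact mul_mem hy₀ hτN
  have hA_conj : ∀ x ∈ A, d * x * d ∈ A := fun x hx => by
    have := hAn.conj_mem x hx d
    rwa [conj_eq hS hd] at this
  -- `y` is an involution
  have hy2mem : y * y ∈ A := by
    rw [show y * y = d * (a : G) * d * a by simp [y, mul_assoc]]
    exact A.mul_mem (hA_conj a a.2) a.2
  have hyconj : ∀ x ∈ A, y * x * y⁻¹ = d * x * d := fun x hx => by
    rw [show y * x * y⁻¹ = d * ((a : G) * x) * (a : G)⁻¹ * d⁻¹ by simp [y, mul_assoc],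
      hAc a a.2 x (hAO hx), inv_eq_self hS hd]
    group
  have hy2 : y * y = 1 := by
    have hfixed : ∀ r : (P : Subgroup G), cj r ⟨y * y, hy2mem⟩ = ⟨y * y, hy2mem⟩ := by
      intro r
      refine Subtype.ext ?_
      show (r : G) * (y * y) * (r : G)⁻¹ = y * y
      have h1 : (y * y) * (r : G) * (y * y)⁻¹ * (r : G)⁻¹ ∈ (P : Subgroup G) :=
        mul_mem ((Subgroup.mem_normalizer_iff.mp (mul_mem hyN hyN) _).mp r.2) (inv_mem r.2)
      have h2 : (y * y) * (r : G) * (y * y)⁻¹ * (r : G)⁻¹ ∈ A := by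
        rw [show y * y * (r : G) * (y * y)⁻¹ * (r : G)⁻¹ = y * y * ((r : G) * (y * y)⁻¹ * (r : G)⁻¹) by
          group]
        exact A.mul_mem hy2mem (hAn.conj_mem _ (A.inv_mem hy2mem) r)
      have h3 : (y * y) * (r : G) * (y * y)⁻¹ * (r : G)⁻¹ = 1 := by
        obtain ⟨i, hi⟩ := P.isPGroup' ⟨_, h1⟩
        obtain ⟨j, hj⟩ := hAp ⟨_, h2⟩
        have hi' := congrArg Subtype.val hi
        have hj' := congrArg Subtype.val hj
        simp only [SubgroupClass.coe_pow, OneMemClass.coe_one] at hi' hj'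
        have := Nat.dvd_gcd (orderOf_dvd_of_pow_eq_one hi') (orderOf_dvd_of_pow_eq_one hj')
        rw [(Nat.Coprime.pow _ _ (by norm_num : Nat.Coprime 3 2)).gcd_eq_one] at this
        exact orderOf_eq_one_iff.mp (Nat.dvd_one.mp this)
      rw [mul_inv_eq_one, mul_inv_eq_iff_eq_mul] at h3
      rw [mul_inv_eq_iff_eq_mul]
      exact h3.symm
    have h1 : ∏ p, cj p ⟨y * y, hy2mem⟩ = ⟨y * y, hy2mem⟩ := by
      rw [Finset.prod_congr rfl (fun p _ => hfixed p), Finset.prod_const, Finset.card_univ,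
        ← Nat.card_eq_fintype_card]
      obtain ⟨k, hk⟩ := hPodd
      rw [hk, pow_succ, pow_mul, pow_two, hA2, one_pow, one_mul]
    have h2 : (⟨y * y, hy2mem⟩ : A) = ⟨y * (a : G) * y⁻¹, hAn.conj_mem a a.2 y⟩ * a := Subtype.ext (by
      show y * y = y * (a : G) * y⁻¹ * a
      rw [hyconj a a.2]
      simp [y, mul_assoc])
    have h3 : ∏ p : (P : Subgroup G), cj p ⟨y * (a : G) * y⁻¹, hAn.conj_mem a a.2 y⟩ = 1 := by
      let cy : A →* A :=
        { toFun := fun x => ⟨y * x * y⁻¹, hAn.conj_mem x x.2 y⟩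
          map_one' := Subtype.ext (by simp)
          map_mul' := fun x z => Subtype.ext (by
            show y * ((x : G) * z) * y⁻¹ = y * x * y⁻¹ * (y * z * y⁻¹)
            group) }
      rw [← map_one cy, ← hnorm, map_prod]
      refine Fintype.prod_equiv
        ⟨fun p => ⟨y⁻¹ * p * y, (Subgroup.mem_normalizer_iff''.mp hyN _).mp p.2⟩,
          fun p => ⟨y * p * y⁻¹, (Subgroup.mem_normalizer_iff.mp hyN _).mp p.2⟩,
          fun p => Subtype.ext (by simp [mul_assoc]), fun p => Subtype.ext (by simp [mul_assoc])⟩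
        _ _ fun p => Subtype.ext ?_
      show (p : G) * (y * a * y⁻¹) * (p : G)⁻¹ = y * (y⁻¹ * p * y * a * (y⁻¹ * p * y)⁻¹) * y⁻¹
      group
    have h4 : (⟨y * y, hy2mem⟩ : A) = 1 := by
      rw [← h1, h2]
      simp only [map_mul, Finset.prod_mul_distrib, h3, hnorm, mul_one]
    exact congrArg Subtype.val h4
  have hyinv : y⁻¹ = y := inv_eq_of_mul_eq_one_right hy2
  have hyfix : y * (a : G) * y = a := by
    have h1 := hyconj a a.2
    rw [hyinv] at h1
    have h2 : d * (a : G) * d * a = 1 := by rw [← hy2]; simp [y, mul_assoc]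
    rw [h1, eq_inv_of_mul_eq_one_left h2, inv_eq_of_mul_eq_one_right (h2A a a.2)]
  obtain ⟨b, hb, hab'⟩ : ∃ b ∈ A, (a : G) = b * (y * b * y) := by
    refine exists_eq_mul_conj_of_prod_eq_one (A := A) h2A hPodd hy2 hyN a.2 hyfix ?_ ?_
    · -- the fixed points of `y` in `P`
      intro p hp hpy
      have hpy' : p * y * p⁻¹ = y := by
        rw [mul_inv_eq_iff_eq_mul]
        calc p * y = (y * p * y) * y := by rw [hpy]
          _ = y * p * (y * y) := by group
          _ = y * p := by rw [hy2, mul_one]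
      have hd1 : d = y * (a : G) := by
        rw [show y * (a : G) = d * ((a : G) * a) by simp [y, mul_assoc], h2A a a.2, mul_one]
      set a' := p * (a : G) * p⁻¹
      have ha' : a' ∈ A := hAn.conj_mem a a.2 p
      have hdp : p * d * p⁻¹ = y * a' := by
        rw [hd1, show p * (y * (a : G)) * p⁻¹ = (p * y * p⁻¹) * (p * (a : G) * p⁻¹) by group, hpy']
      have hyA : ∀ x ∈ A, y * x * y ∈ A := fun x hx => by
        have := hAn.conj_mem x hx y; rwa [hyinv] at this
      rcases eq_or_ne (p * d * p⁻¹) d with heq | hne'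
      · refine ⟨1, A.one_mem, ?_⟩
        have h5 : a' = (a : G) := mul_left_cancel (hdp.symm.trans (heq.trans hd1))
        show a' * (a : G) = 1 * (y * 1 * y)
        rw [h5, h2A a a.2, mul_one, one_mul, hy2]
      have hmemA : d * (p * d * p⁻¹) ∈ A := by
        rw [hdp, hd1, show y * (a : G) * (y * a') = (y * a * y) * a' by group, hyfix]
        exact A.mul_mem a.2 ha'
      have hperp := perpEq_of_mul_mem hS hAp hd (hc p d hd) hmemA
      obtain ⟨e, he, hde⟩ := exists_not_commute hD hD2 hd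
      obtain ⟨g', hg', hg''⟩ := exists_conj_of_mul_mem hS hd (hc p d hd) he hmemA
        (commute_of_perpEq hS hd hperp).symm (fun h => hde h.symm)
        (fun h => hde ((hperp e he).mpr h.symm))
      refine ⟨g', hg', ?_⟩
      show a' * (a : G) = g' * (y * g' * y)
      have ginv : g'⁻¹ = g' := inv_eq_of_mul_eq_one_right (h2A g' hg')
      rw [hdp, hd1, ginv] at hg''
      have h5 : a' = (y * g' * y) * (a * g') := by
        rw [← mul_self_cancel_left_of hy2 a', hg'']; group
      rw [h5, hAc (a : G) a.2 g' (hAO hg'),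
        show y * g' * y * (g' * (a : G)) * a = y * g' * y * g' * ((a : G) * a) by group,
        h2A a a.2, mul_one]
      exact (hAc g' hg' _ (hAO (hyA g' hg'))).symm
    · intro f hf
      rw [← hnorm]
      exact Finset.prod_congr rfl fun p _ => Subtype.ext (hf p)
  -- the member `d` is conjugate to `y` under `A`
  have hd_eq : d = b * y * b⁻¹ := by
    have h1 : d = y * (a : G) := by
      rw [show y * (a : G) = d * ((a : G) * a) by simp [y, mul_assoc], h2A a a.2, mul_one]
    rw [h1, hab', inv_eq_of_mul_eq_one_right (h2A b hb), hAc b hb (y * b * y)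
      (hAO (by have := hAn.conj_mem b hb y; rwa [hyinv] at this))]
    rw [show y * (y * b * y * b) = (y * y) * b * y * b by group, hy2, one_mul]
  refine ⟨b • P, ?_⟩
  rw [hd_eq]
  refine Subgroup.mem_normalizer_fintype fun z hz => ?_
  obtain ⟨w, hw, rfl⟩ : z ∈ MulAut.conj b • (P : Subgroup G) := hz
  refine ⟨y * w * y⁻¹, (Subgroup.mem_normalizer_iff.mp hyN w).mp hw, ?_⟩
  simp [mul_assoc]
where
  mul_self_cancel_left_of {G : Type u} [Group G] {y : G} (hy : y * y = 1) (x : G) : y * (y * x) = x := by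
    rw [← mul_assoc, hy, one_mul]

theorem sup_eq_top_of_perp [Finite G] (hD : IsThreeTranspositionClass D)
    (hH : ∀ a ∈ D, ∀ b ∈ D, Commute a b → a * b ∈ Cfsg.pCore 2 G) {d : G} (hd : d ∈ D)
    (P : Sylow 3 G) : Subgroup.zpowers d ⊔ (P : Subgroup G) ⊔ Cfsg.pCore 2 G = ⊤ := by
  haveI : Fact (Nat.Prime 3) := ⟨Nat.prime_three⟩
  haveI := Fitting.pCore_normal (G := G) 2
  have hS := hD.1
  set O := Cfsg.pCore 2 G
  set π := QuotientGroup.mk' O
  have hπ := QuotientGroup.mk'_surjective O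
  by_cases hdO : d ∈ O
  · refine eq_top_iff.mpr (hD.2.2 ▸ (Subgroup.closure_le _).mpr fun e he => Subgroup.mem_sup_right ?_)
    obtain ⟨g, rfl⟩ := class_exists_conj hD hd he
    exact Subgroup.Normal.conj_mem inferInstance d hdO g
  have hne : ∀ e ∈ D, π e ≠ 1 := fun e he h => hdO (by
    obtain ⟨g, rfl⟩ := class_exists_conj hD he hd
    exact Subgroup.Normal.conj_mem inferInstance e ((QuotientGroup.eq_one_iff e).mp h) g)
  have hw : ∀ a ∈ π '' D, ∀ b ∈ π '' D, Commute a b → a = b := by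
    rintro _ ⟨a, ha, rfl⟩ _ ⟨b, hb, rfl⟩ hab
    rcases eq_or_commute_of_map_commute π hS ha hb hab with h | h
    · exact h
    · have h1 : π (a * b) = 1 := (QuotientGroup.eq_one_iff _).mpr (hH a ha b hb h)
      rw [map_mul] at h1
      rw [eq_inv_of_mul_eq_one_left h1, ← map_inv, inv_eq_self hS hb]
  refine eq_top_iff.mpr (hD.2.2 ▸ (Subgroup.closure_le _).mpr fun e he => ?_)
  rw [← mul_self_cancel hS hd e]
  refine mul_mem (Subgroup.mem_sup_left (Subgroup.mem_sup_left (Subgroup.mem_zpowers d))) ?_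
  have h3 : π (d * e) ∈ (P.mapSurjective hπ : Subgroup (G ⧸ O)) := by
    have h4 := mul_mem_pCore_three (image_set π hS hne) (image_conjClosed π hπ (class_conjClosed hD))
      (image_closure π hπ hD.2.2) hw ⟨d, hd, rfl⟩ ⟨e, he, rfl⟩
    rw [← map_mul] at h4
    exact (Fitting.mem_pCore_iff_forall_sylow.mp h4) (P.mapSurjective hπ)
  rw [Sylow.coe_mapSurjective] at h3
  obtain ⟨x, hx, hxe⟩ := h3
  have h5 : x⁻¹ * (d * e) ∈ O := QuotientGroup.eq.mp hxe
  rw [show d * e = x * (x⁻¹ * (d * e)) by group]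
  exact mul_mem (Subgroup.mem_sup_left (Subgroup.mem_sup_right hx)) (Subgroup.mem_sup_right h5)

end CfsgLib.ThreeTransp
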