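import Cfsg.Prelude.Def_Local
import Cfsg.Agent.Lib.ThreeTransp.Module
import Cfsg.Agent.Lib.Layer.Basic
import Cfsg.Agent.Lib.Fitting.Basic

/-!
A group with trivial centre whose generalized Fitting subgroup is an elementary abelian 2-group has
at most one generating class of 3-transpositions.
-/

set_option autoImplicit false
set_option linter.style.haveILetI false

namespace CfsgLib.ThreeTransp

open Cfsg CfsgLib.ThreeTransp.Relations

variable {G : Type*} [Group G] [Finite G] {V : Subgroup G} [V.Normal]

/-- Members commute as soon as their images modulo a normal 2-subgroup do. -/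
theorem commute_of_map_commute {D : Set G} (hS : IsThreeTranspositionSet D) (hV : IsPGroup 2 V)
    {a b : G} (ha : a ∈ D) (hb : b ∈ D)
    (h : Commute (QuotientGroup.mk' V a) (QuotientGroup.mk' V b)) : Commute a b := by
  rcases eq_or_commute_of_map_commute _ hS ha hb h with h' | h'
  · obtain ⟨k, hk⟩ := hV ⟨a * b, (QuotientGroup.eq_one_iff _).mp (by
      show QuotientGroup.mk' V (a * b) = 1
      rw [map_mul, h', ← map_mul, mul_self_eq_one hS hb, map_one])⟩
    exact commute_of_mul_pow_two_pow hS ha hb (by simpa using congrArg Subtype.val hk)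
  · exact h'

theorem class_unique {D E : Set G} (hD : IsThreeTranspositionClass D)
    (hE : IsThreeTranspositionClass E) (hZ : Subgroup.center G = ⊥)
    (hF : Cfsg.generalizedFittingSubgroup G = Cfsg.pCore 2 G)
    (hV : Cfsg.IsElementaryAbelian 2 (Cfsg.pCore 2 G)) : E ⊆ D := by
  haveI : Fact (Nat.Prime 2) := ⟨Nat.prime_two⟩
  set V := Cfsg.pCore 2 G with hVdef
  haveI : V.Normal := Fitting.pCore_normal 2
  have hVp : IsPGroup 2 V := Fitting.pCore_isPGroup 2
  have hC : Subgroup.centralizer (V : Set G) ≤ V := by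
    have h := Layer.centralizer_generalizedFitting_le (G := G)
    rwa [hF] at h
  letI : CommGroup ↥V := { (inferInstance : Group ↥V) with mul_comm := fun a b => hV.1.is_comm.comm a b }
  have hvv : ∀ v : ↥V, (v : G) * v = 1 := fun v => by rw [← pow_two]; exact hV.2 v v.2
  have hker : V ≤ (MulAut.conjNormal : G →* MulAut ↥V).ker := fun g hg => by
    rw [MonoidHom.mem_ker]
    ext v
    rw [MulAut.conjNormal_apply, MulAut.one_apply, mul_inv_eq_iff_eq_mul]
    exact congrArg Subtype.val (hV.1.is_comm.comm ⟨g, hg⟩ v)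
  set π := QuotientGroup.mk' V with hπdef
  set ρ := QuotientGroup.lift V (MulAut.conjNormal : G →* MulAut ↥V) hker with hρdef
  letI : DistribMulAction (G ⧸ V) (Additive ↥V) :=
    { smul := fun q m => Additive.ofMul (ρ q m.toMul)
      one_smul := fun m => by show Additive.ofMul (ρ 1 m.toMul) = m; simp
      mul_smul := fun a b m => by
        show Additive.ofMul (ρ (a * b) m.toMul) = Additive.ofMul (ρ a (ρ b m.toMul))
        simp
      smul_zero := fun a => by show Additive.ofMul (ρ a 1) = _; simp
      smul_add := fun a x y => by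
        show Additive.ofMul (ρ a (x.toMul * y.toMul)) = _
        rw [map_mul]; rfl }
  have hsmul : ∀ (g : G) (m : Additive ↥V),
      (((π g) • m).toMul : G) = g * (m.toMul : G) * g⁻¹ := fun _ _ => rfl
  have htwo : ∀ m : Additive ↥V, m + m = 0 := fun m => Additive.toMul.injective (Subtype.ext (hvv _))
  have hone : ∀ (g : G), π g = 1 ↔ g ∈ V := fun g => QuotientGroup.eq_one_iff g
  have hcore : Cfsg.pCore 2 (G ⧸ V) = ⊥ := by
    have hp : IsPGroup 2 ↥((Cfsg.pCore 2 (G ⧸ V)).comap π) := by
      refine (Fitting.pCore_isPGroup 2).comap_of_ker_isPGroup π ?_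
      rw [hπdef, QuotientGroup.ker_mk']
      exact hVp
    have hle := Fitting.le_pCore ((Fitting.pCore_normal (G := G ⧸ V) 2).comap π) hp
    rw [← Subgroup.map_comap_eq_self_of_surjective (QuotientGroup.mk'_surjective V) (Cfsg.pCore 2 (G ⧸ V))]
    exact le_bot_iff.mp ((Subgroup.map_mono hle).trans_eq
      (by rw [← hVdef, QuotientGroup.map_mk'_self]))
  have hcentral : ∀ u : G ⧸ V, u * u = 1 → u ∈ Subgroup.center (G ⧸ V) → u = 1 := by
    intro u hu huc
    have hn : (Subgroup.zpowers u).Normal := ⟨fun x hx g => by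
      rwa [Subgroup.mem_center_iff.mp (Subgroup.zpowers_le.mpr huc hx) g, mul_inv_cancel_right]⟩
    have hp : IsPGroup 2 ↥(Subgroup.zpowers u) := fun x => ⟨1, by
      obtain ⟨x, i, rfl⟩ := x
      refine Subtype.ext ?_
      show (u ^ i) ^ (2 ^ 1) = 1
      rw [pow_one, ← zpow_natCast, zpow_comm, zpow_natCast, pow_two, hu, one_zpow]⟩
    have h := Fitting.le_pCore hn hp (Subgroup.mem_zpowers u)
    rwa [hcore, Subgroup.mem_bot] at h
  have hnot : ∀ {D : Set G}, IsThreeTranspositionClass D → ∀ d ∈ D, π d ≠ 1 := by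
    intro D hD d hd h1
    have hgen : Subgroup.closure D ≤ V := (Subgroup.closure_le _).mpr fun x hx => by
      obtain ⟨g, rfl⟩ := class_exists_conj hD hd hx
      exact Subgroup.Normal.conj_mem inferInstance d ((hone d).mp h1) g
    rw [hD.2.2, top_le_iff] at hgen
    have hc : d ∈ Subgroup.center G := Subgroup.mem_center_iff.mpr fun g => congrArg Subtype.val
      (hV.1.is_comm.comm ⟨g, hgen ▸ Subgroup.mem_top g⟩ ⟨d, hgen ▸ Subgroup.mem_top d⟩)
    rw [hZ, Subgroup.mem_bot] at hc
    exact ne_one_of_mem hD.1 hd hc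
  have hdata : ∀ {D : Set G}, IsThreeTranspositionClass D → Module.Data (Additive ↥V) (π '' D) := by
    intro D hD
    have hS := hD.1
    have himg := class_image π (QuotientGroup.mk'_surjective V) hD (hnot hD)
    have hbeta : ∀ d ∈ D, ∀ m : Additive ↥V, ((Module.beta (π d) m).toMul : G) =
        ((m.toMul : G) * d * (m.toMul : G)⁻¹) * d := fun d hd m => by
      rw [inv_eq_of_mul_eq_one_right (hvv _)]
      show (m.toMul : G) * ((π d • m).toMul : G) = _
      rw [hsmul, inv_eq_self hS hd]
      group
    have himgd : ∀ d ∈ D, ∀ m : Additive ↥V,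
        π ((m.toMul : G) * d * (m.toMul : G)⁻¹) = π d := fun d hd m => by
      rw [map_mul, map_mul, map_inv, (hone _).mpr (m.toMul).2, one_mul, inv_one, mul_one]
    refine ⟨htwo, himg, sep_of_pCore himg.1 (class_conjClosed himg) hcore, ?_, ?_, ?_⟩
    · rintro _ ⟨d, hd, rfl⟩ _ ⟨f, hf, rfl⟩ hcom v
      refine Additive.toMul.injective (Subtype.ext ?_)
      rw [hsmul, hbeta d hd]
      have hd' := class_conjClosed hD (v.toMul : G) d hd
      have h1 : Commute f ((v.toMul : G) * d * (v.toMul : G)⁻¹) :=
        commute_of_map_commute hS hVp hf hd' ((himgd d hd v).symm ▸ hcom.symm)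
      have h2 : Commute f d := commute_of_map_commute hS hVp hf hd hcom.symm
      exact mul_inv_eq_iff_eq_mul.mpr (h1.mul_right h2).eq
    · rintro _ ⟨d, hd, rfl⟩ _ ⟨f, hf, rfl⟩ hn v hfix
      refine Additive.toMul.injective (Subtype.ext ?_)
      show ((Module.beta (π d) v).toMul : G) = 1
      have h0 := congrArg (fun m : Additive ↥V => (m.toMul : G)) hfix
      simp only [hsmul] at h0
      set w := ((Module.beta (π d) v).toMul : G) with hwdef
      have hw2 : w * w = 1 := hvv _
      have hd' := class_conjClosed hD (v.toMul : G) d hd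
      set d' := (v.toMul : G) * d * (v.toMul : G)⁻¹ with hd'def
      have hwd' : w * d = d' := by rw [hwdef, hbeta d hd, mul_self_cancel_right hS hd]
      have h1 : (d' * f) ^ 3 = 1 := mul_pow_three_of_not_commute hS hd' hf fun h => hn (by
        have := h.map π
        rwa [himgd d hd v] at this)
      have h2 : (d * f) ^ 3 = 1 := mul_pow_three_of_not_commute hS hd hf fun h => hn (h.map π)
      have hcd : Commute d w := by
        have h : d' * d' = 1 := mul_self_eq_one hS hd'
        rw [← hwd'] at h
        show d * w = w * d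
        calc d * w = w⁻¹ * ((w * d) * (w * d)) * d⁻¹ := by group
          _ = w * d := by rw [h, inv_eq_of_mul_eq_one_right hw2, inv_eq_self hS hd, mul_one]
      have hcf : Commute f w := mul_inv_eq_iff_eq_mul.mp h0
      rw [← hwd', mul_assoc, (hcd.mul_left hcf).symm.mul_pow, h2, mul_one, pow_succ, pow_two, hw2,
        one_mul] at h1
      exact h1
    · rintro _ ⟨d, hd, rfl⟩
      by_contra hno
      push Not at hno
      refine hnot hD d hd ((hone d).mpr (hC fun v hv => ?_))
      have h := congrArg (fun m : Additive ↥V => (m.toMul : G)) (hno (Additive.ofMul ⟨v, hv⟩))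
      simp only [hbeta d hd] at h
      have h' : v * d * v⁻¹ = d := by
        rw [eq_inv_of_mul_eq_one_left (show v * d * v⁻¹ * d = 1 from h), inv_eq_self hS hd]
      exact mul_inv_eq_iff_eq_mul.mp h'
  have hd₁ := hdata hD
  have himgEq : π '' D = π '' E := Module.eq_of_data hd₁ (hdata hE) hcentral
  have hlift : Module.Lift (π '' D)
      (fun q (v : Additive ↥V) => ∃ d ∈ D, π d = q ∧ d * (v.toMul : G) ∈ E) := by
    refine ⟨fun q hq => ?_, ?_, ?_, ?_⟩
    · obtain ⟨d, hd, rfl⟩ := hq
      obtain ⟨e, he, hed⟩ := (himgEq ▸ Set.mem_image_of_mem π hd : π d ∈ π '' E)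
      have hmem : d⁻¹ * e ∈ V := (hone _).mp (by rw [map_mul, map_inv, hed, inv_mul_cancel])
      exact ⟨Additive.ofMul ⟨_, hmem⟩, d, hd, rfl, by
        show d * (d⁻¹ * e) ∈ E
        rwa [mul_inv_cancel_left]⟩
    · rintro _ - v ⟨d, hd, rfl, he⟩
      refine Additive.toMul.injective (Subtype.ext ?_)
      rw [hsmul, inv_eq_self hD.1 hd]
      have h := mul_self_eq_one hE.1 he
      rw [← mul_assoc] at h
      exact (eq_inv_of_mul_eq_one_left h).trans (inv_eq_of_mul_eq_one_right (hvv _))
    · rintro _ - _ - hne hcom v v' ⟨d, hd, rfl, he⟩ ⟨g, hg, rfl, hf⟩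
      refine Additive.toMul.injective (Subtype.ext ?_)
      show ((π g • v).toMul : G) * (v'.toMul : G) = ((π d • v').toMul : G) * (v.toMul : G)
      rw [hsmul, hsmul, inv_eq_self hD.1 hd, inv_eq_self hD.1 hg]
      have hdg : Commute d g := commute_of_map_commute hD.1 hVp hd hg hcom
      have hef := commute_of_map_commute hE.1 hVp he hf (by
        rw [map_mul, map_mul, (hone _).mpr (v.toMul).2, (hone _).mpr (v'.toMul).2, mul_one, mul_one]
        exact hcom)
      have h := hef.eq
      set a := (v.toMul : G)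
      set b := (v'.toMul : G)
      calc g * a * g * b = g * d * (d * a * (g * b)) := by
            rw [show g * d * (d * a * (g * b)) = g * (d * d) * a * g * b by group,
              mul_self_eq_one hD.1 hd, mul_one]
        _ = g * (d * g) * b * d * a := by rw [h]; group
        _ = d * b * d * a := by rw [hdg.eq, mul_self_cancel hD.1 hg]
    · rintro _ - _ - hn v v' ⟨d, hd, rfl, he⟩ ⟨g, hg, rfl, hf⟩
      refine Additive.toMul.injective (Subtype.ext ?_)
      have hef : ¬ Commute (d * (v.toMul : G)) (g * (v'.toMul : G)) := fun h => hn (by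
        have h' := h.map π
        rwa [map_mul, map_mul, (hone _).mpr (v.toMul).2, (hone _).mpr (v'.toMul).2, mul_one, mul_one]
          at h')
      have h3 := mul_pow_three_of_not_commute hE.1 he hf hef
      have hx : (d * g) ^ 3 = 1 :=
        mul_pow_three_of_not_commute hD.1 hd hg fun h => hn (h.map π)
      set m := π g • v + v' with hm
      set q := (m.toMul : G) with hq
      have hxq : d * (v.toMul : G) * (g * (v'.toMul : G)) = d * g * q := by
        show _ = d * g * (((π g • v).toMul : G) * (v'.toMul : G))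
        rw [hsmul, inv_eq_self hD.1 hg]
        rw [show d * g * (g * (v.toMul : G) * g * (v'.toMul : G))
          = d * (g * g) * (v.toMul : G) * g * (v'.toMul : G) by group, mul_self_eq_one hD.1 hg]
        group
      rw [hxq] at h3
      rw [← map_mul π d g]
      show q * ((π (d * g) • m).toMul : G) * ((π (d * g) • π (d * g) • m).toMul : G) = 1
      rw [hsmul, hsmul, hsmul, ← hq]
      set x := d * g
      -- the three translates commute
      have hmem : ∀ y : G, y * q * y⁻¹ ∈ V := fun y =>
        Subgroup.Normal.conj_mem inferInstance _ (m.toMul).2 y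
      have hab : ∀ a ∈ V, ∀ b ∈ V, a * b = b * a := fun a ha b hb =>
        congrArg Subtype.val (hV.1.is_comm.comm ⟨a, ha⟩ ⟨b, hb⟩)
      calc q * (x * q * x⁻¹) * (x * (x * q * x⁻¹) * x⁻¹)
          = (x * q * x⁻¹) * ((x * x) * q * (x * x)⁻¹) * q := by
            rw [mul_assoc, hab q (m.toMul).2 _ (mul_mem (hmem x) (Subgroup.Normal.conj_mem inferInstance _ (hmem x) x))]
            group
        _ = (x * q) ^ 3 * (q⁻¹ * (x ^ 3)⁻¹ * q) := by simp only [pow_succ, pow_zero, one_mul]; group
        _ = 1 := by rw [h3, hx]; group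
  intro e he
  obtain ⟨d, hd, hde⟩ := (himgEq.symm ▸ Set.mem_image_of_mem π he : π e ∈ π '' D)
  have hmem : d⁻¹ * e ∈ V := (hone _).mp (by rw [map_mul, map_inv, hde, inv_mul_cancel])
  obtain ⟨u, hu⟩ := Module.mem_W_of_lift hd₁ hlift hcentral (fun c hc => by
    refine Additive.toMul.injective (Subtype.ext ?_)
    have hcc : (c.toMul : G) ∈ Subgroup.center G := Subgroup.mem_center_iff.mpr fun g =>
      mul_inv_eq_iff_eq_mul.mp (congrArg (fun m : Additive ↥V => (m.toMul : G)) (hc (π g)))
    rwa [hZ, Subgroup.mem_bot] at hcc) (Set.mem_image_of_mem π hd) (v := Additive.ofMul ⟨_, hmem⟩)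
    ⟨d, hd, rfl, by
      show d * (d⁻¹ * e) ∈ E
      rwa [mul_inv_cancel_left]⟩
  have h := congrArg (fun m : Additive ↥V => (m.toMul : G)) hu
  have h' : (u.toMul : G) * (d * (u.toMul : G) * d⁻¹) = d⁻¹ * e := h
  have he' : e = (d * (u.toMul : G)) * d * (d * (u.toMul : G))⁻¹ := by
    rw [mul_inv_rev, inv_eq_of_mul_eq_one_right (hvv _)]
    calc e = d * (d⁻¹ * e) := (mul_inv_cancel_left d e).symm
      _ = _ := by rw [← h']; group
  rw [he']
  exact class_conjClosed hD _ d hd

end CfsgLib.ThreeTransp
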